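/-
Lifting linear groups of order prime to the characteristic (namespace `Cfsg.Agent.TransPPrime`).

`exists_char`: a group of order prime to `p` with a faithful matrix representation of degree `n` over a
finite field of characteristic `p` has a faithful complex character of degree `n`.
-/
import Cfsg.Agent.Lib.Blocks.BrauerChar.Virtual
import Cfsg.Agent.Lib.Blocks.Induced

set_option autoImplicit false
set_option linter.unusedSectionVars false
set_option linter.style.haveILetI false
set_option maxHeartbeats 1000000
set_option synthInstance.maxHeartbeats 200000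

namespace Cfsg.Agent.TransPPrime

open Cfsg Cfsg.Agent.Blocks Cfsg.Agent.BrauerPairs Cfsg.Agent.BrauerChar Cfsg.Agent.EqualDegree
  Representation

variable {G : Type*} [Group G] [Finite G] {p : ℕ} {M : Ideal AlgInt} {hM : IsPModular p M}

theorem sum_pow_eq_zero {R : Type*} [CommRing R] [IsDomain R] {w : R} {m : ℕ} (hw : w ^ m = 1)
    (h1 : w ≠ 1) : ∑ i ∈ Finset.range m, w ^ i = 0 := by
  have h := geom_sum_mul w m
  rw [hw, sub_self] at h
  exact (mul_eq_zero.1 h).resolve_right (sub_ne_zero.2 h1)

theorem zR_isPrimitiveRoot {m : ℕ} (hm : 0 < m) : IsPrimitiveRoot (zR hM m) m := by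
  have h := Complex.isPrimitiveRoot_exp m hm.ne'
  have hc : ((zR hM m : locRing hM) : ℂ) = zeta m := by rw [zR, dif_pos hm]
  refine ⟨zR_pow hM hm, fun l hl => h.dvd_of_pow_eq_one l ?_⟩
  have h2 := congrArg (fun x : locRing hM => (x : ℂ)) hl
  simp only [SubmonoidClass.coe_pow, OneMemClass.coe_one, hc] at h2
  exact h2

/-- The spectral idempotents are orthogonal. -/
theorem eig_mul_eig_of_ne {y : G} {i j : ℕ} (hi : i < orderOf y) (hj : j < orderOf y) (hij : i ≠ j) :
    eig hM y i * eig hM y j = 0 := by
  have hm := orderOf_pos y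
  set m := orderOf y with hmd
  have hz := zR_isPrimitiveRoot (hM := hM) hm
  set z := zR hM m with hzd
  conv_lhs => arg 1; rw [eig]
  rw [smul_mul_assoc, Finset.sum_mul]
  simp only [smul_mul_assoc, el_pow_mul_eig, smul_smul, ← hmd, ← hzd]
  rw [← Finset.sum_smul]
  have hsum : ∑ t ∈ Finset.range m, z ^ ((m - i % m) * t) * z ^ (j * t) = 0 := by
    rw [Finset.sum_congr rfl fun t _ => show z ^ ((m - i % m) * t) * z ^ (j * t) =
      (z ^ (m - i % m + j)) ^ t by rw [← pow_add, ← add_mul, pow_mul]]
    refine sum_pow_eq_zero (by rw [← pow_mul, mul_comm, pow_mul, hz.pow_eq_one, one_pow]) ?_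
    intro h
    refine hij ?_
    rw [Nat.mod_eq_of_lt hi] at h
    have h2 : z ^ j = z ^ i := by
      have h3 : z ^ (m - i + j) * z ^ i = z ^ i := by rw [h, one_mul]
      rwa [← pow_add, show m - i + j + i = m + j by omega, pow_add, hz.pow_eq_one, one_mul] at h3
    exact (hz.pow_inj hj hi h2).symm
  rw [hsum, zero_smul, smul_zero]

/-- The spectral idempotents sum to one. -/
theorem sum_eig {y : G} (hy : ¬ p ∣ orderOf y) :
    ∑ j ∈ Finset.range (orderOf y), eig hM y j = 1 := by
  have hm := orderOf_pos y
  set m := orderOf y with hmd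
  have hz := zR_isPrimitiveRoot (hM := hM) hm
  set z := zR hM m with hzd
  simp only [eig, ← hmd, ← hzd]
  rw [← Finset.smul_sum, Finset.sum_comm]
  simp only [← Finset.sum_smul]
  rw [Finset.sum_eq_single 0]
  · simp only [mul_zero, pow_zero, Finset.sum_const, Finset.card_range, nsmul_one, Star.el]
    rw [smul_smul, hmd, invR_mul hy, one_smul, MonoidAlgebra.one_def]
  · intro t ht ht0
    have htm := Finset.mem_range.1 ht
    have h0 : ∑ j ∈ Finset.range m, z ^ ((m - j % m) * t) = 0 := by
      have e : ∀ j ∈ Finset.range m, z ^ ((m - j % m) * t) = (z ^ ((m - 1) * t)) ^ j := by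
        intro j hj
        have hjm := Finset.mem_range.1 hj
        rw [Nat.mod_eq_of_lt hjm, ← pow_mul]
        have hzi : z ^ ((m - j) * t) * z ^ (j * t) = 1 := by
          rw [← pow_add, ← add_mul, Nat.sub_add_cancel hjm.le, pow_mul, hz.pow_eq_one, one_pow]
        have hzj : z ^ ((m - 1) * t * j) * z ^ (j * t) = 1 := by
          rw [← pow_add, show (m - 1) * t * j + j * t = ((m - 1) + 1) * (t * j) by ring,
            Nat.sub_add_cancel hm, pow_mul, hz.pow_eq_one, one_pow]
        have hu : z ^ (j * t) ≠ 0 := fun h => by rw [h, mul_zero] at hzi; exact zero_ne_one hzi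
        exact mul_right_cancel₀ hu (hzi.trans hzj.symm)
      rw [Finset.sum_congr rfl e]
      refine sum_pow_eq_zero (by rw [← pow_mul, mul_comm, pow_mul, hz.pow_eq_one, one_pow]) ?_
      intro h
      have h2 : z ^ t = 1 := by
        have h3 : z ^ ((m - 1) * t) * z ^ t = z ^ t := by rw [h, one_mul]
        rwa [← pow_add, ← Nat.succ_mul, show (m - 1).succ = m by omega, pow_mul, hz.pow_eq_one,
          one_pow, eq_comm] at h3
      exact hz.pow_ne_one_of_pos_of_lt ht0 htm h2
    rw [h0, zero_smul]
  · exact fun h => absurd (Finset.mem_range.2 hm) h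

/-- **Lifting.** A faithful representation of a group of order prime to `p` over a finite field of
characteristic `p` gives a faithful complex character of the same degree. -/
theorem exists_char [hp : Fact p.Prime] {F : Type*} [Field F] [Finite F] [CharP F p] {n : ℕ}
    (hG : ¬ p ∣ Nat.card G) (ρ : G →* Matrix (Fin n) (Fin n) F) (hρ : Function.Injective ρ) :
    ∃ χ : G → ℂ, IsCharacter G χ ∧ χ 1 = (n : ℂ) ∧ ∀ g : G, χ g = χ 1 → g = 1 := by
  classical
  obtain ⟨M, hM⟩ := Blocks.exists_isPModular hp.out
  letI := ModRep.resField hM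
  haveI := ModRep.isAlgClosed_res hM
  haveI := res_charP hM
  letI : Algebra (ZMod p) F := ZMod.algebra F p
  letI : Algebra (ZMod p) (Res M) := ZMod.algebra (Res M) p
  let f : F →ₐ[ZMod p] Res M := IsAlgClosed.lift
  let π : Representation (Res M) G (Fin n → Res M) :=
    { toFun := fun g => Matrix.toLin' ((ρ g).map f)
      map_one' := by rw [map_one, Matrix.map_one f (map_zero f) (map_one f), Matrix.toLin'_one]; rfl
      map_mul' := fun a b => by
        rw [map_mul, Matrix.map_mul, Matrix.toLin'_mul]; rfl }
  have hπ : Function.Injective π := by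
    intro a b h
    refine hρ (Matrix.map_injective f.toRingHom.injective ?_)
    exact Matrix.toLin'.injective h
  have hreg : ∀ y : G, ¬ p ∣ orderOf y := fun y h => hG (h.trans (orderOf_dvd_natCard y))
  let P : G → ℕ → Module.End (Res M) (Fin n → Res M) := fun y j =>
    π.asAlgebraHom (Star.rd hM (eig hM y j))
  let r : G → ℕ → ℕ := fun y j => rk π (Star.rd hM (eig hM y j))
  let χ : G → ℂ := fun y => ∑ j ∈ Finset.range (orderOf y), zeta (orderOf y) ^ j * (r y j : ℂ)
  have hP1 : ∀ y, ∑ j ∈ Finset.range (orderOf y), P y j = 1 := fun y => by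
    simp only [P]
    rw [← map_sum, ← map_sum, sum_eig (hreg y), map_one, map_one]
  have hP0 : ∀ y i j, i < orderOf y → j < orderOf y → i ≠ j → ∀ v, P y i (P y j v) = 0 := by
    intro y i j hi hj hij v
    simp only [P]
    rw [← Module.End.mul_apply, ← map_mul, ← map_mul, eig_mul_eig_of_ne hi hj hij, map_zero, map_zero,
      LinearMap.zero_apply]
  have hPP : ∀ y j v, P y j (P y j v) = P y j v := by
    intro y j v
    simp only [P]
    rw [← Module.End.mul_apply, ← map_mul, ← map_mul, eig_idem (hreg y)]
  have hrn : ∀ y, ∑ j ∈ Finset.range (orderOf y), r y j = n := by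
    intro y
    let Φ : (Fin n → Res M) →ₗ[Res M] ((j : Fin (orderOf y)) → LinearMap.range (P y j)) :=
      LinearMap.pi fun j : Fin (orderOf y) => (P y j).rangeRestrict
    have hinj : Function.Injective Φ := by
      refine (injective_iff_map_eq_zero Φ).2 fun v hv => ?_
      have h := LinearMap.congr_fun (hP1 y) v
      rw [LinearMap.sum_apply, Module.End.one_apply] at h
      rw [← h]
      refine Finset.sum_eq_zero fun j hj => ?_
      exact congrArg Subtype.val (congrFun hv ⟨j, Finset.mem_range.1 hj⟩)
    have hsurj : Function.Surjective Φ := by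
      intro w
      choose u hu using fun j : Fin (orderOf y) => (w j).2
      refine ⟨∑ j : Fin (orderOf y), P y (j : ℕ) (u j), funext fun i => Subtype.ext ?_⟩
      show P y (i : ℕ) (∑ j : Fin (orderOf y), P y (j : ℕ) (u j)) = (w i : Fin n → Res M)
      rw [map_sum, Finset.sum_eq_single i (fun j _ hji => hP0 y i j i.2 j.2
        (fun e => hji (Fin.ext e.symm)) _) (fun h => absurd (Finset.mem_univ _) h), hPP, hu i]
    have h := (LinearEquiv.ofBijective Φ ⟨hinj, hsurj⟩).finrank_eq
    rw [Module.finrank_fin_fun, Module.finrank_pi_fintype] at h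
    rw [Finset.sum_range (fun j => r y j)]
    exact h.symm
  refine ⟨χ, ?_, ?_, ?_⟩
  · obtain ⟨m, hm⟩ := exists_mult_aux π
    have hχ : χ = ∑ s : SimpR hM G, m s • brChar hM s := by
      funext y
      rw [Finset.sum_apply]
      simp only [χ, Pi.smul_apply, nsmul_eq_mul, brChar, if_pos (hreg y), Finset.mul_sum]
      rw [Finset.sum_comm]
      refine Finset.sum_congr rfl fun j _ => ?_
      simp only [r]
      rw [hm _ (by rw [← map_mul, eig_idem (hreg y)]), Nat.cast_sum, Finset.mul_sum]
      refine Finset.sum_congr rfl fun s _ => ?_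
      rw [Nat.cast_mul, rkS]
      ring
    rw [hχ]
    exact Char.IsCharacter.sum _ fun s _ =>
      Char.IsCharacter.nsmul (isCharacter_brChar_of_not_dvd hG s) _
  · have h := hrn 1
    simp only [χ, orderOf_one, Finset.sum_range_one, pow_zero, one_mul] at h ⊢
    exact_mod_cast h
  · intro y hy
    have h1 : χ 1 = (n : ℂ) := by
      have h := hrn 1
      simp only [χ, orderOf_one, Finset.sum_range_one, pow_zero, one_mul] at h ⊢
      exact_mod_cast h
    rw [h1] at hy
    set o := orderOf y with hod
    have ho := orderOf_pos y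
    have hprim : IsPrimitiveRoot (zeta o) o := Complex.isPrimitiveRoot_exp o ho.ne'
    have hre : ∑ j ∈ Finset.range o, ((r y j : ℝ) * (1 - (zeta o ^ j).re)) = 0 := by
      have h2 := congrArg Complex.re hy
      simp only [χ, ← hod, Complex.re_sum, Complex.mul_re, Complex.natCast_re, Complex.natCast_im,
        mul_zero, sub_zero] at h2
      have h3 : ∑ j ∈ Finset.range o, ((r y j : ℝ)) = n := by exact_mod_cast hrn y
      calc ∑ j ∈ Finset.range o, ((r y j : ℝ) * (1 - (zeta o ^ j).re))
          = ∑ j ∈ Finset.range o, ((r y j : ℝ)) - ∑ j ∈ Finset.range o, (zeta o ^ j).re * (r y j : ℝ) := by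
            rw [← Finset.sum_sub_distrib]
            exact Finset.sum_congr rfl fun j _ => by ring
        _ = 0 := by rw [h2, h3, sub_self]
    have hnorm : ∀ j, ‖zeta o ^ j‖ = 1 := fun j => by
      rw [norm_pow, hprim.norm'_eq_one ho.ne', one_pow]
    have hle : ∀ j, (zeta o ^ j).re ≤ 1 := fun j => (Complex.re_le_norm _).trans (hnorm j).le
    have hzero := (Finset.sum_eq_zero_iff_of_nonneg fun j _ =>
      mul_nonneg (Nat.cast_nonneg _) (sub_nonneg.2 (hle j))).1 hre
    have hP : ∀ j ∈ Finset.range o, j ≠ 0 → P y j = 0 := by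
      intro j hj hj0
      have hne : (zeta o ^ j).re ≠ 1 := by
        intro h
        refine hprim.pow_ne_one_of_pos_of_lt hj0 (Finset.mem_range.1 hj) ?_
        have h2 := hnorm j
        rw [Complex.norm_def, Real.sqrt_eq_one, Complex.normSq_apply, h] at h2
        have him : (zeta o ^ j).im = 0 := by nlinarith
        exact Complex.ext (by simpa using h) (by simpa using him)
      have hr0 : r y j = 0 := by
        have h := (mul_eq_zero.1 (hzero j hj)).resolve_right (sub_ne_zero.2 (Ne.symm hne))
        exact_mod_cast h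
      exact LinearMap.range_eq_bot.1 (Submodule.finrank_eq_zero.1 hr0)
    have hP01 : P y 0 = 1 := by
      rw [← hP1 y, Finset.sum_eq_single 0 hP fun h => absurd (Finset.mem_range.2 ho) h]
    have hsum := congrArg (fun a => π.asAlgebraHom (Star.rd hM a))
      (sum_zeta_smul_eig (hM := hM) (hreg y))
    simp only [map_sum, Star.rd_smul, map_smul, ← hod] at hsum
    rw [Finset.sum_eq_single 0 (fun j hj hj0 => by rw [show π.asAlgebraHom (Star.rd hM (eig hM y j)) =
      P y j from rfl, hP j hj hj0, smul_zero]) (fun h => absurd (Finset.mem_range.2 ho) h)] at hsum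
    simp only [pow_zero, OneMemClass.coe_one, res_one hM, one_smul] at hsum
    rw [show π.asAlgebraHom (Star.rd hM (eig hM y 0)) = P y 0 from rfl, hP01, Star.el, Star.rd,
      MonoidAlgebra.mapRingHom_single, map_one, asAlgebraHom_single, one_smul] at hsum
    exact hπ (hsum.symm.trans (map_one π).symm)

end Cfsg.Agent.TransPPrime
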