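/-
Faithful characters of small degree (namespace `Cfsg.Agent.TransPPrime`).

* `exists_char_of_linear`: a faithful linear action in characteristic prime to the group order gives a faithful character
* `sylow_normal_of_large`: a Sylow `r`-subgroup is normal if `2 n + 1 < r`, or `2 n + 1 = r` and `3 ∤ |G|` (Feit–Thompson)
* `commute_of_lt`: a Sylow `r`-subgroup is abelian if `n < r`
-/
import Cfsg.Agent.Lib.TransPPrime.Lift
import Cfsg.Agent.S0899
import Cfsg.Agent.S4503
import Cfsg.Agent.S4504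
import Cfsg.Agent.Lib.PSL2.Existence
import Mathlib.LinearAlgebra.Matrix.ToLin

set_option autoImplicit false
set_option linter.unusedSectionVars false

namespace Cfsg.Agent.TransPPrime

open Cfsg

theorem exists_char_of_linear {G : Type*} [Group G] [Finite G] {p : ℕ} [Fact p.Prime] {K : Type*} [Field K]
    [Finite K] [CharP K p] {V : Type*} [AddCommGroup V] [Module K V] [FiniteDimensional K V]
    (hG : ¬ p ∣ Nat.card G) (ρ : G →* (V ≃ₗ[K] V)) (hρ : Function.Injective ρ) :
    ∃ χ : G → ℂ, IsCharacter G χ ∧ χ 1 = (Module.finrank K V : ℂ) ∧ ∀ g : G, χ g = χ 1 → g = 1 := by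
  let b := Module.finBasis K V
  let ρ' : G →* Matrix (Fin (Module.finrank K V)) (Fin (Module.finrank K V)) K :=
    { toFun := fun g => LinearMap.toMatrixAlgEquiv b (ρ g : V →ₗ[K] V)
      map_one' := by rw [map_one]; exact map_one (LinearMap.toMatrixAlgEquiv b)
      map_mul' := fun a c => by
        rw [← map_mul (LinearMap.toMatrixAlgEquiv b)]
        congr 1
        rw [map_mul]; rfl }
  exact exists_char hG ρ' fun a c h => hρ (LinearEquiv.toLinearMap_injective
    ((LinearMap.toMatrixAlgEquiv b).injective h))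

theorem charDegree_eq_of_apply_one {G : Type*} [Group G] {χ : G → ℂ} {n : ℕ} (h : χ 1 = (n : ℂ)) :
    charDegree χ = n := by
  simp [charDegree, h]

theorem commute_of_lt {G : Type*} [Group G] [Finite G] {χ : G → ℂ} (hχ : IsCharacter G χ)
    (hfaith : ∀ g : G, χ g = χ 1 → g = 1) {n : ℕ} (hn : χ 1 = (n : ℂ)) {r : ℕ} [Fact r.Prime] (hr : n < r)
    {R : Subgroup G} (hR : IsPGroup r R) : ∀ x ∈ R, ∀ y ∈ R, x * y = y * x := by
  classical
  letI := Fintype.ofFinite G
  intro x hx y hy
  refine congrArg Subtype.val (Blichfeldt.commute_of_primes_gt (Char.IsCharacter.restrict hχ R)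
    (fun g hg => Subtype.ext (hfaith g hg)) (n := n) hn (fun q hq hd => ?_) ⟨x, hx⟩ ⟨y, hy⟩)
  obtain ⟨k, hk⟩ := IsPGroup.iff_card.mp hR
  rw [hk] at hd
  rw [(Nat.prime_dvd_prime_iff_eq hq (Fact.out : r.Prime)).mp (hq.dvd_of_dvd_pow hd)]
  exact hr

theorem sylow_normal_of_large {G : Type*} [Group G] [Finite G] {χ : G → ℂ} (hχ : IsCharacter G χ)
    (hfaith : ∀ g : G, χ g = χ 1 → g = 1) {n : ℕ} (hn : χ 1 = (n : ℂ)) {r : ℕ} [hr' : Fact r.Prime]
    (hr : 2 * n + 1 < r ∨ (2 * n + 1 = r ∧ ¬ 3 ∣ Nat.card G ∧ 0 < n)) (P : Sylow r G) : (P : Subgroup G).Normal := by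
  classical
  obtain ⟨m, ρ, rfl⟩ := hχ
  obtain rfl : m = n := by
    rw [Representation.char_one, Module.finrank_fin_fun] at hn
    exact_mod_cast hn
  have hρ : Function.Injective ρ := by
    intro a b hab
    refine inv_mul_eq_one.mp (hfaith (a⁻¹ * b) ?_)
    show (LinearMap.trace ℂ _) (ρ (a⁻¹ * b)) = (LinearMap.trace ℂ _) (ρ 1)
    rw [map_mul, ← hab, ← map_mul, inv_mul_cancel]
  refine S0899.result m ρ hρ r (Or.inr ⟨by omega, fun K hK Q => ?_⟩) P
  obtain ⟨k, hk⟩ := IsPGroup.iff_card.mp Q.isPGroup'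
  have hdvd := Subgroup.card_subgroup_dvd_card (Q : Subgroup K)
  rcases Nat.eq_zero_or_pos k with rfl | hk0
  · rw [pow_zero, Subgroup.card_eq_one] at hk
    rw [hk]
    exact Subgroup.normal_bot
  have hk1 : k = 1 := by
    by_contra hne
    exact hK ((pow_dvd_pow r (by omega : 2 ≤ k)).trans (hk ▸ hdvd))
  rw [hk1, pow_one] at hk
  by_contra hQ
  have hdeg : charDegree (Representation.character (ρ.comp K.subtype)) = m :=
    charDegree_eq_of_apply_one (by rw [Representation.char_one, Module.finrank_fin_fun])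
  have hnn : ∀ N : Subgroup K, N.Normal → Nat.card N ≠ r := by
    intro N hN hcard
    refine hQ ?_
    obtain ⟨S, hS⟩ := (IsPGroup.of_card (n := 1) (by rw [hcard, pow_one]) : IsPGroup r N).exists_le_sylow
    have hSN : N = (S : Subgroup K) := by
      refine Subgroup.eq_of_le_of_card_ge hS ?_
      have : Nat.card (S : Subgroup K) = Nat.card (Q : Subgroup K) := by
        rw [S.card_eq_multiplicity, Q.card_eq_multiplicity]
      rw [this, hk, hcard]
    haveI : (S : Subgroup K).Normal := hSN ▸ hN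
    haveI := Sylow.unique_of_normal S this
    rw [Subsingleton.elim Q S]
    exact hSN ▸ hN
  rcases hr with hr | ⟨hr, h3, -⟩
  swap
  · obtain ⟨e⟩ := S4504.result (G := K) r hr'.out (hk ▸ hdvd) hK hnn
      (Representation.character (ρ.comp K.subtype)) ⟨m, ρ.comp K.subtype, rfl⟩
      (fun g hg => Subtype.ext (hfaith (g : G) hg)) (by rw [hdeg]; exact hr)
    refine h3 (dvd_trans ?_ (Subgroup.card_subgroup_dvd_card K))
    refine dvd_trans ?_ (Subgroup.card_quotient_dvd_card (Subgroup.center K))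
    rw [Nat.card_congr e.toEquiv]
    have hmul := PSL2.card_psl_mul (F := ZMod r)
    rw [Nat.card_zmod] at hmul
    have h31 : 3 ∣ r * ((r + 1) * (r - 1)) := by
      have := hr'.out.two_le
      rcases (show r % 3 = 0 ∨ r % 3 = 1 ∨ r % 3 = 2 by omega) with h | h | h
      · exact (Nat.dvd_of_mod_eq_zero h).mul_right _
      · exact (((show 3 ∣ r - 1 by omega)).mul_left _).mul_left _
      · exact (((show 3 ∣ r + 1 by omega)).mul_right _).mul_left _
    rw [← hmul] at h31
    refine (Nat.prime_three.dvd_mul.1 h31).resolve_left fun h => ?_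
    have := Nat.le_of_dvd (by norm_num) (h.trans (Nat.gcd_dvd_left 2 (r - 1)))
    omega
  have h := S4503.result (G := K) r hr'.out (hk ▸ hdvd) hK hnn
    (Representation.character (ρ.comp K.subtype)) ⟨m, ρ.comp K.subtype, rfl⟩
    (fun g hg => Subtype.ext (hfaith (g : G) hg))
  rw [hdeg] at h
  omega

end Cfsg.Agent.TransPPrime
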