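/-
Transitive linear groups of order prime to the characteristic with a self-centralizing cyclic normal subgroup
(namespace `Cfsg.Agent.TransPPrime`).

* `TransLin`: the setting, `IsGamma`: the conclusion "lies in `ΓL₁`" in group theoretic terms
* `isGamma_of_abelian`: it suffices to have an abelian normal subgroup not fitting into a proper subfield
* `IsGamma.upper`: `k + m ≤ p ^ n` with the three equality cases
* `IsGamma.lower`: `p ≤ k` for `n ≥ 2`
-/
import Cfsg.Agent.EqLemmas
import Cfsg.Agent.Lib.Nearfield.Algebra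
import Mathlib.GroupTheory.GroupAction.CardCommute

set_option autoImplicit false
set_option linter.unusedSectionVars false
set_option linter.style.haveILetI false

namespace Cfsg.Agent.TransPPrime

open Module

variable {p : ℕ} [hp : Fact p.Prime] {V : Type*} [AddCommGroup V] [Module (ZMod p) V] [Finite V]
  [Nontrivial V] {H : Type*} [Group H] [Finite H] (ρ : H →* (V ≃ₗ[ZMod p] V))

/-- A faithful transitive linear group of order prime to the characteristic. -/
structure TransLin : Prop where
  inj : Function.Injective ρ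
  trans : ∀ v w : V, v ≠ 0 → w ≠ 0 → ∃ g : H, ρ g v = w
  coprime : ¬ p ∣ Nat.card H

/-- A self-centralizing cyclic normal subgroup in the position of a Singer cycle. -/
structure IsGamma (C : Subgroup H) : Prop where
  normal : C.Normal
  cyclic : IsCyclic C
  self_centralizing : Subgroup.centralizer (C : Set H) ≤ C
  card_dvd : Nat.card C ∣ p ^ finrank (ZMod p) V - 1
  index_dvd : C.index ∣ finrank (ZMod p) V
  free : ∀ c ∈ C, c ≠ 1 → ∀ v : V, v ≠ 0 → ρ c v ≠ v
  reduced : ∀ h : H, h ∉ C → ∀ D : Subgroup H, D ≤ C → (∀ x ∈ D, x * h = h * x) →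
    ∃ d : ℕ, 0 < d ∧ 2 * d ≤ finrank (ZMod p) V ∧ Nat.card D ∣ p ^ d - 1

theorem natCard_eq : Nat.card V = p ^ finrank (ZMod p) V := by
  rw [Module.natCard_eq_pow_finrank (K := ZMod p) (V := V), Nat.card_zmod]

theorem two_le_card : 2 ≤ p ^ finrank (ZMod p) V :=
  le_trans hp.out.two_le (Nat.le_self_pow (Module.finrank_pos (R := ZMod p) (M := V)).ne' p)

theorem mul_eq_finrank {d m : ℕ} (h : Nat.card V = (p ^ d) ^ m) : d * m = finrank (ZMod p) V := by
  rw [natCard_eq (p := p), ← pow_mul] at h
  exact (Nat.pow_right_injective hp.out.two_le h).symm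

theorem normal_of_le_cyclic {G : Type*} [Group G] [Finite G] {C D : Subgroup G} (hC : C.Normal) [IsCyclic C]
    (h : D ≤ C) : D.Normal := by
  classical
  letI := Fintype.ofFinite C
  refine ⟨fun x hx g => ?_⟩
  set S := Finset.univ.filter (fun y : C => y ^ Nat.card D = 1)
  have hS : S.card ≤ Nat.card D := IsCyclic.card_pow_eq_one_le (α := C) Nat.card_pos
  have hpow : ∀ y : G, y ∈ D → y ^ Nat.card D = 1 := fun y hy => by
    have := congrArg Subtype.val (pow_card_eq_one' (x := (⟨y, hy⟩ : D)))
    rwa [SubgroupClass.coe_pow, OneMemClass.coe_one] at this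
  let T := (Finset.univ.filter fun y : C => (y : G) ∈ D)
  have hT : T.card = Nat.card D := by
    rw [show T.card = Fintype.card {y : C // (y : G) ∈ D} from (Fintype.card_subtype _).symm,
      ← Nat.card_eq_fintype_card]
    exact Nat.card_congr ⟨fun y => ⟨y.1, y.2⟩, fun y => ⟨⟨y, h y.2⟩, y.2⟩, fun y => rfl, fun y => rfl⟩
  have hsub : T ⊆ S := fun y hy => by
    rw [Finset.mem_filter] at hy ⊢
    exact ⟨hy.1, Subtype.ext (by simpa using hpow _ hy.2)⟩
  have heq := Finset.eq_of_subset_of_card_le hsub (hT ▸ hS)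
  have hm : (⟨g * x * g⁻¹, hC.conj_mem x (h hx) g⟩ : C) ∈ S := by
    rw [Finset.mem_filter]
    refine ⟨Finset.mem_univ _, Subtype.ext ?_⟩
    simp [conj_pow, hpow x hx]
  rw [← heq, Finset.mem_filter] at hm
  exact hm.2

theorem isGamma_of_abelian (hρ : TransLin ρ) (A : Subgroup H) [A.Normal]
    (hA : ∀ a ∈ A, ∀ b ∈ A, a * b = b * a)
    (hbig : ∀ d : ℕ, 0 < d → d ∣ finrank (ZMod p) V → d < finrank (ZMod p) V → ¬ Nat.card A ∣ p ^ d - 1) :
    ∃ C : Subgroup H, IsGamma ρ C := by
  obtain ⟨d, m, hd, hm, hV, hAd, hidx, -, -, hone⟩ :=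
    Nearfield.exists_degree ρ hρ.inj hρ.trans A hA
  have hdm := mul_eq_finrank hV
  obtain rfl : m = 1 := by
    by_contra hne
    refine hbig d hd ⟨m, hdm.symm⟩ ?_ hAd
    calc d < d * m := lt_mul_of_one_lt_right hd (by omega)
      _ = _ := hdm
  rw [mul_one] at hdm
  obtain ⟨hCc, -⟩ := hone rfl
  set C := Subgroup.centralizer (A : Set H) with hC
  have hCn : C.Normal := inferInstanceAs (Subgroup.centralizer (A : Set H)).Normal
  have hAC : A ≤ C := fun a ha => Subgroup.mem_centralizer_iff.2 fun b hb => hA b hb a ha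
  obtain ⟨d', m', hd', hm', hV', hCd, -, hCy, -, -⟩ :=
    Nearfield.exists_degree ρ hρ.inj hρ.trans C hCc
  have hdm' := mul_eq_finrank hV'
  have hd'n : d' = finrank (ZMod p) V := by
    by_contra hne
    refine hbig d' hd' ⟨m', hdm'.symm⟩ ?_ ((Subgroup.card_dvd_of_le hAC).trans hCd)
    have := Nat.le_mul_of_pos_right d' hm'
    omega
  refine ⟨C, hCn, hCy, ?_, hd'n ▸ hCd, ?_, ?_, ?_⟩
  · exact Subgroup.centralizer_le hAC
  · rw [← hdm]; exact hidx
  · intro c hc hc1 v hv hcv
    haveI : IsCyclic C := hCy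
    have hZn := normal_of_le_cyclic hCn (Subgroup.zpowers_le.2 hc)
    refine hc1 (hρ.inj (LinearEquiv.ext fun w => ?_))
    rw [map_one]
    rcases eq_or_ne w 0 with rfl | hw
    · simp
    obtain ⟨g, rfl⟩ := hρ.trans v w hv hw
    obtain ⟨k, hk⟩ := Subgroup.mem_zpowers_iff.1 (hZn.conj_mem c (Subgroup.mem_zpowers c) g⁻¹)
    rw [inv_inv] at hk
    have hfix : ∀ x ∈ Subgroup.zpowers c, ρ x v = v := by
      intro x hx
      let S : Subgroup H :=
        { carrier := {y | ρ y v = v}
          one_mem' := by simp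
          mul_mem' := fun {a b} ha hb => by
            show ρ (a * b) v = v
            rw [map_mul, LinearEquiv.mul_apply, hb, ha]
          inv_mem' := fun {a} ha => by
            show ρ a⁻¹ v = v
            conv_lhs => rw [← ha]
            rw [← LinearEquiv.mul_apply, ← map_mul, inv_mul_cancel, map_one]; rfl }
      exact Subgroup.zpowers_le.2 (show c ∈ S from hcv) hx
    have h1 : ρ (g⁻¹ * c * g) v = v := hfix _ ⟨k, hk⟩
    rw [map_mul, map_mul, LinearEquiv.mul_apply, LinearEquiv.mul_apply] at h1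
    have h2 := congrArg (ρ g) h1
    rwa [← LinearEquiv.mul_apply, ← map_mul, mul_inv_cancel, map_one] at h2
  · intro h hh D hD hDh
    haveI : IsCyclic C := hCy
    haveI := normal_of_le_cyclic hCn hD
    have hDc : ∀ a ∈ D, ∀ b ∈ D, a * b = b * a := fun a ha b hb => hCc a (hD ha) b (hD hb)
    obtain ⟨e, l, he, hl, hVe, hDd, -, -, -, hone'⟩ :=
      Nearfield.exists_degree ρ hρ.inj hρ.trans D hDc
    refine ⟨e, he, ?_, hDd⟩
    by_contra hlt
    obtain rfl : l = 1 := by
      by_contra hne
      have := mul_eq_finrank hVe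
      have : e * 2 ≤ e * l := Nat.mul_le_mul_left e (by omega)
      omega
    refine hh (Subgroup.mem_centralizer_iff.2 fun a ha => ?_)
    exact (hone' rfl).1 a (Subgroup.mem_centralizer_iff.2 fun b hb => hCc b (hD hb) a (hAC ha)) h
      (Subgroup.mem_centralizer_iff.2 fun b hb => hDh b hb)

variable {ρ}

theorem IsGamma.index_pos {C : Subgroup H} (_hC : IsGamma ρ C) : 0 < C.index :=
  Nat.pos_of_ne_zero C.index_ne_zero_of_finite

theorem sub_one_dvd_card (hρ : TransLin ρ) :
    ∀ v : V, v ≠ 0 → ∃ S : Subgroup H, (∀ g : H, g ∈ S ↔ ρ g v = v) ∧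
      Nat.card H = (p ^ finrank (ZMod p) V - 1) * Nat.card S := by
  classical
  intro v hv
  letI : MulAction H V :=
    { smul := fun g w => ρ g w
      one_smul := fun w => show ρ 1 w = w by rw [map_one]; rfl
      mul_smul := fun g k w => show ρ (g * k) w = ρ g (ρ k w) by rw [map_mul]; rfl }
  refine ⟨MulAction.stabilizer H v, fun g => Iff.rfl, ?_⟩
  have horb : MulAction.orbit H v = {w : V | w ≠ 0} := by
    ext w
    constructor
    · rintro ⟨g, rfl⟩
      exact fun h => hv ((ρ g).map_eq_zero_iff.1 h)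
    · intro hw
      exact hρ.trans v w hv hw
  rw [← Subgroup.index_mul_card (MulAction.stabilizer H v), MulAction.index_stabilizer, horb,
    ← natCard_eq (p := p) (V := V)]
  congr 1
  rw [show {w : V | w ≠ 0} = ({0} : Set V)ᶜ from rfl, Set.ncard_compl, Set.ncard_singleton]

theorem IsGamma.stab_dvd (hρ : TransLin ρ) {C : Subgroup H} (hC : IsGamma ρ C) {v : V} (hv : v ≠ 0)
    {S : Subgroup H} (hS : ∀ g : H, g ∈ S ↔ ρ g v = v) : Nat.card S ∣ C.index := by
  haveI := hC.normal
  refine Subgroup.card_dvd_of_injective ((QuotientGroup.mk' C).comp S.subtype) ?_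
  rw [injective_iff_map_eq_one]
  intro g hg
  have hgC : (g : H) ∈ C := (QuotientGroup.eq_one_iff (g : H)).1 hg
  by_contra hne
  exact hC.free g hgC (fun h => hne (Subtype.ext h)) v hv ((hS g).1 g.2)

theorem IsGamma.card_fix_le (hρ : TransLin ρ) {C : Subgroup H} (hC : IsGamma ρ C) {h : H} (hh : h ∉ C) :
    Nat.card (C ⊓ Subgroup.centralizer ({h} : Set H) : Subgroup H) ≤
      p ^ (finrank (ZMod p) V / 2) - 1 := by
  obtain ⟨d, hd, hdn, hdvd⟩ := hC.reduced h hh _ inf_le_left fun x hx =>
    (Subgroup.mem_centralizer_singleton_iff.1 hx.2)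
  have h1 : 1 < p ^ d := Nat.one_lt_pow hd.ne' hp.out.one_lt
  refine (Nat.le_of_dvd (by omega) hdvd).trans ?_
  have : p ^ d ≤ p ^ (finrank (ZMod p) V / 2) :=
    Nat.pow_le_pow_right hp.out.pos (by omega)
  omega

theorem IsGamma.count (hρ : TransLin ρ) {C : Subgroup H} (hC : IsGamma ρ C) :
    Nat.card (ConjClasses H) * C.index ≤
      Nat.card C + (C.index ^ 2 - 1) * (p ^ (finrank (ZMod p) V / 2) - 1) := by
  classical
  haveI := hC.normal
  letI := Fintype.ofFinite H
  set f := p ^ (finrank (ZMod p) V / 2) - 1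
  set c := Nat.card C
  set e := C.index
  have hcard : Nat.card H = c * e := (Subgroup.card_mul_index C).symm
  let CS : H → Finset H := fun x => Finset.univ.filter fun y => Commute x y
  have hpairs : Nat.card (ConjClasses H) * Nat.card H = ∑ x : H, (CS x).card := by
    rw [← card_comm_eq_card_conjClasses_mul_card,
      Nat.card_congr (Equiv.subtypeProdEquivSigmaSubtype Commute), Nat.card_sigma]
    exact Finset.sum_congr rfl fun x _ => by rw [Nat.card_eq_fintype_card, Fintype.card_subtype]
  have hCcard : (Finset.univ.filter fun y : H => y ∈ C).card = c := by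
    rw [← Fintype.card_subtype, ← Nat.card_eq_fintype_card]
  have hout : ∀ x : H, x ∉ C → ((CS x).filter (· ∈ C)).card ≤ f ∧ (CS x).card ≤ e * f := by
    intro x hx
    set D := C ⊓ Subgroup.centralizer ({x} : Set H) with hD
    have hDf := hC.card_fix_le hρ hx
    have h1 : ((CS x).filter (· ∈ C)).card = Nat.card D := by
      rw [Nat.card_eq_fintype_card, Fintype.card_of_subtype]
      intro y
      simp only [CS, Finset.mem_filter, Finset.mem_univ, true_and, hD, Subgroup.mem_inf,
        Subgroup.mem_centralizer_singleton_iff]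
      exact ⟨fun h => ⟨h.2, h.1.eq.symm⟩, fun h => ⟨(Commute.symm h.2 : Commute x y), h.1⟩⟩
    refine ⟨h1.trans_le hDf, ?_⟩
    set K := Subgroup.centralizer ({x} : Set H) with hK
    have h2 : (CS x).card = Nat.card K := by
      rw [Nat.card_eq_fintype_card, Fintype.card_of_subtype]
      intro y
      simp only [CS, Finset.mem_filter, Finset.mem_univ, true_and, hK,
        Subgroup.mem_centralizer_singleton_iff]
      exact ⟨fun h => h.eq.symm, fun h => (Commute.symm h : Commute x y)⟩
    rw [h2, ← Subgroup.card_mul_index (C.subgroupOf K), mul_comm]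
    refine Nat.mul_le_mul ?_ ?_
    · exact Nat.le_of_dvd hC.index_pos (Subgroup.index_comap C K.subtype ▸
        (by simpa using Subgroup.relIndex_dvd_index_of_normal C K))
    · refine le_of_eq_of_le ?_ hDf
      rw [← Subgroup.inf_subgroupOf_right C K]
      exact Nat.card_congr (Subgroup.subgroupOfEquivOfLe inf_le_right).toEquiv
  have hin : ∑ x ∈ Finset.univ.filter (fun y : H => y ∈ C), (CS x).card ≤ c * c + (e - 1) * c * f := by
    have h0 : ∀ x : H, (CS x).card =
        ((CS x).filter (· ∈ C)).card + ((CS x).filter (· ∉ C)).card := fun x =>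
      (Finset.card_filter_add_card_filter_not _).symm
    rw [Finset.sum_congr rfl fun x _ => h0 x, Finset.sum_add_distrib]
    refine Nat.add_le_add ?_ ?_
    · refine (Finset.sum_le_card_nsmul _ _ c fun x _ => ?_).trans (by rw [hCcard, smul_eq_mul])
      refine le_of_le_of_eq (Finset.card_le_card fun y hy => ?_) hCcard
      simp only [CS, Finset.mem_filter, Finset.mem_univ, true_and] at hy ⊢
      exact hy.2
    · simp only [CS, Finset.card_filter, Finset.filter_filter]
      rw [Finset.sum_comm]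
      simp only [Finset.sum_filter]
      calc ∑ y : H, ∑ x : H, (if x ∈ C then if Commute x y ∧ y ∉ C then 1 else 0 else 0)
          ≤ ∑ y : H, if y ∉ C then f else 0 := Finset.sum_le_sum fun y _ => by
            by_cases hy : y ∈ C
            · rw [if_neg (not_not.2 hy)]
              refine le_of_eq (Finset.sum_eq_zero fun x _ => ?_)
              simp [hy]
            · rw [if_pos hy]
              refine le_trans (le_of_eq ?_) (hout y hy).1
              rw [Finset.card_filter, Finset.sum_filter]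
              refine Finset.sum_congr rfl fun x _ => ?_
              simp only [hy, not_false_eq_true, and_true, CS, Finset.mem_filter, Finset.mem_univ, true_and]
              by_cases hxy : Commute x y <;> by_cases hx : x ∈ C <;>
                simp [hxy, hx, Commute.symm_iff (a := y)]
        _ = (e - 1) * c * f := by
            rw [← Finset.sum_filter, Finset.sum_const, smul_eq_mul]
            congr 1
            have h3 := Finset.card_filter_add_card_filter_not (s := Finset.univ) (fun y : H => y ∈ C)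
            rw [hCcard, Finset.card_univ, ← Nat.card_eq_fintype_card, hcard] at h3
            rw [Nat.sub_one_mul, mul_comm e c]
            omega
  have hsum : Nat.card (ConjClasses H) * (c * e) ≤ c * c + (e - 1) * c * f + (e - 1) * c * (e * f) := by
    rw [← hcard, hpairs, ← Finset.sum_filter_add_sum_filter_not Finset.univ (fun y : H => y ∈ C)]
    refine Nat.add_le_add hin ((Finset.sum_le_card_nsmul _ _ (e * f) fun x hx =>
      (hout x (Finset.mem_filter.1 hx).2).2).trans (le_of_eq ?_))
    have h3 := Finset.card_filter_add_card_filter_not (s := Finset.univ) (fun y : H => y ∈ C)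
    rw [hCcard, Finset.card_univ, ← Nat.card_eq_fintype_card, hcard] at h3
    rw [smul_eq_mul]
    congr 1
    rw [Nat.sub_one_mul, mul_comm e c]
    omega
  refine Nat.le_of_mul_le_mul_left ?_ (Nat.card_pos (α := C))
  refine le_trans (le_of_eq (by ring)) (hsum.trans (le_of_eq ?_))
  obtain ⟨e', he'⟩ : ∃ e', e = e' + 1 := ⟨e - 1, by have := hC.index_pos; omega⟩
  rw [he', Nat.add_sub_cancel, show (e' + 1) ^ 2 - 1 = e' * e' + 2 * e' by
    rw [show (e' + 1) ^ 2 = e' * e' + 2 * e' + 1 by ring, Nat.add_sub_cancel]]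
  ring

theorem two_mul_add_one_lt_pow {p : ℕ} (hp : 2 ≤ p) :
    ∀ j : ℕ, 3 ≤ j ∨ (3 ≤ p ∧ 2 ≤ j) ∨ (4 ≤ p ∧ 1 ≤ j) → 2 * j + 1 < p ^ j := by
  intro j h
  induction j with
  | zero => omega
  | succ j ih =>
    rcases Nat.lt_or_ge j 3 with hj | hj
    · interval_cases j <;> simp only [zero_add, pow_one, Nat.reduceAdd, Nat.reduceMul] <;>
        rcases h with h | ⟨h, h'⟩ | ⟨h, h'⟩ <;> try omega
      all_goals first
        | (have := Nat.pow_le_pow_left h 2; omega)
        | (have := Nat.pow_le_pow_left h 3; omega)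
        | (have := Nat.pow_le_pow_left hp 3; omega)
    · have h1 := ih (Or.inl hj)
      rw [pow_succ]
      have : p ^ j * 2 ≤ p ^ j * p := Nat.mul_le_mul_left _ hp
      omega

theorem num_cases {p n : ℕ} (hp : p.Prime) (hn : 2 ≤ n) :
    (n + 1) * p ^ (n / 2) < p ^ n ∨ (p = 2 ∧ (n = 2 ∨ n = 4)) ∨ (p = 2 ∧ n = 3) ∨ (p = 3 ∧ n = 2) := by
  by_cases h : 3 ≤ n - n / 2 ∨ (3 ≤ p ∧ 2 ≤ n - n / 2) ∨ (4 ≤ p ∧ 1 ≤ n - n / 2)
  · left
    have h1 := two_mul_add_one_lt_pow hp.two_le _ h
    calc (n + 1) * p ^ (n / 2) < p ^ (n - n / 2) * p ^ (n / 2) :=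
          Nat.mul_lt_mul_of_pos_right (by omega) (pow_pos hp.pos _)
      _ = p ^ n := by rw [← pow_add]; congr 1; omega
  · right
    have := hp.two_le
    omega

theorem card_conjClasses_le {G : Type*} [Group G] [Finite G] : Nat.card (ConjClasses G) ≤ Nat.card G :=
  Nat.card_le_card_of_surjective ConjClasses.mk ConjClasses.mk_surjective

/-- The upper bound. -/
theorem IsGamma.upper (hρ : TransLin ρ) {C : Subgroup H} (hC : IsGamma ρ C) {m : ℕ}
    (hm : Nat.card H = (p ^ finrank (ZMod p) V - 1) * m) :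
    Nat.card (ConjClasses H) + m ≤ p ^ finrank (ZMod p) V ∧
      (Nat.card (ConjClasses H) + m = p ^ finrank (ZMod p) V → IsCyclic H ∨
        (p ^ finrank (ZMod p) V = 8 ∧ Nat.card H = 21) ∨ (p ^ finrank (ZMod p) V = 9 ∧ Nat.card H = 16)) := by
  haveI := hC.normal
  haveI := hC.cyclic
  have hn1 : 1 ≤ finrank (ZMod p) V := Module.finrank_pos
  have hq : 2 ≤ p ^ finrank (ZMod p) V := two_le_card
  obtain ⟨v, hv⟩ := exists_ne (0 : V)
  obtain ⟨S, hS, hScard⟩ := sub_one_dvd_card hρ v hv
  have hSm : Nat.card S = m := Nat.eq_of_mul_eq_mul_left (by omega) (hScard.symm.trans hm)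
  have hme : m ∣ C.index := hSm ▸ hC.stab_dvd hρ hv hS
  have hcount := hC.count hρ
  have hce : Nat.card C * C.index = Nat.card H := Subgroup.card_mul_index C
  have hen : C.index ∣ finrank (ZMod p) V := hC.index_dvd
  rcases eq_or_ne C.index 1 with he1 | he1
  · have hm1 : m = 1 := Nat.dvd_one.1 (he1 ▸ hme)
    have h1 := card_conjClasses_le (G := H)
    rw [hm1, mul_one] at hm
    refine ⟨by omega, fun _ => Or.inl ?_⟩
    have h2 : IsCyclic C := hC.cyclic
    rw [Subgroup.index_eq_one.1 he1] at h2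
    exact (Subgroup.topEquiv (G := H)).isCyclic.1 h2
  set n := finrank (ZMod p) V with hn
  set k := Nat.card (ConjClasses H)
  set e := C.index with he
  set q := p ^ n
  set x := p ^ (n / 2) with hx
  have hx1 : 1 ≤ x := Nat.one_le_pow _ _ hp.out.pos
  have hepos : 0 < e := hC.index_pos
  have hene : e ≤ n := Nat.le_of_dvd (by omega) hen
  have hmle : m ≤ e := Nat.le_of_dvd hepos hme
  have hnum := num_cases (n := n) hp.out (by omega)
  have hodd : p = 2 → ¬ 2 ∣ e := fun h2 h => hρ.coprime (h2 ▸ h.trans (Dvd.intro_left _ hce))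
  obtain ⟨f, hf⟩ : ∃ f, x = f + 1 := ⟨x - 1, by omega⟩
  obtain ⟨e', he'⟩ : ∃ e', e = e' + 2 := ⟨e - 2, by omega⟩
  obtain ⟨q', hq'⟩ : ∃ q', q = q' + 1 := ⟨q - 1, by omega⟩
  rw [hf, Nat.add_sub_cancel] at hcount
  rw [hq', Nat.add_sub_cancel] at hm
  have hsq : e ^ 2 - 1 = (e' + 1) * (e' + 3) := by
    rw [he', show (e' + 2) ^ 2 = (e' + 1) * (e' + 3) + 1 by ring, Nat.add_sub_cancel]
  rw [hsq] at hcount
  have hA : (k + m) * e * e ≤ q' * m + (e' + 1) * (e' + 3) * f * e + m * e * e := by
    have := Nat.mul_le_mul_right e hcount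
    calc (k + m) * e * e = k * e * e + m * e * e := by ring
      _ ≤ (Nat.card C + (e' + 1) * (e' + 3) * f) * e + m * e * e := Nat.add_le_add_right this _
      _ = _ := by rw [add_mul, hce, hm]
  rcases eq_or_ne ((n + 1) * x ≤ q) False with hbad | hgood
  · simp only [eq_iff_iff, iff_false, not_le] at hbad
    exfalso
    rcases hnum with h | ⟨h2, h⟩ | ⟨h2, h3⟩ | ⟨h2, h3⟩
    · rw [← hx] at h; exact absurd h (not_lt.2 hbad.le)
    · have := hodd h2
      rcases h with h | h <;> rw [h] at hen <;>
        (have := Nat.le_of_dvd (by norm_num) hen; interval_cases e <;> omega)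
    · rw [hx, show q = p ^ n from rfl, h2, h3] at hbad
      norm_num at hbad
    · rw [hx, show q = p ^ n from rfl, h2, h3] at hbad
      norm_num at hbad
  have hle : (n + 1) * x ≤ q := by simpa using hgood
  -- `k e + m e ≤ q e`
  have hB : (e + 1) * x ≤ q := le_trans (Nat.mul_le_mul_right x (by omega)) hle
  rw [hq', he', hf] at hB
  have hC' : (k + m) * e * e ≤ (q' + (e' + 1) * (e' + 3) * f + e * e) * e := by
    refine hA.trans ?_
    have : q' * m ≤ q' * e := Nat.mul_le_mul_left _ hmle
    have : m * e * e ≤ e * e * e := by gcongr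
    nlinarith
  have hD : (k + m) * e ≤ q' + (e' + 1) * (e' + 3) * f + e * e := Nat.le_of_mul_le_mul_right hC' hepos
  have hE : q' + (e' + 1) * (e' + 3) * f + e * e ≤ q * e := by
    rw [hq', he']
    nlinarith [Nat.mul_le_mul_left (e' + 1) hB]
  refine ⟨Nat.le_of_mul_le_mul_right (hD.trans hE) hepos, fun heq => Or.inr ?_⟩
  rw [heq] at hA hD
  have h3 : q * e = q' + (e' + 1) * (e' + 3) * f + e * e := le_antisymm hD hE
  have hlt : ¬ ((n + 1) * x < q) := by
    intro h
    have h5 : (e + 1) * x < q := lt_of_le_of_lt (Nat.mul_le_mul_right x (by omega)) h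
    rw [hq', he', hf] at h5
    rw [hq', he'] at h3
    nlinarith [Nat.mul_le_mul_left (e' + 1) (Nat.lt_iff_add_one_le.1 h5)]
  have hmeq : m = e := by
    by_contra hne
    have h6 : q' * m + q' ≤ q' * e := by
      have := Nat.mul_le_mul_left q' (show m + 1 ≤ e by omega)
      linarith
    have h7 : m * e * e ≤ e * e * e := by gcongr
    have h8 : q * e * e = (q' + (e' + 1) * (e' + 3) * f + e * e) * e := by rw [h3]
    nlinarith
  rcases hnum with h | ⟨h2, h⟩ | ⟨h2, h3⟩ | ⟨h2, h3⟩
  · exact absurd h hlt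
  · exfalso
    have := hodd h2
    rcases h with h | h <;> rw [h] at hen <;>
      (have := Nat.le_of_dvd (by norm_num) hen; interval_cases e <;> omega)
  · left
    have h8 : q = 8 := by rw [show q = p ^ n from rfl, h2, h3]; rfl
    have he3 : e = 3 := by
      rw [h3] at hen
      exact ((Nat.dvd_prime Nat.prime_three).1 hen).resolve_left he1
    refine ⟨h8, ?_⟩
    rw [hm, hmeq, he3]
    omega
  · right
    have h8 : q = 9 := by rw [show q = p ^ n from rfl, h2, h3]; rfl
    have he2 : e = 2 := by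
      rw [h3] at hen
      exact ((Nat.dvd_prime Nat.prime_two).1 hen).resolve_left he1
    refine ⟨h8, ?_⟩
    rw [hm, hmeq, he2]
    omega

/-- The lower bound. -/
theorem IsGamma.lower (hρ : TransLin ρ) {C : Subgroup H} (hC : IsGamma ρ C)
    (hn : 2 ≤ finrank (ZMod p) V) : p ≤ Nat.card (ConjClasses H) := by
  classical
  haveI := hC.normal
  haveI := hC.cyclic
  letI := Fintype.ofFinite H
  obtain ⟨v, hv⟩ := exists_ne (0 : V)
  obtain ⟨S, -, hScard⟩ := sub_one_dvd_card hρ v hv
  set n := finrank (ZMod p) V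
  set e := C.index
  have hp2 := hp.out.two_le
  have hp2n : p * p ≤ p ^ n := by rw [← pow_two]; exact Nat.pow_le_pow_right hp.out.pos hn
  have hHq : p ^ n - 1 ≤ Nat.card H := by rw [hScard]; exact Nat.le_mul_of_pos_right _ Nat.card_pos
  have hce : Nat.card C * e = Nat.card H := Subgroup.card_mul_index C
  have hpp : p + 1 ≤ p * p := by nlinarith
  by_cases hCtop : C = ⊤
  · have hinj : Function.Injective (ConjClasses.mk (α := H)) := fun a b h => by
      obtain ⟨g, hg⟩ := isConj_iff.1 (ConjClasses.mk_eq_mk_iff_isConj.1 h)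
      letI := IsCyclic.commGroup (α := C)
      have h1 : (g : H) * a = a * g := congrArg Subtype.val
        (mul_comm (⟨g, hCtop ▸ Subgroup.mem_top g⟩ : C) ⟨a, hCtop ▸ Subgroup.mem_top a⟩)
      rwa [h1, mul_inv_cancel_right] at hg
    rw [← Nat.card_congr (Equiv.ofBijective _ ⟨hinj, ConjClasses.mk_surjective⟩)]
    omega
  obtain ⟨h₀, hh₀⟩ : ∃ h, h ∉ C := by
    by_contra hall
    push Not at hall
    exact hCtop ((Subgroup.eq_top_iff' C).2 hall)
  -- classes inside `C`
  let g : C → ConjClasses H := fun x => ConjClasses.mk (x : H)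
  have hfib : ∀ a : C, (Finset.univ.filter fun x : C => g x = g a).card ≤ e := by
    intro a
    rw [show e = Nat.card (H ⧸ C) from rfl, ← Fintype.card_subtype, ← Nat.card_eq_fintype_card]
    have : ∀ x : {x : C // g x = g a}, ∃ h : H, h * (a : H) * h⁻¹ = (x.1 : H) := fun x =>
      isConj_iff.1 (ConjClasses.mk_eq_mk_iff_isConj.1 x.2).symm
    choose h hh using this
    refine Nat.card_le_card_of_injective (fun x => (QuotientGroup.mk (h x) : H ⧸ C)) fun x y hxy => ?_
    refine Subtype.ext (Subtype.ext ?_)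
    have hd : (h x)⁻¹ * h y ∈ C := QuotientGroup.eq.1 hxy
    letI := IsCyclic.commGroup (α := C)
    have hcm : ((h x)⁻¹ * h y) * (a : H) = (a : H) * ((h x)⁻¹ * h y) :=
      congrArg Subtype.val (mul_comm (⟨_, hd⟩ : C) a)
    rw [← hh x, ← hh y]
    calc h x * (a : H) * (h x)⁻¹
        = h x * ((a : H) * ((h x)⁻¹ * h y)) * (h y)⁻¹ := by group
      _ = h x * (((h x)⁻¹ * h y) * (a : H)) * (h y)⁻¹ := by rw [hcm]
      _ = _ := by group
  have himg : (Finset.univ.image g).card + 1 ≤ Nat.card (ConjClasses H) := by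
    rw [Nat.card_eq_fintype_card, ← Finset.card_univ]
    refine Nat.succ_le_of_lt (Finset.card_lt_card ?_)
    rw [Finset.ssubset_univ_iff]
    intro h
    obtain ⟨c, -, hc⟩ := Finset.mem_image.1 (h ▸ Finset.mem_univ (ConjClasses.mk h₀))
    obtain ⟨y, hy⟩ := isConj_iff.1 (ConjClasses.mk_eq_mk_iff_isConj.1 hc)
    exact hh₀ (hy ▸ hC.normal.conj_mem _ c.2 y)
  have hcC : Nat.card C ≤ (Finset.univ.image g).card * e := by
    rw [Nat.card_eq_fintype_card, ← Finset.card_univ, mul_comm]
    refine Finset.card_le_mul_card_image Finset.univ e fun b hb => ?_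
    obtain ⟨a, -, rfl⟩ := Finset.mem_image.1 hb
    exact hfib a
  have hene : e ≤ n := Nat.le_of_dvd (by omega) hC.index_dvd
  by_contra hlt
  push Not at hlt
  have h1 : Nat.card H ≤ (p - 2) * (n * n) := by
    rw [← hce]
    calc Nat.card C * e ≤ ((Finset.univ.image g).card * e) * e := Nat.mul_le_mul_right _ hcC
      _ ≤ ((p - 2) * n) * n := by gcongr; omega
      _ = _ := by ring
  have h2 : ∀ j, 2 ≤ j → (p - 2) * (j * j) + 2 ≤ p ^ j := by
    intro j hj
    induction j, hj using Nat.le_induction with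
    | base =>
      obtain ⟨t, rfl⟩ : ∃ t, p = t + 2 := ⟨p - 2, by omega⟩
      rw [Nat.add_sub_cancel]
      nlinarith
    | succ j hj ih =>
      rw [pow_succ]
      rcases eq_or_lt_of_le hp2 with h | h
      · rw [← h] at ih ⊢
        omega
      · have h3 : (p - 2) * ((j + 1) * (j + 1)) ≤ 3 * ((p - 2) * (j * j)) := by
          rw [← mul_assoc 3, mul_comm 3 (p - 2), mul_assoc (p - 2) 3]
          refine Nat.mul_le_mul_left _ ?_
          nlinarith
        have : p ^ j * 3 ≤ p ^ j * p := Nat.mul_le_mul_left _ h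
        omega
  have := h2 n hn
  omega

end Cfsg.Agent.TransPPrime
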