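/-
Good primitive prime divisors of `p ^ n - 1` for odd primes `p` (namespace `Cfsg.Agent.TransPPrime`).

* `exists_good`: a primitive prime `r` with `2 n + 1 < r`, or `2 n + 1 = r` and `p = 3`, or `r ^ 2 ∣ p ^ n - 1`,
  apart from `(n, p) ∈ {(4, 3), (6, 3), (6, 5), (6, 17)}`.
-/
import Cfsg.Agent.Lib.Zsigmondy.Large

set_option autoImplicit false

namespace Cfsg.Agent.TransPPrime

open Polynomial Cfsg.Agent.Zsigmondy

/-- `r` is a good primitive divisor. -/
def IsGood (p n r : ℕ) : Prop :=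
  r ∣ p ^ n - 1 ∧ (∀ i : ℕ, i < n → 1 ≤ i → ¬ r ∣ p ^ i - 1) ∧
    (2 * n + 1 < r ∨ (2 * n + 1 = r ∧ p = 3) ∨ r ^ 2 ∣ p ^ n - 1)

instance (p n r : ℕ) : Decidable (IsGood p n r) := inferInstanceAs (Decidable (_ ∧ _ ∧ _))

theorem cyclotomic_le_of_no_good {p n : ℕ} (hp : 2 ≤ p) (hn : 2 < n)
    (hno : ∀ r : ℕ, r.Prime → ¬ IsGood p n r) :
    ((cyclotomic n ℤ).eval (p : ℤ)).natAbs ≤ (n + 1) * ((2 * n + 1) * n) := by
  set N := ((cyclotomic n ℤ).eval (p : ℤ)).natAbs with hN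
  have hdvd : ∀ {s : ℕ}, s ∣ N → (s : ℤ) ∣ (cyclotomic n ℤ).eval (p : ℤ) := fun h => Int.natCast_dvd.2 h
  have hNd : N ∣ p ^ n - 1 := by
    have h := eval_dvd (x := (p : ℤ)) (cyclotomic.dvd_X_pow_sub_one n ℤ)
    simp only [eval_sub, eval_pow, eval_X, eval_one] at h
    have h' := Int.natAbs_dvd_natAbs.2 h
    have hpos : 1 ≤ p ^ n := Nat.one_le_pow _ _ (by omega)
    rwa [show (p : ℤ) ^ n - 1 = ((p ^ n - 1 : ℕ) : ℤ) by push_cast [Nat.cast_sub hpos]; rfl, Int.natAbs_natCast] at h'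
  have hprim : ∀ r : ℕ, r.Prime → r ∣ N → orderOf (p : ZMod r) = n →
      (r = n + 1 ∨ r = 2 * n + 1) ∧ ¬ r ^ 2 ∣ N := by
    intro r hr hrN ho
    haveI := Fact.mk hr
    obtain ⟨hrp, -⟩ := exists_eq_pow_mul_orderOf hr (by omega) (hdvd hrN)
    obtain ⟨h1, h2⟩ := primitive_of_orderOf_eq hr hrp ho
    have hnl := hno r hr
    simp only [IsGood, not_and_or, not_or] at hnl
    rcases hnl with h | h | ⟨h, -, hsq⟩
    · exact absurd h1 h
    · exact absurd (fun i hi hi1 => h2 i hi1 hi) h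
    · have hd : n ∣ r - 1 := ho ▸ ZMod.orderOf_dvd_card_sub_one (by rwa [Ne, ZMod.natCast_eq_zero_iff])
      have := hr.two_le
      obtain ⟨k, hk⟩ := hd
      refine ⟨?_, fun h' => hsq (h'.trans hNd)⟩
      rcases Nat.lt_or_ge k 3 with hk3 | hk3
      · interval_cases k <;> omega
      · have : n * 3 ≤ n * k := Nat.mul_le_mul_left n hk3
        omega
  let r₀ := Finset.sup n.primeFactors id
  have himp : ∀ r : ℕ, r.Prime → r ∣ N → orderOf (p : ZMod r) ≠ n → r = r₀ := by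
    intro r hr hrN ho
    obtain ⟨j, hj0, hj, -⟩ := imprimitive hr (by omega) (hdvd hrN) ho
    refine le_antisymm (Finset.le_sup (f := id) (Nat.mem_primeFactors.2
      ⟨hr, by rw [hj]; exact (dvd_pow_self r hj0.ne').mul_right _, by omega⟩)) (Finset.sup_le fun s hs => ?_)
    obtain ⟨hs, hsn, -⟩ := Nat.mem_primeFactors.1 hs
    exact prime_le_of_imprimitive hr (by omega) (hdvd hrN) ho hs hsn
  have hsq : Squarefree N := by
    rw [Nat.squarefree_iff_prime_squarefree]
    intro r hr hrr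
    have hrN : r ∣ N := (dvd_mul_left r r).trans hrr
    rw [← pow_two] at hrr
    by_cases ho : orderOf (p : ZMod r) = n
    · exact (hprim r hr hrN ho).2 hrr
    · refine not_sq_dvd_cyclotomic hr hn hp (hdvd hrN) ho ?_
      exact_mod_cast hdvd hrr
  have hsub : N.primeFactors ⊆ {n + 1, 2 * n + 1, r₀} := fun r hr => by
    obtain ⟨hr, hrN, -⟩ := Nat.mem_primeFactors.1 hr
    by_cases ho : orderOf (p : ZMod r) = n
    · rcases (hprim r hr hrN ho).1 with h | h <;> simp [h]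
    · simp [himp r hr hrN ho]
  have hr0 : r₀ ≤ n := Finset.sup_le fun s hs => Nat.le_of_mem_primeFactors hs
  have hr1 : 1 ≤ r₀ := by
    obtain ⟨s, hs, hsn⟩ := Nat.exists_prime_and_dvd (by omega : n ≠ 1)
    exact hs.pos.trans_le (Finset.le_sup (f := id) (Nat.mem_primeFactors.2 ⟨hs, hsn, by omega⟩))
  rw [← Nat.prod_primeFactors_of_squarefree hsq]
  refine (Finset.prod_le_prod_of_subset_of_one_le' hsub fun i hi _ => ?_).trans ?_
  · simp only [Finset.mem_insert, Finset.mem_singleton] at hi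
    omega
  · rw [Finset.prod_insert (by simp only [Finset.mem_insert, Finset.mem_singleton]; omega),
      Finset.prod_pair (by omega)]
    exact Nat.mul_le_mul_left _ (Nat.mul_le_mul_left _ hr0)

theorem totient_check :
    ∀ n < 801, 43 ≤ n → 4 * ((n + 1) * ((2 * n + 1) * n)) < 3 ^ n.totient := by decide +kernel

theorem lt_forty_three' {n : ℕ} (h : 3 ^ n.totient ≤ 4 * ((n + 1) * ((2 * n + 1) * n))) : n < 43 := by
  by_contra hn
  have h2 := (le_two_mul_totient_sq n).1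
  suffices n.totient ≤ 20 by
    have : n.totient ^ 2 ≤ 20 ^ 2 := Nat.pow_le_pow_left this 2
    exact absurd (totient_check n (by omega) (by omega)) (not_lt.2 h)
  by_contra hf
  have key : ∀ f, 21 ≤ f → 4 * (30 * f ^ 6) < 3 ^ f := by
    intro f hf
    induction f, hf using Nat.le_induction with
    | base => norm_num
    | succ f hf ih =>
      rw [pow_succ 3 f]
      have : (f + 1) ^ 6 ≤ 3 * f ^ 6 := by
        calc (f + 1) ^ 6 = ((f + 1) ^ 2) ^ 3 := by ring
          _ ≤ ((f ^ 2 + 3 * f)) ^ 3 := Nat.pow_le_pow_left (by nlinarith) 3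
          _ = (f + 3) ^ 3 * f ^ 3 := by ring
          _ ≤ (3 * f ^ 3) * f ^ 3 := by gcongr; nlinarith [Nat.mul_le_mul_left (f ^ 2) hf, Nat.mul_le_mul_left f hf]
          _ = _ := by ring
      omega
  have := key n.totient (by omega)
  have hmul : (n + 1) * ((2 * n + 1) * n) ≤ 30 * n.totient ^ 6 := by
    have h1 : 1 ≤ n.totient ^ 2 := Nat.one_le_pow _ _ (by omega)
    calc (n + 1) * ((2 * n + 1) * n)
        ≤ (3 * n.totient ^ 2) * ((5 * n.totient ^ 2) * (2 * n.totient ^ 2)) :=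
          Nat.mul_le_mul (by omega) (Nat.mul_le_mul (by omega) h2)
      _ = _ := by ring
  omega

/-- Witnesses. -/
def goodWitness : List (ℕ × ℕ × ℕ) :=
  [(3, 3, 13), (3, 5, 31), (3, 7, 19), (3, 11, 19), (3, 13, 61), (3, 17, 307), (4, 5, 13), (4, 7, 5),
    (4, 11, 61), (4, 13, 17), (4, 17, 29), (4, 19, 181), (4, 23, 53), (5, 3, 11), (5, 5, 71), (6, 7, 43),
    (6, 11, 37), (6, 13, 157), (6, 19, 7), (6, 23, 13), (6, 29, 271), (6, 31, 7), (6, 37, 31), (6, 41, 547),
    (6, 43, 139), (7, 3, 1093), (8, 3, 41), (8, 5, 313), (8, 7, 1201), (9, 3, 757), (10, 3, 61), (10, 5, 521),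
    (10, 7, 191), (12, 3, 73), (12, 5, 601), (12, 7, 181), (12, 11, 1117), (14, 3, 547), (14, 5, 449),
    (15, 3, 4561), (16, 3, 193), (18, 3, 37), (18, 5, 5167), (20, 3, 1181), (22, 3, 67), (24, 3, 6481),
    (30, 3, 271), (42, 3, 2269)]

theorem goodWitness_prime : ∀ x ∈ goodWitness, x.2.2.Prime := by
  simp only [goodWitness, List.forall_mem_cons, List.not_mem_nil, IsEmpty.forall_iff, implies_true, and_true]
  norm_num

theorem goodWitness_isGood : ∀ x ∈ goodWitness, IsGood x.2.1 x.1 x.2.2 := by decide +kernel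

set_option synthInstance.maxHeartbeats 400000 in
set_option synthInstance.maxSize 2000 in
theorem good_cover : ∀ n < 43, ∀ p < 47, n < 3 ∨ p < 3 ∨ p % 2 = 0 ∨
    p ∈ [9, 15, 21, 25, 27, 33, 35, 39, 45] ∨
    4 * ((n + 1) * ((2 * n + 1) * n)) < p ^ n.totient ∨
    (n = 4 ∧ p = 3) ∨ (n = 6 ∧ (p = 3 ∨ p = 5 ∨ p = 17)) ∨
    ∃ x ∈ goodWitness, x.1 = n ∧ x.2.1 = p := by decide +kernel

theorem totient_small : ∀ n < 43, n = 3 ∨ n = 4 ∨ n = 6 ∨ n < 3 ∨ 4 ≤ n.totient := by decide +kernel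

theorem exists_good {p n : ℕ} (hp : p.Prime) (hp3 : 3 ≤ p) (hn : 2 < n) :
    (∃ r, r.Prime ∧ IsGood p n r) ∨ (n = 4 ∧ p = 3) ∨ (n = 6 ∧ (p = 3 ∨ p = 5 ∨ p = 17)) := by
  by_contra hcon
  simp only [not_or, not_exists, not_and] at hcon
  obtain ⟨hno, he4, he6⟩ := hcon
  have h1 := pow_totient_le_four_mul_cyclotomic hp.two_le (by omega : 0 < n)
  have h2 := cyclotomic_le_of_no_good hp.two_le hn hno
  have h3 : p ^ n.totient ≤ 4 * ((n + 1) * ((2 * n + 1) * n)) := h1.trans (by omega)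
  have hn43 := lt_forty_three' (le_trans (Nat.pow_le_pow_left hp3 _) h3)
  have hp47 : p < 47 := by
    by_contra hge
    rcases totient_small n hn43 with rfl | rfl | rfl | h | h
    · rw [show (3 : ℕ).totient = 2 by decide +kernel] at h3
      have : 47 ^ 2 ≤ p ^ 2 := Nat.pow_le_pow_left (by omega) 2
      omega
    · rw [show (4 : ℕ).totient = 2 by decide +kernel] at h3
      have : 47 ^ 2 ≤ p ^ 2 := Nat.pow_le_pow_left (by omega) 2
      omega
    · rw [show (6 : ℕ).totient = 2 by decide +kernel] at h3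
      have : 47 ^ 2 ≤ p ^ 2 := Nat.pow_le_pow_left (by omega) 2
      omega
    · omega
    · have : 47 ^ 4 ≤ p ^ n.totient :=
        (Nat.pow_le_pow_left (by omega) 4).trans (Nat.pow_le_pow_right hp.pos h)
      have : (n + 1) * ((2 * n + 1) * n) ≤ 43 * (85 * 42) :=
        Nat.mul_le_mul (by omega) (Nat.mul_le_mul (by omega) (by omega))
      omega
  rcases good_cover n hn43 p hp47 with h | h | h | h | h | h | h | ⟨x, hx, rfl, rfl⟩
  · omega
  · omega
  · have := hp.eq_two_or_odd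
    omega
  · simp only [List.mem_cons, List.not_mem_nil, or_false] at h
    rcases h with rfl | rfl | rfl | rfl | rfl | rfl | rfl | rfl | rfl <;> norm_num at hp
  · omega
  · exact he4 h.1 h.2
  · rcases h.2 with h' | h' | h' <;> simp [h.1, h'] at he6
  · exact hno _ (goodWitness_prime x hx) (goodWitness_isGood x hx)

end Cfsg.Agent.TransPPrime
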