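/-
Transitive linear groups of order prime to the characteristic in dimension at least 3
(namespace `Cfsg.Agent.TransPPrime`).

* `isGamma_of_solvable`: the solvable case away from the exceptional sizes of Huppert
* `exists_isGamma_of_three_le`: dimension at least `3`, apart from `p ^ n = 3 ^ 4`
-/
import Cfsg.Agent.Lib.TransPPrime.Gamma
import Cfsg.Agent.Lib.TransPPrime.Degree
import Cfsg.Agent.Lib.TransPPrime.Primes
import Cfsg.Agent.S3360
import Cfsg.Agent.S4485
import Cfsg.Agent.Lib.OddOrderTheorem.Basic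
import Mathlib.FieldTheory.Finite.Basic
import Mathlib.RingTheory.LittleWedderburn

set_option autoImplicit false
set_option linter.unusedSectionVars false
set_option linter.style.haveILetI false

namespace Cfsg.Agent.TransPPrime

open Module

variable {p : ℕ} [hp : Fact p.Prime] {V : Type*} [AddCommGroup V] [Module (ZMod p) V] [Finite V]
  [Nontrivial V] {H : Type*} [Group H] [Finite H] {ρ : H →* (V ≃ₗ[ZMod p] V)}

theorem stab_pos (hρ : TransLin ρ) :
    ∃ m : ℕ, 0 < m ∧ Nat.card H = (p ^ finrank (ZMod p) V - 1) * m := by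
  obtain ⟨v, hv⟩ := exists_ne (0 : V)
  obtain ⟨S, -, h⟩ := sub_one_dvd_card hρ v hv
  exact ⟨Nat.card S, Nat.card_pos, h⟩

theorem not_dvd_of_primitive {r : ℕ} {A : ℕ} (hrA : r ∣ A)
    (hprim : ∀ i : ℕ, i < finrank (ZMod p) V → 1 ≤ i → ¬ r ∣ p ^ i - 1) :
    ∀ d : ℕ, 0 < d → d ∣ finrank (ZMod p) V → d < finrank (ZMod p) V → ¬ A ∣ p ^ d - 1 :=
  fun d hd _ hdn h => hprim d hdn hd (hrA.trans h)

/-- A subspace invariant under an element of primitive prime order is trivial. -/
theorem eq_top_of_invariant (hρ : TransLin ρ) {r : ℕ} [Fact r.Prime] {x : H} (hx : orderOf x = r)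
    (hprim : ∀ i : ℕ, i < finrank (ZMod p) V → 1 ≤ i → ¬ r ∣ p ^ i - 1)
    (U : Submodule (ZMod p) V) (hU : U ≠ ⊥) (hxU : ∀ u ∈ U, ρ x u ∈ U) : U = ⊤ := by
  classical
  have hr : r.Prime := Fact.out
  let Z := Subgroup.zpowers x
  have hZr : IsPGroup r Z := IsPGroup.of_card (n := 1) (by rw [Nat.card_zpowers, hx, pow_one])
  have hfix0 : ∀ v : V, ρ x v = v → v = 0 := by
    intro v hv
    by_contra hv0
    let W : Submodule (ZMod p) V := LinearMap.ker ((ρ x : V →ₗ[ZMod p] V) - LinearMap.id)
    have hW : ∀ w, w ∈ W ↔ ρ x w = w := fun w => by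
      simp [W, LinearMap.mem_ker, sub_eq_zero]
    letI : MulAction Z V :=
      { smul := fun g w => ρ g w
        one_smul := fun w => show ρ 1 w = w by rw [map_one]; rfl
        mul_smul := fun g k w => show ρ (g * k) w = ρ g (ρ k w) by rw [map_mul]; rfl }
    have h1 := hZr.card_modEq_card_fixedPoints V
    have h2 : MulAction.fixedPoints Z V = (W : Set V) := by
      ext w
      constructor
      · intro h; exact (hW w).2 (h ⟨x, Subgroup.mem_zpowers x⟩)
      · intro h g
        let S : Subgroup H :=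
          { carrier := {y | ρ y w = w}
            one_mem' := by simp
            mul_mem' := fun {a b} ha hb => by
              show ρ (a * b) w = w
              rw [map_mul, LinearEquiv.mul_apply, hb, ha]
            inv_mem' := fun {a} ha => by
              show ρ a⁻¹ w = w
              conv_lhs => rw [← ha]
              rw [← LinearEquiv.mul_apply, ← map_mul, inv_mul_cancel, map_one]; rfl }
        exact Subgroup.zpowers_le.2 (show x ∈ S from (hW w).1 h) g.2
    rw [h2, natCard_eq (p := p), show Nat.card (W : Set V) = Nat.card W from rfl,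
      Module.natCard_eq_pow_finrank (K := ZMod p) (V := W), Nat.card_zmod] at h1
    have hWlt : finrank (ZMod p) W < finrank (ZMod p) V := by
      refine Submodule.finrank_lt fun h => ?_
      have : x = 1 := hρ.inj (LinearEquiv.ext fun w => by
        rw [map_one]; exact (hW w).1 (h ▸ Submodule.mem_top))
      rw [this, orderOf_one] at hx
      exact hr.one_lt.ne hx
    have hWpos : 0 < finrank (ZMod p) W := Module.finrank_pos_iff_exists_ne_zero.2
      ⟨⟨v, (hW v).2 hv⟩, fun h => hv0 (congrArg Subtype.val h)⟩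
    obtain ⟨j, hj⟩ : ∃ j, finrank (ZMod p) V = finrank (ZMod p) W + j := ⟨_, (Nat.add_sub_cancel' hWlt.le).symm⟩
    refine hprim j (by omega) (by omega) ?_
    have h3 := (Nat.modEq_iff_dvd' (Nat.pow_le_pow_right hp.out.pos hWlt.le)).1 h1.symm
    rw [hj, pow_add, ← Nat.mul_sub_one] at h3
    refine (hr.dvd_mul.1 h3).resolve_left fun h => hρ.coprime ?_
    have := hr.dvd_of_dvd_pow h
    rw [← (Nat.prime_dvd_prime_iff_eq hr hp.out).1 this, ← hx]
    exact orderOf_dvd_natCard x
  by_contra hne
  let S : Subgroup H :=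
    { carrier := {y | ∀ u ∈ U, ρ y u ∈ U}
      one_mem' := fun u hu => by simpa using hu
      mul_mem' := fun {a b} ha hb u hu => by
        show ρ (a * b) u ∈ U
        rw [map_mul]
        exact ha _ (hb u hu)
      inv_mem' := fun {a} ha u hu => by
        let f : U →ₗ[ZMod p] U := (ρ a : V →ₗ[ZMod p] V).restrict ha
        have hf : Function.Injective f := fun s t h => Subtype.ext ((ρ a).injective (congrArg Subtype.val h))
        obtain ⟨w, hw⟩ := (LinearMap.injective_iff_surjective.1 hf) ⟨u, hu⟩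
        have hw' : ρ a (w : V) = u := congrArg Subtype.val hw
        rw [← hw', ← LinearEquiv.mul_apply, ← map_mul, inv_mul_cancel, map_one]
        exact w.2 }
  have hZS : Z ≤ S := Subgroup.zpowers_le.2 hxU
  letI : MulAction Z U :=
    { smul := fun g u => ⟨ρ g u, hZS g.2 u u.2⟩
      one_smul := fun u => Subtype.ext (show ρ 1 (u : V) = u by rw [map_one]; rfl)
      mul_smul := fun g k u => Subtype.ext (show ρ (g * k) (u : V) = ρ g (ρ k u) by rw [map_mul]; rfl) }
  have h1 := hZr.card_modEq_card_fixedPoints U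
  have h2 : MulAction.fixedPoints Z U = ({0} : Set U) := by
    ext u
    constructor
    · intro h
      exact Subtype.ext (hfix0 u (congrArg Subtype.val (h ⟨x, Subgroup.mem_zpowers x⟩)))
    · rintro rfl g
      exact Subtype.ext (map_zero (ρ g))
  rw [h2, Module.natCard_eq_pow_finrank (K := ZMod p) (V := U), Nat.card_zmod] at h1
  simp only [Nat.card_eq_fintype_card, Fintype.card_ofSubsingleton] at h1
  refine hprim _ (Submodule.finrank_lt hne) (Nat.pos_of_ne_zero fun h => hU (Submodule.finrank_eq_zero.1 h)) ?_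
  exact (Nat.modEq_iff_dvd' (Nat.one_le_pow _ _ hp.out.pos)).1 h1.symm

theorem centralizer_commute_of_primitive (hρ : TransLin ρ) {r : ℕ} [Fact r.Prime] {x : H} (hx : orderOf x = r)
    (hprim : ∀ i : ℕ, i < finrank (ZMod p) V → 1 ≤ i → ¬ r ∣ p ^ i - 1) {a b : H}
    (ha : a * x = x * a) (hb : b * x = x * b) : a * b = b * a := by
  classical
  set Φ := Nearfield.toEnd ρ with hΦ
  haveI : Finite (Module.End (ZMod p) V) := Finite.of_injective
    (fun f : Module.End (ZMod p) V => (f : V → V)) DFunLike.coe_injective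
  let E : Subalgebra (ZMod p) (Module.End (ZMod p) V) := Subalgebra.centralizer (ZMod p) {Φ x}
  have hmem : ∀ {g : H}, g * x = x * g → Φ g ∈ E := fun {g} hg => by
    rw [Subalgebra.mem_centralizer_iff]
    rintro _ rfl
    rw [← map_mul, ← map_mul, hg]
  haveI : Finite E := inferInstanceAs (Finite {y // y ∈ E})
  haveI : Nontrivial E := ⟨0, 1, fun h => by
    obtain ⟨v, hv⟩ := exists_ne (0 : V)
    have := LinearMap.congr_fun (congrArg Subtype.val h) v
    exact hv (by simpa using this.symm)⟩
  haveI : NoZeroDivisors E := ⟨fun {y z} h => by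
    by_contra hne
    push Not at hne
    refine hne.2 (Subtype.ext (LinearMap.ext fun v => ?_))
    have hker : LinearMap.ker (y : Module.End (ZMod p) V) = ⊥ := by
      by_contra hk
      refine hne.1 (Subtype.ext (LinearMap.ker_eq_top.1 (eq_top_of_invariant hρ hx hprim _ hk fun u hu => ?_)))
      rw [LinearMap.mem_ker] at hu ⊢
      have hc := Subalgebra.mem_centralizer_iff (ZMod p) |>.1 y.2 (Φ x) rfl
      have := LinearMap.congr_fun hc u
      rw [Module.End.mul_apply, Module.End.mul_apply, hu, map_zero] at this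
      exact this.symm
    exact LinearMap.ker_eq_bot.1 hker ((LinearMap.congr_fun (congrArg Subtype.val h) v).trans (map_zero _).symm)⟩
  haveI : IsDomain E := NoZeroDivisors.to_isDomain E
  have hcomm := (Finite.isDomain_to_isField E).mul_comm ⟨_, hmem ha⟩ ⟨_, hmem hb⟩
  have := congrArg Subtype.val hcomm
  exact hρ.inj (LinearEquiv.ext fun v => by
    have h2 := LinearMap.congr_fun (this : Φ a * Φ b = Φ b * Φ a) v
    rw [map_mul, map_mul]
    exact h2)

theorem isGamma_of_normal_sylow (hρ : TransLin ρ) {r : ℕ} [Fact r.Prime] (hr : r ∣ Nat.card H)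
    (hprim : ∀ i : ℕ, i < finrank (ZMod p) V → 1 ≤ i → ¬ r ∣ p ^ i - 1) (R : Sylow r H)
    (hRn : (R : Subgroup H).Normal) (hRc : ∀ a ∈ (R : Subgroup H), ∀ b ∈ (R : Subgroup H), a * b = b * a) :
    ∃ C, IsGamma ρ C := by
  haveI := hRn
  exact isGamma_of_abelian ρ hρ (R : Subgroup H) hRc (not_dvd_of_primitive (R.dvd_card_of_dvd_card hr) hprim)

theorem isGamma_of_good (hρ : TransLin ρ) {r : ℕ} (hr : r.Prime)
    (hgood : IsGood p (finrank (ZMod p) V) r) : ∃ C, IsGamma ρ C := by
  classical
  haveI : Fact r.Prime := ⟨hr⟩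
  set n := finrank (ZMod p) V with hn
  obtain ⟨hdvd, hprim, hcase⟩ := hgood
  obtain ⟨m, hm, hH⟩ := stab_pos hρ
  have hrH : r ∣ Nat.card H := hH ▸ hdvd.mul_right m
  have hn0 : 0 < n := Module.finrank_pos
  -- `n < r`
  have hnr : n < r := by
    haveI : Fact r.Prime := ⟨hr⟩
    have hrp : ((p : ℕ) : ZMod r) ≠ 0 := fun h => hρ.coprime (by
      rw [ZMod.natCast_eq_zero_iff] at h
      rw [← (Nat.prime_dvd_prime_iff_eq hr hp.out).1 h]; exact hrH)
    have h1 : ((p : ℕ) : ZMod r) ^ (r - 1) = 1 := ZMod.pow_card_sub_one_eq_one hrp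
    by_contra hle
    have h2 : r ∣ p ^ (r - 1) - 1 := by
      rw [← ZMod.natCast_eq_zero_iff, Nat.cast_sub (Nat.one_le_pow _ _ hp.out.pos)]
      push_cast
      rw [h1, sub_self]
    have := hr.two_le
    exact hprim (r - 1) (by omega) (by omega) h2
  obtain ⟨χ, hχ, hχn, hfaith⟩ := exists_char_of_linear hρ.coprime ρ hρ.inj
  let R : Sylow r H := default
  have hRc := commute_of_lt hχ hfaith hχn hnr R.isPGroup'
  refine isGamma_of_normal_sylow hρ hrH hprim R ?_ hRc
  rcases hcase with h | ⟨h, h3⟩ | hsq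
  · exact sylow_normal_of_large hχ hfaith hχn (Or.inl h) R
  · exact sylow_normal_of_large hχ hfaith hχn (Or.inr ⟨h, h3 ▸ hρ.coprime, hn0⟩) R
  · obtain ⟨a, ha⟩ := IsPGroup.iff_card.1 R.isPGroup'
    refine S4485.result r hr hrH R ?_ a ha χ hχ hfaith ?_
    · intro x hx hx1
      refine le_antisymm (fun g hg => ?_) (fun g hg => ?_)
      · rw [Subgroup.mem_centralizer_singleton_iff] at hg
        rw [Subgroup.mem_centralizer_iff]
        intro y hy
        -- an element of order `r` among the powers of `x`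
        obtain ⟨k, hk⟩ : ∃ k, orderOf x = r ^ (k + 1) := by
          obtain ⟨k, hk⟩ := IsPGroup.iff_orderOf.1 R.isPGroup' ⟨x, hx⟩
          rw [Subgroup.orderOf_mk] at hk
          refine ⟨k - 1, ?_⟩
          rcases Nat.eq_zero_or_pos k with rfl | hk0
          · exact absurd (orderOf_eq_one_iff.1 (hk.trans (pow_zero r))) hx1
          · rw [Nat.sub_add_cancel hk0]; exact hk
        have hxr : orderOf (x ^ r ^ k) = r := by
          rw [orderOf_pow' _ (pow_ne_zero _ hr.ne_zero), hk, pow_succ,
            Nat.gcd_eq_right (dvd_mul_right _ _), Nat.mul_div_cancel_left _ (pow_pos hr.pos _)]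
        exact centralizer_commute_of_primitive hρ hxr hprim
          ((hRc y hy _ ((R : Subgroup H).pow_mem hx _)))
          ((show Commute g x from hg).pow_right _).eq
      · rw [Subgroup.mem_centralizer_singleton_iff]
        exact (Subgroup.mem_centralizer_iff.1 hg x hx).symm
    · have h2a : r ^ 2 ∣ r ^ a := by
        rw [← ha]
        have : r ^ 2 ∣ Nat.card H := hH ▸ hsq.mul_right m
        rw [R.card_eq_multiplicity]
        exact pow_dvd_pow r ((hr.pow_dvd_iff_le_factorization Nat.card_pos.ne').1 this)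
      rw [charDegree_eq_of_apply_one hχn]
      calc n ^ 2 + 1 < (n + 1) ^ 2 := by nlinarith
        _ ≤ r ^ 2 := Nat.pow_le_pow_left hnr 2
        _ ≤ r ^ a := Nat.le_of_dvd (pow_pos hr.pos _) h2a

theorem card_auts_le {F : Type*} [Field F] [Finite F] {n : ℕ} (h : Nat.card F = p ^ n) :
    Nat.card (F ≃+* F) ≤ n := by
  classical
  letI := Fintype.ofFinite F
  rcases Nat.eq_zero_or_pos n with rfl | hn
  · rw [pow_zero] at h
    exact absurd h Finite.one_lt_card.ne'
  haveI : CharP F p := charP_of_card_eq_prime_pow (by rw [Fintype.card_eq_nat_card, h])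
  letI : Algebra (ZMod p) F := ZMod.algebra F p
  have hfr : finrank (ZMod p) F = n := by
    have := Module.natCard_eq_pow_finrank (K := ZMod p) (V := F)
    rw [h, Nat.card_zmod] at this
    exact (Nat.pow_right_injective hp.out.two_le this).symm
  have hgal := IsGalois.card_aut_eq_finrank (ZMod p) F
  rw [hfr] at hgal
  refine le_trans ?_ hgal.le
  haveI : Finite (F ≃ₐ[ZMod p] F) := inferInstance
  exact Nat.card_le_card_of_injective
    (fun f : F ≃+* F => AlgEquiv.ofRingEquiv (f := f) fun c =>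
      RingHom.congr_fun (Subsingleton.elim ((f : F →+* F).comp (algebraMap (ZMod p) F)) (algebraMap (ZMod p) F)) c)
    fun f g h => RingEquiv.ext fun x => AlgEquiv.congr_fun h x

theorem num_index {p n : ℕ} (hp : p.Prime) (hn : 2 ≤ n) : n * (p ^ (n / 2) - 1) < p ^ n - 1 := by
  have h0 := Nat.one_le_pow (n / 2) p hp.pos
  rcases num_cases hp hn with h | ⟨rfl, rfl | rfl⟩ | ⟨rfl, rfl⟩ | ⟨rfl, rfl⟩
  · have : n * (p ^ (n / 2) - 1) + (n + 1) ≤ (n + 1) * p ^ (n / 2) := by
      obtain ⟨t, ht⟩ : ∃ t, p ^ (n / 2) = t + 1 := ⟨_, (Nat.sub_add_cancel h0).symm⟩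
      rw [ht, Nat.add_sub_cancel]
      nlinarith
    omega
  all_goals decide

theorem isGamma_of_semilinear (hρ : TransLin ρ) (hn : 2 ≤ finrank (ZMod p) V)
    (h : ∃ (F : Type) (_ : Field F) (_ : Fintype F) (e : V ≃+ F),
      ∀ g : H, ∃ (a : F) (σ : F ≃+* F), ∀ v : V, e (ρ g v) = a * σ (e v)) :
    ∃ C, IsGamma ρ C := by
  classical
  obtain ⟨F, hF, hFf, e, he⟩ := h
  choose a σ haσ using he
  have ha0 : ∀ g, a g ≠ 0 := fun g h0 => by
    have := haσ g (e.symm 1)
    rw [h0, zero_mul, map_eq_zero_iff _ e.injective, LinearEquiv.map_eq_zero_iff,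
      map_eq_zero_iff _ e.symm.injective] at this
    exact one_ne_zero this
  have hmulv : ∀ g k v, e (ρ (g * k) v) = a g * σ g (a k) * σ g (σ k (e v)) := fun g k v => by
    rw [map_mul, LinearEquiv.mul_apply, haσ, haσ, map_mul, mul_assoc]
  have hσmul : ∀ g k x, σ (g * k) x = σ g (σ k x) := by
    intro g k x
    have h1 := (haσ (g * k) (e.symm 1)).symm.trans (hmulv g k (e.symm 1))
    have h2 := (haσ (g * k) (e.symm x)).symm.trans (hmulv g k (e.symm x))
    rw [AddEquiv.apply_symm_apply, map_one, map_one, map_one, mul_one, mul_one] at h1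
    rw [AddEquiv.apply_symm_apply, ← h1] at h2
    exact mul_left_cancel₀ (ha0 _) h2
  let f : H →* (F ≃+* F) := MonoidHom.mk' σ fun g k => RingEquiv.ext (hσmul g k)
  have hker : ∀ g ∈ f.ker, ∀ v, e (ρ g v) = a g * e v := fun g hg v => by
    have h1 : σ g = 1 := hg
    rw [haσ, h1]; rfl
  have hn0 : 0 < finrank (ZMod p) V := by omega
  refine isGamma_of_abelian ρ hρ f.ker ?_ ?_
  · intro g hg k hk
    refine hρ.inj (LinearEquiv.ext fun v => e.injective ?_)
    rw [map_mul, map_mul, LinearEquiv.mul_apply, LinearEquiv.mul_apply, hker g hg, hker k hk, hker k hk,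
      hker g hg]
    ring
  · intro d hd hdn hlt hdvd
    obtain ⟨m, hm, hH⟩ := stab_pos hρ
    have hidx : f.ker.index ≤ finrank (ZMod p) V := by
      rw [Subgroup.index_ker]
      haveI : Finite (F ≃+* F) := Finite.of_injective (fun f : F ≃+* F => (f : F → F)) DFunLike.coe_injective
      refine le_trans (Nat.card_le_card_of_injective _ Subtype.val_injective) (card_auts_le (p := p) ?_)
      rw [← Nat.card_congr e.toEquiv, natCard_eq (p := p)]
    have hd2 : d ≤ finrank (ZMod p) V / 2 := by
      obtain ⟨k, hk⟩ := hdn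
      have : 2 ≤ k := by
        rcases k with - | - | k
        · omega
        · omega
        · omega
      have := Nat.mul_le_mul_left d this
      omega
    have h1 : Nat.card f.ker ≤ p ^ (finrank (ZMod p) V / 2) - 1 := by
      have h2 : p ^ d ≤ p ^ (finrank (ZMod p) V / 2) := Nat.pow_le_pow_right hp.out.pos hd2
      have h3 : 1 < p ^ d := Nat.one_lt_pow hd.ne' hp.out.one_lt
      exact (Nat.le_of_dvd (by omega) hdvd).trans (by omega)
    have h4 : Nat.card H ≤ finrank (ZMod p) V * (p ^ (finrank (ZMod p) V / 2) - 1) := by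
      rw [← Subgroup.card_mul_index f.ker, mul_comm]
      exact Nat.mul_le_mul hidx h1
    have h5 : p ^ finrank (ZMod p) V - 1 ≤ Nat.card H := hH ▸ Nat.le_mul_of_pos_right _ hm
    have := num_index (n := finrank (ZMod p) V) hp.out hn
    omega

theorem isGamma_of_solvable (hρ : TransLin ρ) (hn : 2 ≤ finrank (ZMod p) V) (hsol : Group.IsSolvable H)
    (hex : p ^ finrank (ZMod p) V ∉ ({9, 25, 49, 121, 529, 81} : Set ℕ)) : ∃ C, IsGamma ρ C := by
  rcases S3360.result p hsol ρ hρ.inj hρ.trans with h | h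
  · exact isGamma_of_semilinear hρ hn h
  · rw [natCard_eq (p := p)] at h
    exact absurd h hex

/-- A faithful character of degree `m` on the centralizer of an abelian normal subgroup. -/
theorem exists_char_centralizer (hρ : TransLin ρ) (A : Subgroup H) [A.Normal]
    (hA : ∀ a ∈ A, ∀ b ∈ A, a * b = b * a) :
    ∃ d m : ℕ, d * m = finrank (ZMod p) V ∧ Nat.card A ∣ p ^ d - 1 ∧
      ∃ χ : (Subgroup.centralizer (A : Set H)) → ℂ,
        Cfsg.IsCharacter (Subgroup.centralizer (A : Set H)) χ ∧ χ 1 = (m : ℂ) ∧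
          ∀ g, χ g = χ 1 → g = 1 := by
  classical
  set Φ := Nearfield.toEnd ρ with hΦ
  set E : Subalgebra (ZMod p) (Module.End (ZMod p) V) := Algebra.adjoin (ZMod p) (Φ '' A) with hE
  have hgen : ∀ a ∈ A, Φ a ∈ E := fun a ha => Algebra.subset_adjoin ⟨a, ha, rfl⟩
  have hcomm : ∀ x ∈ E, ∀ y ∈ E, x * y = y * x := by
    intro x hx y hy
    refine (Algebra.commute_of_mem_adjoin_of_forall_mem_commute hy ?_).eq
    rintro _ ⟨b, hb, rfl⟩
    refine (Algebra.commute_of_mem_adjoin_of_forall_mem_commute hx ?_).symm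
    rintro _ ⟨a, ha, rfl⟩
    show Φ b * Φ a = Φ a * Φ b
    rw [← map_mul, ← map_mul, hA b hb a ha]
  let c : H → (Module.End (ZMod p) V →ₐ[ZMod p] Module.End (ZMod p) V) := fun g =>
    { toFun := fun x => Φ g * x * Φ g⁻¹
      map_one' := by rw [mul_one, ← map_mul, mul_inv_cancel, map_one]
      map_mul' := fun x y => by
        rw [show Φ g * x * Φ g⁻¹ * (Φ g * y * Φ g⁻¹) = Φ g * x * (Φ g⁻¹ * Φ g) * y * Φ g⁻¹ by
          simp only [mul_assoc], ← map_mul, inv_mul_cancel, map_one, mul_one]
        simp only [mul_assoc]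
      map_zero' := by simp
      map_add' := fun x y => by rw [mul_add, add_mul]
      commutes' := fun r => by
        rw [← Algebra.commutes, mul_assoc, ← map_mul, mul_inv_cancel, map_one, mul_one] }
  have hconj : ∀ g : H, ∀ x ∈ E, Φ g * x * Φ g⁻¹ ∈ E := by
    intro g x hx
    have : E ≤ E.comap (c g) := by
      rw [hE]
      refine Algebra.adjoin_le ?_
      rintro _ ⟨a, ha, rfl⟩
      show Φ g * Φ a * Φ g⁻¹ ∈ E
      rw [← map_mul, ← map_mul]
      exact hgen _ (‹A.Normal›.conj_mem a ha g)
    exact this hx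
  haveI : Finite (Module.End (ZMod p) V) := Finite.of_injective
    (fun f : Module.End (ZMod p) V => (f : V → V)) DFunLike.coe_injective
  haveI : Finite E := inferInstanceAs (Finite {x // x ∈ E})
  obtain ⟨v0, hv0⟩ := exists_ne (0 : V)
  haveI : Nontrivial E := ⟨0, 1, fun h => hv0 (by
    have := LinearMap.congr_fun (congrArg Subtype.val h) v0
    simpa using this.symm)⟩
  haveI : NoZeroDivisors E := ⟨fun {x y} h => by
    by_contra hne
    push Not at hne
    obtain ⟨v, hv⟩ : ∃ v, (y : Module.End (ZMod p) V) v ≠ 0 := by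
      by_contra hc
      push Not at hc
      exact hne.2 (Subtype.ext (LinearMap.ext hc))
    exact hne.1 (Subtype.ext (Nearfield.eq_zero_of_apply_eq_zero ρ hρ.trans E hcomm hconj x.2 hv
      (LinearMap.congr_fun (congrArg Subtype.val h) v)))⟩
  haveI : IsDomain E := NoZeroDivisors.to_isDomain E
  letI : CommRing E := { (inferInstance : Ring E) with mul_comm := fun x y => Subtype.ext (hcomm x x.2 y y.2) }
  letI : Field E := (Finite.isField_of_domain E).toField
  haveI : CharP E p := charP_of_injective_algebraMap (algebraMap (ZMod p) E).injective p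
  have hEcard : Nat.card E = p ^ finrank (ZMod p) E := by
    rw [Module.natCard_eq_pow_finrank (K := ZMod p) (V := E), Nat.card_zmod]
  refine ⟨finrank (ZMod p) E, finrank E V, Module.finrank_mul_finrank (ZMod p) E V, ?_, ?_⟩
  · let κ : A →* E := { toFun := fun a => ⟨Φ a, hgen a a.2⟩, map_one' := Subtype.ext (map_one Φ),
                        map_mul' := fun a b => Subtype.ext (map_mul Φ _ _) }
    rw [← hEcard, ← Nat.card_units]
    refine Subgroup.card_dvd_of_injective (MonoidHom.toHomUnits κ) fun a b h => Subtype.ext ?_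
    exact hρ.inj (LinearEquiv.ext fun v => LinearMap.congr_fun
      (congrArg Subtype.val (congrArg Units.val h)) v)
  let ψ : Subgroup.centralizer (A : Set H) →* (V ≃ₗ[E] V) :=
    { toFun := fun g =>
        { (ρ (g : H)).toAddEquiv with
          map_smul' := fun x w => by
            show Φ (g : H) ((x : Module.End (ZMod p) V) w) = (x : Module.End (ZMod p) V) (Φ (g : H) w)
            have hc : Commute (Φ (g : H)) (x : Module.End (ZMod p) V) :=
              Algebra.commute_of_mem_adjoin_of_forall_mem_commute x.2 (by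
                rintro _ ⟨a, ha, rfl⟩
                show Φ (g : H) * Φ a = Φ a * Φ (g : H)
                rw [← map_mul, ← map_mul, Subgroup.mem_centralizer_iff.mp g.2 a ha])
            exact LinearMap.congr_fun hc.eq w }
      map_one' := LinearEquiv.ext fun w => show ρ 1 w = w by rw [map_one]; rfl
      map_mul' := fun g k => LinearEquiv.ext fun w => show ρ (g * k : H) w = ρ g (ρ k w) by
        rw [map_mul]; rfl }
  refine exists_char_of_linear (p := p) (fun h => hρ.coprime (h.trans (Subgroup.card_subgroup_dvd_card _))) ψ ?_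
  intro g k h
  exact Subtype.ext (hρ.inj (LinearEquiv.ext fun w => LinearEquiv.congr_fun h w))

/-- The three special cases in dimension `6`. -/
theorem isGamma_six (hρ : TransLin ρ) (hn : finrank (ZMod p) V = 6) {r : ℕ} [hr : Fact r.Prime]
    (hr3 : r ∣ p ^ 3 - 1) (h12 : ¬ r ∣ p - 1 ∧ ¬ r ∣ p ^ 2 - 1) (hr13 : 13 < r ∨ (r = 13 ∧ p = 3))
    (h7 : 7 ∣ p ^ 6 - 1) (h7' : ∀ i : ℕ, i < 6 → 1 ≤ i → ¬ 7 ∣ p ^ i - 1) : ∃ C, IsGamma ρ C := by
  classical
  haveI : Fact (Nat.Prime 7) := ⟨by norm_num⟩
  obtain ⟨m, hm, hH⟩ := stab_pos hρ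
  rw [hn] at hH
  have h3dvd : p ^ 3 - 1 ∣ p ^ 6 - 1 := Nat.pow_sub_one_dvd_pow_sub_one p (by norm_num)
  have hrH : r ∣ Nat.card H := hH ▸ (hr3.trans h3dvd).mul_right m
  obtain ⟨χ, hχ, hχn, hfaith⟩ := exists_char_of_linear hρ.coprime ρ hρ.inj
  rw [hn] at hχn
  let P : Sylow r H := default
  have hPn : (P : Subgroup H).Normal := by
    rcases hr13 with h | ⟨h, h3⟩
    · exact sylow_normal_of_large hχ hfaith hχn (Or.inl (by omega)) P
    · exact sylow_normal_of_large hχ hfaith hχn (Or.inr ⟨by omega, h3 ▸ hρ.coprime, by omega⟩) P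
  have hPc := commute_of_lt hχ hfaith hχn (show 6 < r by omega) P.isPGroup'
  haveI := hPn
  have hrP : r ∣ Nat.card P := P.dvd_card_of_dvd_card hrH
  obtain ⟨d, l, hdl, hdA, ψ, hψ, hψl, hψf⟩ := exists_char_centralizer hρ (P : Subgroup H) hPc
  rw [hn] at hdl
  have hd6 : d ∣ 6 := ⟨l, hdl.symm⟩
  have hl : l ≤ 2 := by
    have hrd := hrP.trans hdA
    have := Nat.le_of_dvd (by norm_num) hd6
    interval_cases d
    · omega
    · exact absurd hrd (by simpa using h12.1)
    · exact absurd hrd h12.2
    all_goals omega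
  -- the prime `7`
  obtain ⟨d', l', -, -, hV, -, hidx, -⟩ := Nearfield.exists_degree ρ hρ.inj hρ.trans (P : Subgroup H) hPc
  have hdl' := mul_eq_finrank hV
  rw [hn] at hdl'
  set K := Subgroup.centralizer ((P : Subgroup H) : Set H) with hK
  have h7H : 7 ∣ Nat.card H := hH ▸ h7.mul_right m
  have h7K : 7 ∣ Nat.card K := by
    rw [← Subgroup.card_mul_index K] at h7H
    refine ((Nat.Prime.dvd_mul (by norm_num)).1 h7H).resolve_right fun h => ?_
    have hd'6 : d' ∣ 6 := ⟨l', hdl'.symm⟩
    have := (h.trans hidx).trans hd'6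
    norm_num at this
  let Q : Sylow 7 K := default
  haveI : (Q : Subgroup K).Normal := sylow_normal_of_large hψ hψf hψl (Or.inl (by omega)) Q
  haveI : Subsingleton (Sylow 7 K) := by
    haveI := Sylow.unique_of_normal Q inferInstance
    infer_instance
  haveI : (Q : Subgroup K).Characteristic := Sylow.characteristic_of_subsingleton Q
  haveI : K.Normal := inferInstanceAs (Subgroup.centralizer ((P : Subgroup H) : Set H)).Normal
  haveI : ((Q : Subgroup K).map K.subtype).Normal := ConjAct.normal_of_characteristic_of_normal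
  refine isGamma_of_abelian ρ hρ ((Q : Subgroup K).map K.subtype) ?_
    (not_dvd_of_primitive (r := 7) ?_ (by rw [hn]; exact h7'))
  · rintro _ ⟨a, ha, rfl⟩ _ ⟨b, hb, rfl⟩
    exact congrArg K.subtype (commute_of_lt hψ hψf hψl (show l < 7 by omega) Q.isPGroup' a ha b hb)
  · rw [Subgroup.card_subtype]
    exact Q.dvd_card_of_dvd_card h7K

theorem exists_isGamma_of_three_le (hρ : TransLin ρ) (hn : 3 ≤ finrank (ZMod p) V)
    (hex : ¬ (finrank (ZMod p) V = 4 ∧ p = 3)) : ∃ C, IsGamma ρ C := by
  set n := finrank (ZMod p) V with hn'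
  rcases hp.out.eq_two_or_odd with h2 | hodd
  · have hsol : Group.IsSolvable H := OddOrderTheorem.solvable (by
      rw [Nat.odd_iff]
      have := hρ.coprime
      rw [h2] at this
      omega)
    refine isGamma_of_solvable hρ (by omega) hsol fun h => ?_
    simp only [Set.mem_insert_iff, Set.mem_singleton_iff] at h
    rw [← hn', h2] at h
    have : 2 ∣ 2 ^ n := dvd_pow_self 2 (by omega)
    omega
  have hp3 : 3 ≤ p := by have := hp.out.two_le; omega
  rcases exists_good hp.out hp3 (by omega : 2 < n) with ⟨r, hr, hg⟩ | h | ⟨hn6, h⟩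
  · exact isGamma_of_good hρ hr hg
  · exact absurd h hex
  · rcases h with rfl | rfl | rfl
    · haveI : Fact (Nat.Prime 13) := ⟨by norm_num⟩
      exact isGamma_six hρ hn6 (r := 13) (by decide) (by decide) (Or.inr ⟨rfl, rfl⟩) (by decide) (by decide)
    · haveI : Fact (Nat.Prime 31) := ⟨by norm_num⟩
      exact isGamma_six hρ hn6 (r := 31) (by decide) (by decide) (Or.inl (by norm_num)) (by decide) (by decide)
    · haveI : Fact (Nat.Prime 307) := ⟨by norm_num⟩
      exact isGamma_six hρ hn6 (r := 307) (by decide) (by decide) (Or.inl (by norm_num)) (by decide) (by decide)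

end Cfsg.Agent.TransPPrime
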