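/-
Transitive linear groups of order prime to `3` on a space with `81` elements (namespace `Cfsg.Agent.TransPPrime`).

* `card_conjClasses_mul_sixteen`: counting classes when the characters moving `M` have degree at least `4`
* `small_section`: the structure above a self-centralizing elementary abelian `2`-section
* `isGamma_or_small`: either a Singer cycle is normal or `k + m < 81`
-/
import Cfsg.Agent.Lib.TransPPrime.Big
import Cfsg.Agent.Lib.Codegree.Basic
import Cfsg.Agent.Lib.ClassIndex.PSolvable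
import Cfsg.Agent.Lib.CharApp.Burnside
import Cfsg.Agent.S4468
import Mathlib.LinearAlgebra.Matrix.GeneralLinearGroup.Card

set_option autoImplicit false
set_option linter.unusedSectionVars false
set_option linter.style.haveILetI false

namespace Cfsg.Agent.TransPPrime

open Module Subgroup

theorem card_conjClasses_mul_sixteen {G : Type*} [Group G] [Finite G] (M : Subgroup G) [M.Normal]
    (h : ∀ χ : Cfsg.IrrCharacter G, Cfsg.charDegree (χ : G → ℂ) < 4 → M ≤ Codegree.kerSub χ) :
    16 * Nat.card (ConjClasses G) ≤ Nat.card G + 15 * M.index := by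
  classical
  letI := Fintype.ofFinite G
  haveI := Fintype.ofFinite (Cfsg.IrrCharacter G)
  rw [← Char.card_irr_eq_card_conjClasses, Nat.card_eq_fintype_card (α := Cfsg.IrrCharacter G)]
  have hsq : ∑ χ : Cfsg.IrrCharacter G, Cfsg.charDegree (χ : G → ℂ) ^ 2 = Nat.card G := by
    have h1 := Char.sum_sq_degrees (G := G)
    rw [Finset.sum_congr rfl fun χ _ => by rw [TwoClassChar.deg_eq χ.2]] at h1
    exact_mod_cast h1
  have hidx : ∑ χ ∈ Finset.univ.filter (fun χ : Cfsg.IrrCharacter G => M ≤ Codegree.kerSub χ),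
      Cfsg.charDegree (χ : G → ℂ) ^ 2 = M.index := by
    have h1 := Codegree.index_sum (G := G) M
    rw [Finset.sum_congr rfl fun χ _ => by rw [TwoClassChar.deg_eq χ.2]] at h1
    exact_mod_cast h1
  have hpt : ∀ χ : Cfsg.IrrCharacter G, 16 ≤ Cfsg.charDegree (χ : G → ℂ) ^ 2 +
      15 * (if M ≤ Codegree.kerSub χ then Cfsg.charDegree (χ : G → ℂ) ^ 2 else 0) := by
    intro χ
    have h0 : 0 < Cfsg.charDegree (χ : G → ℂ) := TwoClassChar.deg_pos χ.2
    have h1 : 1 ≤ Cfsg.charDegree (χ : G → ℂ) ^ 2 := Nat.one_le_pow _ _ h0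
    by_cases hM : M ≤ Codegree.kerSub χ
    · rw [if_pos hM]; omega
    · rw [if_neg hM]
      have h2 : 4 ≤ Cfsg.charDegree (χ : G → ℂ) := not_lt.1 fun hlt => hM (h χ hlt)
      have : 4 ^ 2 ≤ Cfsg.charDegree (χ : G → ℂ) ^ 2 := Nat.pow_le_pow_left h2 2
      omega
  have hs := Finset.sum_le_sum (s := (Finset.univ : Finset (Cfsg.IrrCharacter G))) fun χ _ => hpt χ
  rw [Finset.sum_const, Finset.card_univ, smul_eq_mul, Finset.sum_add_distrib, ← Finset.mul_sum,
    ← Finset.sum_filter, hsq, hidx] at hs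
  omega

/-- Orbit counting for an element of prime order normalizing `U`. -/
theorem card_modEq_fixed {G : Type*} [Group G] [Finite G] {s : ℕ} [Fact s.Prime] {y : G} (hy : orderOf y = s)
    {U : Subgroup G} (hU : ∀ u ∈ U, y * u * y⁻¹ ∈ U) :
    Nat.card U ≡ Nat.card (U ⊓ Subgroup.centralizer ({y} : Set G) : Subgroup G) [MOD s] := by
  classical
  have hnorm : y ∈ normalizer (U : Set G) := Subgroup.mem_normalizer_fintype hU
  have hpU : ∀ g : zpowers y, ∀ u ∈ U, (g : G) * u * (g : G)⁻¹ ∈ U := fun g u hu =>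
    (mem_normalizer_iff.mp (zpowers_le.mpr hnorm g.2) u).mp hu
  letI : MulAction (zpowers y) U :=
    { smul := fun g u => ⟨(g : G) * u * (g : G)⁻¹, hpU g u u.2⟩
      one_smul := fun u => Subtype.ext (by show (1 : G) * u * (1 : G)⁻¹ = u; group)
      mul_smul := fun g k u => Subtype.ext (by
        show ((g : G) * k) * u * ((g : G) * k)⁻¹ = (g : G) * ((k : G) * u * (k : G)⁻¹) * (g : G)⁻¹
        group) }
  have h1 := (IsPGroup.of_card (n := 1) (by rw [Nat.card_zpowers, hy, pow_one]) :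
    IsPGroup s (zpowers y)).card_modEq_card_fixedPoints U
  refine h1.trans (congrArg (· % s) ?_)
  refine Nat.card_congr ⟨fun u => ⟨(u.1 : G), u.1.2, mem_centralizer_singleton_iff.2 ?_⟩,
    fun u => ⟨⟨(u : G), u.2.1⟩, fun g => Subtype.ext ?_⟩, fun u => rfl, fun u => rfl⟩
  · have h2 : y * (u.1 : G) * y⁻¹ = u.1 := congrArg Subtype.val (u.2 ⟨y, mem_zpowers y⟩)
    exact (mul_inv_eq_iff_eq_mul.1 h2).symm
  · have h3 : Commute (y : G) (u : G) := (mem_centralizer_singleton_iff.1 u.2.2).symm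
    obtain ⟨i, hi⟩ := mem_zpowers_iff.1 g.2
    show (g : G) * u * (g : G)⁻¹ = u
    rw [← hi, (h3.zpow_left i).eq, mul_inv_cancel_right]

section Section

variable {G : Type*} [Group G] [Finite G]

/-- A group of order `2 ^ a * 5` with a self-centralizing normal `2`-subgroup of order at most `16`. -/
theorem small_section {a : ℕ} (hG : Nat.card G = 2 ^ a * 5) (M : Subgroup G) [M.Normal]
    (hM : IsPGroup 2 M) (hMne : M ≠ ⊥) (hM16 : Nat.card M ≤ 16) (hself : Subgroup.centralizer (M : Set G) ≤ M) :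
    Nat.card M = 16 ∧ M.index ≤ 20 ∧
      ∀ y : G, orderOf y = 5 → ∀ U : Subgroup G, U ≤ M → (∀ u ∈ U, y * u * y⁻¹ ∈ U) → U = ⊥ ∨ U = M := by
  classical
  haveI : Fact (Nat.Prime 5) := ⟨by norm_num⟩
  haveI : Fact (Nat.Prime 2) := ⟨Nat.prime_two⟩
  obtain ⟨i, hi⟩ := IsPGroup.iff_card.1 hM
  have hi4 : i ≤ 4 := by
    by_contra h
    have : 2 ^ 5 ≤ 2 ^ i := Nat.pow_le_pow_right (by norm_num) (by omega)
    omega
  have key : ∀ y : G, orderOf y = 5 →
      Nat.card M = 16 ∧ (M ⊓ Subgroup.centralizer ({y} : Set G)) = ⊥ := by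
    intro y hy
    set F := M ⊓ Subgroup.centralizer ({y} : Set G) with hF
    have h1 := card_modEq_fixed hy (U := M) (fun u hu => ‹M.Normal›.conj_mem u hu y)
    obtain ⟨j, hj⟩ := IsPGroup.iff_card.1 (hM.to_le (inf_le_left : F ≤ M))
    rw [← hF, hi, hj] at h1
    have hji : j < i := by
      by_contra hge
      have hFM : F = M := Subgroup.eq_of_le_of_card_ge inf_le_left (by
        rw [hi, hj]; exact Nat.pow_le_pow_right (by norm_num) (by omega))
      have hyM : y ∈ M := hself (mem_centralizer_iff.2 fun u hu =>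
        mem_centralizer_singleton_iff.1 (hFM ▸ hu : u ∈ F).2)
      have h5 := orderOf_dvd_natCard (⟨y, hyM⟩ : M)
      rw [Subgroup.orderOf_mk, hy, hi] at h5
      have := (Nat.prime_dvd_prime_iff_eq (by norm_num) Nat.prime_two).1 ((by norm_num : Nat.Prime 5).dvd_of_dvd_pow h5)
      omega
    have h4 : i = 4 ∧ j = 0 := by
      interval_cases i <;> interval_cases j <;> first | omega | (simp [Nat.ModEq] at h1)
    rw [hi, h4.1]
    refine ⟨rfl, ?_⟩
    rw [h4.2, pow_zero, Subgroup.card_eq_one] at hj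
    exact hj
  have hinv : ∀ y : G, orderOf y = 5 → ∀ U : Subgroup G, U ≤ M → (∀ u ∈ U, y * u * y⁻¹ ∈ U) →
      U = ⊥ ∨ U = M := by
    intro y hy U hUM hUy
    obtain ⟨h16, hF⟩ := key y hy
    have h1 := card_modEq_fixed hy hUy
    have h2 : U ⊓ Subgroup.centralizer ({y} : Set G) = ⊥ := le_bot_iff.1 (hF ▸ inf_le_inf_right _ hUM)
    rw [h2, Subgroup.card_bot] at h1
    obtain ⟨l, hl⟩ := IsPGroup.iff_card.1 (hM.to_le hUM)
    have hl4 : l ≤ 4 := by
      by_contra h
      have : 2 ^ 5 ≤ 2 ^ l := Nat.pow_le_pow_right (by norm_num) (by omega)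
      have := Nat.le_of_dvd Nat.card_pos (Subgroup.card_dvd_of_le hUM)
      omega
    rw [hl] at h1
    interval_cases l
    · left; exact Subgroup.card_eq_one.1 (by rw [hl, pow_zero])
    · simp [Nat.ModEq] at h1
    · simp [Nat.ModEq] at h1
    · simp [Nat.ModEq] at h1
    · right; exact Subgroup.eq_of_le_of_card_ge hUM (by omega)
  obtain ⟨y, hy⟩ := exists_prime_orderOf_dvd_card' (G := G) 5 (hG ▸ dvd_mul_left 5 _)
  obtain ⟨h16, -⟩ := key y hy
  -- a `2`-subgroup above `M` normalized by an element of order `5` is `M`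
  have htwo : ∀ T : Subgroup G, M ≤ T → IsPGroup 2 T → ∀ z : G, orderOf z = 5 →
      (∀ t ∈ T, z * t * z⁻¹ ∈ T) → T = M := by
    intro T hMT hT z hz hzT
    refine le_antisymm ?_ hMT
    set F := M ⊓ Subgroup.centralizer (T : Set G) with hF
    have hFne : F ≠ ⊥ := by
      have hne : M.subgroupOf T ≠ ⊥ := by
        rw [Ne, Subgroup.subgroupOf_eq_bot, disjoint_iff, inf_of_le_left hMT]
        exact hMne
      haveI : Nontrivial T := by
        refine (Subgroup.nontrivial_iff_ne_bot _).2 fun h => hMne ?_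
        exact le_bot_iff.1 (h ▸ hMT)
      letI : MulAction T M :=
        { smul := fun t u => ⟨(t : G) * u * (t : G)⁻¹, ‹M.Normal›.conj_mem u u.2 t⟩
          one_smul := fun u => Subtype.ext (by show (1 : G) * u * (1 : G)⁻¹ = u; group)
          mul_smul := fun t k u => Subtype.ext (by
            show ((t : G) * k) * u * ((t : G) * k)⁻¹ = (t : G) * ((k : G) * u * (k : G)⁻¹) * (t : G)⁻¹
            group) }
      have h2 : 2 ∣ Nat.card M := by rw [h16]; norm_num
      have h1 : (1 : M) ∈ MulAction.fixedPoints T M := fun t => Subtype.ext (by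
        show (t : G) * ((1 : M) : G) * (t : G)⁻¹ = ((1 : M) : G); simp)
      obtain ⟨u, hu, hu1⟩ := hT.exists_fixed_point_of_prime_dvd_card_of_fixed_point M h2 h1
      intro hbot
      refine hu1 (Subtype.ext ?_)
      have hmem : (u : G) ∈ F := ⟨u.2, mem_centralizer_iff.2 fun t ht => by
        have := congrArg Subtype.val (hu ⟨t, ht⟩)
        exact mul_inv_eq_iff_eq_mul.1 this⟩
      rw [hbot, Subgroup.mem_bot] at hmem
      exact hmem.symm
    have hFM : F = M := by
      refine (hinv z hz F inf_le_left fun u hu => ⟨‹M.Normal›.conj_mem u hu.1 z, ?_⟩).resolve_left hFne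
      show z * u * z⁻¹ ∈ Subgroup.centralizer _
      rw [mem_centralizer_iff]
      intro t ht
      obtain ⟨t', ht', rfl⟩ : ∃ t' ∈ T, z * t' * z⁻¹ = t := by
        let f : T → T := fun t' => ⟨z * t' * z⁻¹, hzT t' t'.2⟩
        have hf : Function.Injective f := fun a b h => Subtype.ext (by
          have := congrArg Subtype.val h; simpa [f] using this)
        obtain ⟨t', h⟩ := (Finite.injective_iff_surjective.1 hf) ⟨t, ht⟩
        exact ⟨t', t'.2, congrArg Subtype.val h⟩
      have h3 := mem_centralizer_iff.1 hu.2 t' ht'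
      calc z * t' * z⁻¹ * (z * u * z⁻¹) = z * (t' * u) * z⁻¹ := by group
        _ = z * (u * t') * z⁻¹ := by rw [h3]
        _ = _ := by group
    refine le_trans (fun t ht => ?_) hself
    rw [mem_centralizer_iff]
    intro u hu
    exact (mem_centralizer_iff.1 ((hFM.ge hu).2) t ht).symm
  -- the quotient
  haveI hsolv : Group.IsSolvable G :=
    CharApp.isSolvable_of_card_eq_prime_pow_mul 2 5 Nat.prime_two (by norm_num) _ G rfl a 1 (by rw [hG, pow_one])
  set π := QuotientGroup.mk' M with hπ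
  have hyM : y ∉ M := by
    intro h
    have h5 := orderOf_dvd_natCard (⟨y, h⟩ : M)
    rw [Subgroup.orderOf_mk, hy, h16] at h5
    norm_num at h5
  haveI : Nontrivial (G ⧸ M) := ⟨⟨π y, 1, fun h => hyM ((QuotientGroup.eq_one_iff y).1 h)⟩⟩
  have hyq : orderOf (π y) = 5 :=
    orderOf_eq_prime (by rw [← map_pow, ← hy, pow_orderOf_eq_one, map_one])
      (fun h => hyM ((QuotientGroup.eq_one_iff y).1 h))
  have h5sq : ¬ 5 ^ 2 ∣ Nat.card (G ⧸ M) := by
    intro h
    have h1 : 5 ^ 2 ∣ Nat.card G := h.trans (Subgroup.card_quotient_dvd_card M)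
    rw [hG] at h1
    have h2 : Nat.Coprime (5 ^ 2) (2 ^ a) := by
      apply Nat.Coprime.pow; norm_num
    have := Nat.le_of_dvd (by norm_num) (h2.dvd_of_dvd_mul_left h1)
    omega
  -- `⟨y⟩` is normal modulo `M`
  have hPn : (Subgroup.zpowers (π y)).Normal := by
    haveI : Group.IsSolvable (G ⧸ M) := inferInstance
    obtain ⟨S, hSn, hSne, hSc⟩ : ∃ S : Subgroup (G ⧸ M), S.Normal ∧ S ≠ ⊥ ∧ ∀ u ∈ S, ∀ v ∈ S, u * v = v * u := by
      obtain ⟨k, hk⟩ := (Group.isSolvable_def (G ⧸ M)).1 inferInstance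
      classical
      let k₀ := Nat.find (⟨k, hk⟩ : ∃ k, derivedSeries (G ⧸ M) k = ⊥)
      have hk₀ := Nat.find_spec (⟨k, hk⟩ : ∃ k, derivedSeries (G ⧸ M) k = ⊥)
      obtain ⟨l, hl⟩ : ∃ l, k₀ = l + 1 := by
        refine ⟨k₀ - 1, (Nat.sub_add_cancel (Nat.pos_of_ne_zero fun h => ?_)).symm⟩
        have h0 : derivedSeries (G ⧸ M) k₀ = ⊥ := hk₀
        rw [h, derivedSeries_zero] at h0
        exact top_ne_bot h0
      refine ⟨derivedSeries (G ⧸ M) l, derivedSeries_normal _ l, Nat.find_min _ (by omega : l < k₀), ?_⟩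
      have h0 : derivedSeries (G ⧸ M) k₀ = ⊥ := hk₀
      rw [hl, derivedSeries_succ, commutator_eq_bot_iff_le_centralizer] at h0
      exact fun u hu v hv => mem_centralizer_iff.1 (h0 hv) u hu
    haveI := hSn
    by_cases h5 : 5 ∣ Nat.card S
    · obtain ⟨x, hx⟩ := exists_prime_orderOf_dvd_card' (G := S) 5 h5
      let R : Sylow 5 (G ⧸ M) := default
      have hRcard : Nat.card R = 5 := by
        obtain ⟨k, hk⟩ := IsPGroup.iff_card.1 R.isPGroup'
        have h5R : 5 ∣ Nat.card R := R.dvd_card_of_dvd_card (hyq ▸ orderOf_dvd_natCard (π y))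
        have hk1 : k = 1 := by
          rcases k with - | - | k
          · rw [hk] at h5R; norm_num at h5R
          · rfl
          · exact absurd ((pow_dvd_pow 5 (by omega : 2 ≤ k + 2)).trans (hk ▸ Subgroup.card_subgroup_dvd_card _)) h5sq
        rw [hk, hk1, pow_one]
      -- all elements of order `5` are in `S`, and `S` has one subgroup of order `5`
      have hxS : (x : G ⧸ M) ∈ S := x.2
      have hX : ∀ g : G ⧸ M, g * x * g⁻¹ ∈ Subgroup.zpowers (x : G ⧸ M) := by
        intro g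
        by_contra hg
        set T := Subgroup.zpowers (x : G ⧸ M) ⊔ Subgroup.zpowers (g * x * g⁻¹) with hT
        have hTS : T ≤ S := sup_le (zpowers_le.2 hxS) (zpowers_le.2 (hSn.conj_mem _ hxS g))
        let f : S → S := fun u => u
        letI : CommGroup S := { (inferInstance : Group S) with mul_comm := fun u v => Subtype.ext (hSc u u.2 v v.2) }
        let Q : Sylow 5 S := default
        haveI := Sylow.unique_of_normal Q inferInstance
        have hmemQ : ∀ w : S, orderOf w = 5 → w ∈ (Q : Subgroup S) := fun w hw => by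
          obtain ⟨R', hR'⟩ := (IsPGroup.of_card (n := 1) (by rw [Nat.card_zpowers, hw, pow_one]) :
            IsPGroup 5 (Subgroup.zpowers w)).exists_le_sylow
          exact Subsingleton.elim R' Q ▸ hR' (mem_zpowers w)
        have hQcard : Nat.card Q ≤ 5 := by
          obtain ⟨k, hk⟩ := IsPGroup.iff_card.1 Q.isPGroup'
          rcases k with - | - | k
          · rw [hk]; norm_num
          · rw [hk]; norm_num
          · exact absurd (((pow_dvd_pow 5 (by omega : 2 ≤ k + 2)).trans (hk ▸ Subgroup.card_subgroup_dvd_card _)).trans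
              (Subgroup.card_subgroup_dvd_card S)) h5sq
        let w : S := ⟨g * x * g⁻¹, hSn.conj_mem _ hxS g⟩
        have hw : orderOf w = 5 := by
          rw [← Subgroup.orderOf_coe]
          show orderOf (MulAut.conj g (x : G ⧸ M)) = 5
          rw [MulEquiv.orderOf_eq, Subgroup.orderOf_coe, hx]
        have hQx : Subgroup.zpowers x = (Q : Subgroup S) := Subgroup.eq_of_le_of_card_ge
          (zpowers_le.2 (hmemQ x hx)) (by rw [Nat.card_zpowers, hx]; exact hQcard)
        obtain ⟨i, hi⟩ := mem_zpowers_iff.1 (hQx.ge (hmemQ w hw))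
        exact hg ⟨i, by simpa using congrArg Subtype.val hi⟩
      have hxn : (Subgroup.zpowers (x : G ⧸ M)).Normal := ⟨fun n hn g => by
        obtain ⟨i, rfl⟩ := mem_zpowers_iff.1 hn
        rw [← conj_zpow]
        exact zpow_mem (hX g) i⟩
      have hxR : IsPGroup 5 (Subgroup.zpowers (x : G ⧸ M)) :=
        IsPGroup.of_card (n := 1) (by rw [Nat.card_zpowers, Subgroup.orderOf_coe, hx, pow_one])
      obtain ⟨R₁, hR₁⟩ := hxR.exists_le_sylow
      obtain ⟨R₂, hR₂⟩ := (IsPGroup.of_card (n := 1) (by rw [Nat.card_zpowers, hyq, pow_one]) :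
        IsPGroup 5 (Subgroup.zpowers (π y))).exists_le_sylow
      have hR₁' : Subgroup.zpowers (x : G ⧸ M) = R₁ := Subgroup.eq_of_le_of_card_ge hR₁ (by
        rw [Nat.card_zpowers, Subgroup.orderOf_coe, hx, R₁.card_eq_multiplicity, ← R.card_eq_multiplicity, hRcard])
      have hR₂' : Subgroup.zpowers (π y) = R₂ := Subgroup.eq_of_le_of_card_ge hR₂ (by
        rw [Nat.card_zpowers, hyq, R₂.card_eq_multiplicity, ← R.card_eq_multiplicity, hRcard])
      haveI : (R₁ : Subgroup (G ⧸ M)).Normal := hR₁' ▸ hxn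
      haveI := Sylow.unique_of_normal R₁ this
      rw [hR₂', Subsingleton.elim R₂ R₁]
      exact hR₁' ▸ hxn
    · exfalso
      have hS2 : IsPGroup 2 (S.comap π) := by
        obtain ⟨j, -, hj⟩ : ∃ j, j ≤ a ∧ Nat.card (S.comap π) = 2 ^ j := by
          refine (Nat.dvd_prime_pow Nat.prime_two).1 ?_
          have hcard : Nat.card (S.comap π) = Nat.card M * Nat.card S := by
            rw [show Nat.card (S.comap π) = Nat.card ((QuotientGroup.mk : G → G ⧸ M) ⁻¹' (S : Set (G ⧸ M))) from rfl,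
              Nat.card_congr (QuotientGroup.preimageMkEquivSubgroupProdSet M (S : Set (G ⧸ M))), Nat.card_prod]
            rfl
          have hd : Nat.card (S.comap π) ∣ 2 ^ a * 5 := hG ▸ Subgroup.card_subgroup_dvd_card _
          refine Nat.Coprime.dvd_of_dvd_mul_right ?_ hd
          rw [Nat.coprime_comm, Nat.Prime.coprime_iff_not_dvd (by norm_num), hcard, h16,
            (by norm_num : Nat.Prime 5).dvd_mul]
          exact not_or.2 ⟨by norm_num, h5⟩
        exact IsPGroup.of_card hj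
      have hle : M ≤ S.comap π := fun u hu => by
        show π u ∈ S
        rw [show π u = 1 from (QuotientGroup.eq_one_iff u).2 hu]; exact one_mem S
      have := htwo _ hle hS2 y hy (fun t ht => (hSn.comap π).conj_mem t ht y)
      refine hSne ((Subgroup.eq_bot_iff_forall _).2 fun s hs => ?_)
      obtain ⟨u, rfl⟩ := QuotientGroup.mk'_surjective M s
      exact (QuotientGroup.eq_one_iff u).2 (this ▸ hs)
  -- the centralizer of `⟨y⟩` modulo `M`
  set P := Subgroup.zpowers (π y)
  haveI := hPn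
  set C := Subgroup.centralizer (P : Set (G ⧸ M))
  have hC : Nat.card C ≤ 5 := by
    by_contra hlt
    have hC2 : 2 ∣ Nat.card C := by
      by_contra h2
      have hd : Nat.card C ∣ 2 ^ a * 5 :=
        hG ▸ ((Subgroup.card_subgroup_dvd_card _).trans (Subgroup.card_quotient_dvd_card M))
      have := Nat.le_of_dvd (by norm_num) (Nat.Coprime.dvd_of_dvd_mul_left
        ((Nat.coprime_comm.1 (Nat.prime_two.coprime_iff_not_dvd.2 h2)).pow_right a) hd)
      omega
    obtain ⟨t, ht⟩ := exists_prime_orderOf_dvd_card' (G := C) 2 hC2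
    set T := (Subgroup.zpowers (t : G ⧸ M)).comap π
    have hMT : M ≤ T := fun u hu => by
      show π u ∈ Subgroup.zpowers (t : G ⧸ M)
      rw [show π u = 1 from (QuotientGroup.eq_one_iff u).2 hu]; exact one_mem _
    have hT2 : IsPGroup 2 T := IsPGroup.of_card (n := 5) (by
      rw [show Nat.card T = Nat.card ((QuotientGroup.mk : G → G ⧸ M) ⁻¹' (Subgroup.zpowers (t : G ⧸ M) : Set (G ⧸ M))) from rfl,
        Nat.card_congr (QuotientGroup.preimageMkEquivSubgroupProdSet M _), Nat.card_prod, h16]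
      show 16 * Nat.card (Subgroup.zpowers (t : G ⧸ M)) = 2 ^ 5
      rw [Nat.card_zpowers, Subgroup.orderOf_coe, ht]
      norm_num)
    have := htwo T hMT hT2 y hy (fun u hu => by
      show π (y * u * y⁻¹) ∈ Subgroup.zpowers (t : G ⧸ M)
      obtain ⟨i, hi⟩ := mem_zpowers_iff.1 (hu : π u ∈ Subgroup.zpowers (t : G ⧸ M))
      have hc : Commute (π y) (t : G ⧸ M) := mem_centralizer_iff.1 t.2 (π y) (mem_zpowers _)
      rw [map_mul, map_mul, ← hi, (hc.zpow_right i).eq, map_inv, mul_inv_cancel_right]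
      exact ⟨i, rfl⟩)
    obtain ⟨u, hu⟩ := QuotientGroup.mk'_surjective M (t : G ⧸ M)
    have huT : u ∈ T := show π u ∈ Subgroup.zpowers (t : G ⧸ M) from hu ▸ mem_zpowers _
    rw [this] at huT
    have h1 : (t : G ⧸ M) = 1 := hu ▸ (QuotientGroup.eq_one_iff u).2 huT
    rw [← Subgroup.orderOf_coe, h1, orderOf_one] at ht
    norm_num at ht
  have hidx : C.index ≤ 4 := by
    let φ : (G ⧸ M) →* MulAut P := MulAut.conjNormal
    have hk : φ.ker = C := by
      ext g
      rw [MonoidHom.mem_ker, mem_centralizer_iff]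
      constructor
      · intro h u hu
        have := congrArg Subtype.val (MulEquiv.congr_fun h ⟨u, hu⟩)
        rw [MulAut.conjNormal_apply] at this
        exact (mul_inv_eq_iff_eq_mul.1 this).symm
      · intro h
        refine MulEquiv.ext fun u => Subtype.ext ?_
        rw [MulAut.conjNormal_apply, ← h u u.2, mul_inv_cancel_right]
        rfl
    rw [← hk, Subgroup.index_ker]
    have hinj : Function.Injective (fun f : MulAut P => (⟨f ⟨π y, mem_zpowers _⟩, fun h => by
        have h1 : (⟨π y, mem_zpowers _⟩ : P) = 1 := f.injective (h.trans (map_one f).symm)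
        have := congrArg Subtype.val h1
        exact hyM ((QuotientGroup.eq_one_iff y).1 this)⟩ : {u : P // u ≠ 1})) := by
      intro f g h
      refine MulEquiv.ext fun u => ?_
      obtain ⟨i, hi⟩ := mem_zpowers_iff.1 u.2
      have hu : u = (⟨π y, mem_zpowers _⟩ : P) ^ i := Subtype.ext hi.symm
      rw [hu, map_zpow, map_zpow]
      exact congrArg (· ^ i) (congrArg Subtype.val h)
    haveI : Finite (MulAut P) := Finite.of_injective _ hinj
    refine (Nat.card_le_card_of_injective _ Subtype.val_injective).trans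
      ((Nat.card_le_card_of_injective _ hinj).trans ?_)
    haveI := Fintype.ofFinite P
    rw [Nat.card_eq_fintype_card, Fintype.card_subtype_compl, Fintype.card_subtype_eq,
      ← Nat.card_eq_fintype_card, Nat.card_zpowers, hyq]
  refine ⟨h16, ?_, hinv⟩
  calc M.index = Nat.card C * C.index := by rw [Subgroup.card_mul_index]; rfl
    _ ≤ 5 * 4 := Nat.mul_le_mul hC hidx
    _ = 20 := rfl

end Section

variable {V : Type*} [AddCommGroup V] [Finite V] [Nontrivial V] {H : Type*} [Group H] [Finite H]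

theorem isGamma_or_small [Fact (Nat.Prime 3)] [Module (ZMod 3) V] {ρ : H →* (V ≃ₗ[ZMod 3] V)}
    (hρ : TransLin ρ) (hn : finrank (ZMod 3) V = 4) :
    (∃ C, IsGamma ρ C) ∨ ∃ m, Nat.card H = 80 * m ∧ Nat.card (ConjClasses H) + m < 81 := by
  classical
  by_cases hgam : ∃ C, IsGamma ρ C
  · exact Or.inl hgam
  refine Or.inr ?_
  haveI : Fact (Nat.Prime 5) := ⟨by norm_num⟩
  haveI : Fact (Nat.Prime 2) := ⟨Nat.prime_two⟩
  haveI : Fact (Nat.Prime 13) := ⟨by norm_num⟩
  obtain ⟨m, hm, hH⟩ := stab_pos hρ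
  rw [hn] at hH
  norm_num at hH
  refine ⟨m, hH, ?_⟩
  obtain ⟨χ, hχ, hχn, hfaith⟩ := exists_char_of_linear hρ.coprime ρ hρ.inj
  rw [hn] at hχn
  -- the order
  have hGL : Nat.card H ∣ 24261120 := by
    let b := (Module.finBasis (ZMod 3) V).reindex (finCongr hn)
    let f : H →* Matrix (Fin 4) (Fin 4) (ZMod 3) :=
      { toFun := fun g => LinearMap.toMatrixAlgEquiv b (ρ g : V →ₗ[ZMod 3] V)
        map_one' := by rw [map_one]; exact map_one (LinearMap.toMatrixAlgEquiv b)
        map_mul' := fun a c => by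
          rw [← map_mul (LinearMap.toMatrixAlgEquiv b)]
          congr 1
          rw [map_mul]; rfl }
    have h1 := Subgroup.card_dvd_of_injective (MonoidHom.toHomUnits f) fun a c h => hρ.inj
      (LinearEquiv.toLinearMap_injective ((LinearMap.toMatrixAlgEquiv b).injective (congrArg Units.val h)))
    rw [Matrix.card_GL_field, ZMod.card] at h1
    simpa [Fin.prod_univ_succ] using h1
  have h13 : ¬ 13 ∣ Nat.card H := by
    intro h
    let P : Sylow 13 H := default
    have hPn := sylow_normal_of_large hχ hfaith hχn (Or.inl (by norm_num)) P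
    haveI := hPn
    obtain ⟨d, l, hd, hl, hV, hdA, -⟩ := Nearfield.exists_degree ρ hρ.inj hρ.trans (P : Subgroup H)
      (commute_of_lt hχ hfaith hχn (by norm_num) P.isPGroup')
    have hdl := mul_eq_finrank hV
    rw [hn] at hdl
    have hd4 : d ≤ 4 := Nat.le_of_dvd (by norm_num) ⟨l, hdl.symm⟩
    have h13d := (P.dvd_card_of_dvd_card h).trans hdA
    have hd' : d ∣ 4 := ⟨l, hdl.symm⟩
    interval_cases d <;> first | omega | (norm_num at h13d)
  have h2560 : Nat.card H ∣ 2560 := by
    have h3 : ¬ 3 ∣ Nat.card H := hρ.coprime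
    have hc : Nat.Coprime (Nat.card H) (729 * 13) := by
      refine Nat.Coprime.mul_right ?_ ?_
      · rw [show 729 = 3 ^ 6 by norm_num]
        exact (Nat.coprime_comm.1 ((Nat.Prime.coprime_iff_not_dvd (by norm_num)).2 h3)).pow_right 6
      · exact Nat.coprime_comm.1 ((Nat.Prime.coprime_iff_not_dvd (by norm_num)).2 h13)
    exact hc.dvd_of_dvd_mul_right (show Nat.card H ∣ 2560 * (729 * 13) by norm_num; exact hGL)
  have h80 : 80 ∣ Nat.card H := ⟨m, hH⟩
  have h5H : 5 ∣ Nat.card H := (by norm_num : 5 ∣ 80).trans h80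
  obtain ⟨a, ha9, ha⟩ : ∃ a, a ≤ 9 ∧ Nat.card H = 2 ^ a * 5 := by
    obtain ⟨c, hc⟩ := h5H
    rw [hc, show 2560 = 5 * 2 ^ 9 by norm_num] at h2560
    obtain ⟨a, ha, rfl⟩ := (Nat.dvd_prime_pow Nat.prime_two).1 (Nat.dvd_of_mul_dvd_mul_left (by norm_num) h2560)
    exact ⟨a, ha, by rw [hc, mul_comm]⟩
  haveI hsolv : Group.IsSolvable H :=
    CharApp.isSolvable_of_card_eq_prime_pow_mul 2 5 Nat.prime_two (by norm_num) _ H rfl a 1 (by rw [ha, pow_one])
  have hprim5 : ∀ i : ℕ, i < finrank (ZMod 3) V → 1 ≤ i → ¬ 5 ∣ 3 ^ i - 1 := by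
    rw [hn]; intro i hi hi1; interval_cases i <;> norm_num
  -- every normal abelian subgroup has order at most two
  have hab : ∀ B : Subgroup H, B.Normal → (∀ u ∈ B, ∀ v ∈ B, u * v = v * u) → Nat.card B ∣ 2 := by
    intro B hBn hBc
    haveI := hBn
    obtain ⟨d', l', -, -, hV, -, hidx, -⟩ := Nearfield.exists_degree ρ hρ.inj hρ.trans B hBc
    obtain ⟨d, l, hdl, hdA, ψ, hψ, hψl, hψf⟩ := exists_char_centralizer hρ B hBc
    rw [hn] at hdl
    by_contra hB
    have hl2 : l ≤ 2 := by
      by_contra h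
      have hd1 : d = 1 := by
        rcases Nat.lt_or_ge d 2 with h' | h'
        · interval_cases d <;> omega
        · have := Nat.mul_le_mul h' (by omega : 3 ≤ l)
          omega
      subst hd1
      exact hB (by simpa using hdA)
    have hl0 : 0 < l := Nat.pos_of_ne_zero fun h => by rw [h, mul_zero] at hdl; norm_num at hdl
    set K := Subgroup.centralizer (B : Set H) with hK
    have h5K : 5 ∣ Nat.card K := by
      have h5H' := h5H
      rw [← Subgroup.card_mul_index K] at h5H'
      refine ((Nat.Prime.dvd_mul (by norm_num)).1 h5H').resolve_right fun h => ?_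
      have hd' := mul_eq_finrank hV
      rw [hn] at hd'
      have := (h.trans hidx).trans ⟨l', hd'.symm⟩
      norm_num at this
    let Q : Sylow 5 K := default
    have hlarge : 2 * l + 1 < 5 ∨ (2 * l + 1 = 5 ∧ ¬ 3 ∣ Nat.card K ∧ 0 < l) := by
      rcases (show l = 1 ∨ l = 2 by omega) with h | h
      · left; omega
      · exact Or.inr ⟨by omega, fun h3 => hρ.coprime (h3.trans (Subgroup.card_subgroup_dvd_card K)), hl0⟩
    haveI hQn : (Q : Subgroup K).Normal := sylow_normal_of_large hψ hψf hψl hlarge Q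
    haveI := Sylow.unique_of_normal Q hQn
    haveI : (Q : Subgroup K).Characteristic := Sylow.characteristic_of_subsingleton Q
    haveI : K.Normal := inferInstanceAs (Subgroup.centralizer (B : Set H)).Normal
    haveI : ((Q : Subgroup K).map K.subtype).Normal := ConjAct.normal_of_characteristic_of_normal
    refine hgam (isGamma_of_abelian ρ hρ ((Q : Subgroup K).map K.subtype) ?_
      (not_dvd_of_primitive (r := 5) ?_ hprim5))
    · rintro _ ⟨u, hu, rfl⟩ _ ⟨v, hv, rfl⟩
      exact congrArg K.subtype (commute_of_lt hψ hψf hψl (by omega) Q.isPGroup' u hu v hv)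
    · rw [Subgroup.card_subtype]
      exact Q.dvd_card_of_dvd_card h5K
  have hH80 : 80 ≤ Nat.card H := Nat.le_of_dvd Nat.card_pos h80
  obtain ⟨A, -, hAmax⟩ := Finite.exists_le_maximal (α := Subgroup H)
    (p := fun B => B.Normal ∧ ∀ u ∈ B, ∀ v ∈ B, u * v = v * u) (a := ⊥)
    ⟨Subgroup.normal_bot, fun u hu v hv => by rw [Subgroup.mem_bot.1 hu, Subgroup.mem_bot.1 hv]⟩
  obtain ⟨hAn, hAc⟩ := hAmax.prop
  haveI := hAn
  have hA2 : Nat.card A ∣ 2 := hab A hAn hAc
  have hA2' : Nat.card A ≤ 2 := Nat.le_of_dvd (by norm_num) hA2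
  haveI hAcyc : IsCyclic A := by
    rcases (Nat.dvd_prime Nat.prime_two).1 hA2 with h | h
    · haveI : Subsingleton A := (Nat.card_eq_one_iff_unique.1 h).1
      exact isCyclic_of_subsingleton
    · exact isCyclic_of_prime_card h
  obtain ⟨M, hMn, hP, hMC, hnd, -, hK, hlt⟩ := Huppert.exists_class_two A hAc fun B hB hBc hAB =>
    le_antisymm (hAmax.2 ⟨hB, hBc⟩ hAB) hAB
  haveI := hMn
  have hcentA : Subgroup.centralizer (A : Set H) = ⊤ := by
    refine (Subgroup.eq_top_iff' _).2 fun g => mem_centralizer_iff.2 fun u hu => ?_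
    rcases eq_or_ne u 1 with rfl | hu1
    · rw [mul_one, one_mul]
    have h1 : g * u * g⁻¹ ∈ A := hAn.conj_mem u hu g
    have h2 : (⟨g * u * g⁻¹, h1⟩ : A) = ⟨u, hu⟩ := by
      by_contra hne
      have h3 : ({1, ⟨u, hu⟩, ⟨g * u * g⁻¹, h1⟩} : Finset A).card = 3 := by
        rw [Finset.card_insert_of_notMem, Finset.card_pair (Ne.symm hne)]
        simp only [Finset.mem_insert, Finset.mem_singleton, not_or, Subtype.ext_iff, OneMemClass.coe_one]
        exact ⟨Ne.symm hu1, fun h => hu1 (conj_eq_one_iff.1 h.symm)⟩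
      haveI := Fintype.ofFinite A
      have h4 := Finset.card_le_univ ({1, ⟨u, hu⟩, ⟨g * u * g⁻¹, h1⟩} : Finset A)
      rw [h3, ← Nat.card_eq_fintype_card] at h4
      omega
    exact (mul_inv_eq_iff_eq_mul.1 (congrArg Subtype.val h2)).symm
  have hAM : A < M := hlt fun h => by
    rw [hcentA] at h
    have h1 : Nat.card H ≤ 2 := by
      rw [← Subgroup.card_top (G := H), h]; exact hA2'
    omega
  -- `M` is not abelian
  obtain ⟨u₀, hu₀, v₀, hv₀, huv⟩ : ∃ u ∈ M, ∃ v ∈ M, u * v ≠ v * u := by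
    by_contra hcon
    push Not at hcon
    exact hAM.not_ge (hAmax.2 ⟨hMn, hcon⟩ hAM.le)
  have hcom0 : u₀ * v₀ * u₀⁻¹ * v₀⁻¹ ≠ 1 := fun h => huv (by
    rw [mul_inv_eq_one, mul_inv_eq_iff_eq_mul] at h; exact h)
  have hA2eq : Nat.card A = 2 := by
    rcases (Nat.dvd_prime Nat.prime_two).1 hA2 with h | h
    · rw [Subgroup.card_eq_one] at h
      have := hP.comm u₀ hu₀ v₀ hv₀
      rw [h, Subgroup.mem_bot] at this
      exact absurd this hcom0
    · exact h
  -- the section `M / A`
  set π := QuotientGroup.mk' A with hπ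
  have hπs : Function.Surjective π := QuotientGroup.mk'_surjective A
  set W := M.map π with hW
  haveI : W.Normal := hMn.map π hπs
  have hWcard : Nat.card W = A.relIndex M := by
    rw [hW, ← Subgroup.relIndex_ker, hπ, QuotientGroup.ker_mk']
  have hW16 : Nat.card W ≤ 16 := by
    obtain ⟨d, l, hd, hl, hV, -, -, -, hbound, -⟩ := Nearfield.exists_degree ρ hρ.inj hρ.trans A hAc
    have hdl := mul_eq_finrank hV
    rw [hn] at hdl
    have h1 := hbound M hMC hP.comm hnd
    have hl4 : l ≤ 4 := Nat.le_of_dvd (by norm_num) ⟨d, by rw [mul_comm]; exact hdl.symm⟩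
    rw [hWcard]
    exact h1.trans (Nat.mul_le_mul hl4 hl4)
  have hW2 : IsPGroup 2 W := by
    rintro ⟨_, u, hu, rfl⟩
    refine ⟨1, Subtype.ext ?_⟩
    show (π u) ^ 2 ^ 1 = 1
    rw [pow_one, pow_two, ← map_mul]
    refine (QuotientGroup.eq_one_iff _).2 (hnd _ (mul_mem hu hu) fun v hv => ?_)
    have hc := hP.comm u hu v hv
    have h2 : (u * v * u⁻¹ * v⁻¹) ^ 2 = 1 := by
      have := congrArg Subtype.val (pow_card_eq_one' (x := (⟨_, hc⟩ : A)))
      rw [hA2eq] at this
      exact this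
    rw [pow_two] at h2
    have hcu : u * (u * v * u⁻¹ * v⁻¹) = (u * v * u⁻¹ * v⁻¹) * u := (hP.central _ hc u hu).symm
    calc u * u * v = u * ((u * v * u⁻¹ * v⁻¹) * (v * u)) := by group
      _ = u * (u * v * u⁻¹ * v⁻¹) * (v * u) := by group
      _ = (u * v * u⁻¹ * v⁻¹) * u * (v * u) := by rw [hcu]
      _ = (u * v * u⁻¹ * v⁻¹) * (u * v) * u := by group
      _ = (u * v * u⁻¹ * v⁻¹) * ((u * v * u⁻¹ * v⁻¹) * (v * u)) * u := by group
      _ = (u * v * u⁻¹ * v⁻¹) * (u * v * u⁻¹ * v⁻¹) * (v * (u * u)) := by group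
      _ = _ := by rw [h2, one_mul]
  have hWne : W ≠ ⊥ := fun h => hAM.not_ge (by
    rw [hW, Subgroup.map_eq_bot_iff, hπ, QuotientGroup.ker_mk'] at h; exact h)
  have hWself : Subgroup.centralizer (W : Set (H ⧸ A)) ≤ W := by
    intro g hg
    obtain ⟨h, rfl⟩ := hπs g
    refine ⟨h, hK h (hcentA ▸ mem_top h) fun v hv => ?_, rfl⟩
    rw [← QuotientGroup.eq_one_iff (N := A)]
    show π (h * v * h⁻¹ * v⁻¹) = 1
    have h1 := mem_centralizer_iff.1 hg (π v) ⟨v, hv, rfl⟩
    rw [map_mul, map_mul, map_mul, map_inv, map_inv, ← h1]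
    group
  have ha1 : 1 ≤ a := by
    by_contra h
    rw [show a = 0 by omega] at ha
    omega
  have hQcard : Nat.card (H ⧸ A) = 2 ^ (a - 1) * 5 := by
    have h1 := Subgroup.card_eq_card_quotient_mul_card_subgroup A
    rw [ha, hA2eq] at h1
    obtain ⟨a', rfl⟩ : ∃ a', a = a' + 1 := ⟨a - 1, by omega⟩
    rw [Nat.add_sub_cancel]
    rw [pow_succ] at h1
    omega
  obtain ⟨hW16', hWidx, hWinv⟩ := small_section hQcard W hW2 hWne hW16 hWself
  have hMidx : M.index ≤ 20 := by
    rwa [show M.index = W.index from (Subgroup.index_map_eq M hπs (by rw [hπ, QuotientGroup.ker_mk']; exact hAM.le)).symm]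
  have hHcard : Nat.card H ≤ 640 := by
    rw [Subgroup.card_eq_card_quotient_mul_card_subgroup A, hA2eq, ← Subgroup.card_mul_index W, hW16']
    calc 16 * W.index * 2 ≤ 16 * 20 * 2 := by gcongr
      _ = 640 := by norm_num
  -- characters of degree less than four are trivial on `M`
  have hker : ∀ θ : Cfsg.IrrCharacter H, Cfsg.charDegree (θ : H → ℂ) < 4 → M ≤ Codegree.kerSub θ := by
    intro θ hθ
    set K := Codegree.kerSub θ
    obtain ⟨η, hη⟩ := Codegree.exists_quot θ K le_rfl
    obtain ⟨y, hy⟩ := exists_prime_orderOf_dvd_card' (G := H) 5 h5H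
    -- the image of `y` lies in a normal `5`-subgroup
    obtain ⟨R, hRn, hR5, hyR⟩ : ∃ R : Subgroup (H ⧸ K), R.Normal ∧ IsPGroup 5 R ∧ (y : H ⧸ K) ∈ R := by
      let R : Sylow 5 (H ⧸ K) := default
      have hRn : (R : Subgroup (H ⧸ K)).Normal := by
        by_contra hR
        have hfa : ∀ g : H ⧸ K, (η : H ⧸ K → ℂ) g = (η : H ⧸ K → ℂ) 1 → g = 1 := by
          intro g hg
          obtain ⟨g, rfl⟩ := QuotientGroup.mk_surjective g
          rw [← QuotientGroup.mk_one, hη, hη] at hg
          exact (QuotientGroup.eq_one_iff g).2 hg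
        have hdeg : Cfsg.charDegree (η : H ⧸ K → ℂ) = Cfsg.charDegree (θ : H → ℂ) := by
          simp [Cfsg.charDegree, ← hη]
        have h5 := (S4468.result (η : H ⧸ K → ℂ) (Char.IsIrrCharacter.isCharacter η.2) hfa _ hdeg 5
          (by norm_num) (ClassIndex.isPSolvable_of_isSolvable _ inferInstance) (by omega) R hR).1
        omega
      refine ⟨R, hRn, R.isPGroup', ?_⟩
      have hdvd : orderOf (y : H ⧸ K) ∣ 5 ^ 1 := by
        rw [pow_one, ← hy]; exact orderOf_map_dvd (QuotientGroup.mk' K) y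
      obtain ⟨k, -, hk⟩ := (Nat.dvd_prime_pow (by norm_num : Nat.Prime 5)).1 hdvd
      obtain ⟨R', hR'⟩ := (IsPGroup.of_card (n := k) (by rw [Nat.card_zpowers, hk]) :
        IsPGroup 5 (Subgroup.zpowers (y : H ⧸ K))).exists_le_sylow
      haveI := Sylow.unique_of_normal R hRn
      exact Subsingleton.elim R' R ▸ hR' (mem_zpowers _)
    -- commutators with `y` lie in `K`
    have hcom : ∀ u ∈ M, y * u * y⁻¹ * u⁻¹ ∈ K := by
      intro u hu
      rw [← QuotientGroup.eq_one_iff (N := K)]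
      set c : H ⧸ K := ((y * u * y⁻¹ * u⁻¹ : H) : H ⧸ K) with hc
      have hcR : c ∈ R := by
        have h2 := mul_mem hyR (hRn.conj_mem _ (inv_mem hyR) (u : H ⧸ K))
        simp only [hc, QuotientGroup.mk_mul, QuotientGroup.mk_inv]
        simpa [mul_assoc] using h2
      have hMp : IsPGroup 2 M := by
        have h32 : Nat.card M = 2 * 16 := by
          rw [← (A.subgroupOf M).card_mul_index, Nat.card_congr (Subgroup.subgroupOfEquivOfLe hAM.le).toEquiv,
            hA2eq, show (A.subgroupOf M).index = A.relIndex M from rfl, ← hWcard, hW16']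
        exact IsPGroup.of_card (n := 5) (h32.trans (by norm_num))
      have hcM : c ∈ M.map (QuotientGroup.mk' K) :=
        ⟨_, mul_mem (hMn.conj_mem u hu y) (inv_mem hu), rfl⟩
      have h1 := IsPGroup.disjoint_of_ne 5 2 (by norm_num) _ _ hR5 (hMp.map (QuotientGroup.mk' K))
      exact Subgroup.mem_bot.1 (h1.le_bot ⟨hcR, hcM⟩)
    set U := (M ⊓ K).map π with hU
    have hyA : y ∉ A := fun h => by
      have h1 := orderOf_dvd_natCard (⟨y, h⟩ : A)
      rw [Subgroup.orderOf_mk, hy, hA2eq] at h1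
      norm_num at h1
    have hy5 : orderOf (π y) = 5 := orderOf_eq_prime (by rw [← map_pow, ← hy, pow_orderOf_eq_one, map_one])
      fun h => hyA ((QuotientGroup.eq_one_iff y).1 h)
    rcases hWinv (π y) hy5 U (Subgroup.map_mono inf_le_left) (fun g hg => by
      obtain ⟨u, ⟨huM, huK⟩, rfl⟩ := hg
      exact ⟨y * u * y⁻¹, ⟨hMn.conj_mem u huM y, (Codegree.kerSub_normal θ).conj_mem u huK y⟩,
        by simp⟩) with hUb | hUW
    · exfalso
      have hyW : π y ∈ W := hWself (mem_centralizer_iff.2 fun g hg => by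
        obtain ⟨u, hu, rfl⟩ := hg
        have hu : u ∈ M := hu
        have h1 : π (y * u * y⁻¹ * u⁻¹) ∈ U :=
          Subgroup.mem_map.2 ⟨_, Subgroup.mem_inf.2 ⟨mul_mem (hMn.conj_mem u hu y) (inv_mem hu), hcom u hu⟩, rfl⟩
        rw [hUb, Subgroup.mem_bot, map_mul, map_mul, map_mul, map_inv, map_inv, mul_inv_eq_one,
          mul_inv_eq_iff_eq_mul] at h1
        exact h1.symm)
      have h2 := orderOf_dvd_natCard (⟨π y, hyW⟩ : W)
      rw [Subgroup.orderOf_mk, hy5, hW16'] at h2
      norm_num at h2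
    · have hsplit : ∀ u ∈ M, ∃ w ∈ M ⊓ K, ∃ z ∈ A, u = w * z := by
        intro u hu
        obtain ⟨w, hw, hwu⟩ := (hUW ▸ ⟨u, hu, rfl⟩ : π u ∈ U)
        exact ⟨w, hw, w⁻¹ * u, QuotientGroup.eq.1 hwu, (mul_inv_cancel_left w u).symm⟩
      have hAK : A ≤ K := by
        obtain ⟨w₁, hw₁, z₁, hz₁, rfl⟩ := hsplit u₀ hu₀
        obtain ⟨w₂, hw₂, z₂, hz₂, rfl⟩ := hsplit v₀ hv₀
        have hz : ∀ z ∈ A, ∀ g : H, z * g = g * z := fun z hz g =>
          mem_centralizer_iff.1 (hcentA ▸ mem_top g : g ∈ Subgroup.centralizer (A : Set H)) z hz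
        have he : w₁ * z₁ * (w₂ * z₂) * (w₁ * z₁)⁻¹ * (w₂ * z₂)⁻¹ = w₁ * w₂ * w₁⁻¹ * w₂⁻¹ := by
          calc _ = w₁ * (z₁ * (w₂ * z₂)) * z₁⁻¹ * w₁⁻¹ * z₂⁻¹ * w₂⁻¹ := by group
            _ = w₁ * w₂ * z₂ * w₁⁻¹ * z₂⁻¹ * w₂⁻¹ := by rw [hz z₁ hz₁]; group
            _ = w₁ * w₂ * (z₂ * w₁⁻¹) * z₂⁻¹ * w₂⁻¹ := by group
            _ = _ := by rw [hz z₂ hz₂]; group
        have hcK : w₁ * w₂ * w₁⁻¹ * w₂⁻¹ ∈ K :=
          mul_mem (mul_mem (mul_mem hw₁.2 hw₂.2) (inv_mem hw₁.2)) (inv_mem hw₂.2)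
        have hcA : w₁ * w₂ * w₁⁻¹ * w₂⁻¹ ∈ A := he ▸ hP.comm _ hu₀ _ hv₀
        rw [he] at hcom0
        intro z hzA
        rcases eq_or_ne z 1 with rfl | hz1
        · exact one_mem K
        have : (⟨z, hzA⟩ : A) = ⟨_, hcA⟩ := by
          by_contra hne
          haveI := Fintype.ofFinite A
          have h3 : ({1, ⟨z, hzA⟩, ⟨_, hcA⟩} : Finset A).card = 3 := by
            rw [Finset.card_insert_of_notMem, Finset.card_pair hne]
            simp only [Finset.mem_insert, Finset.mem_singleton, not_or, Subtype.ext_iff, OneMemClass.coe_one]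
            exact ⟨Ne.symm hz1, Ne.symm hcom0⟩
          have h4 := Finset.card_le_univ ({1, ⟨z, hzA⟩, ⟨_, hcA⟩} : Finset A)
          rw [h3, ← Nat.card_eq_fintype_card] at h4
          omega
        rw [show z = _ from congrArg Subtype.val this]; exact hcK
      intro u hu
      obtain ⟨w, hw, z, hz, rfl⟩ := hsplit u hu
      exact mul_mem hw.2 (hAK hz)
  have hk := card_conjClasses_mul_sixteen M hker
  omega

end Cfsg.Agent.TransPPrime
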