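/-
Transitive linear groups of order prime to `p` on a plane (namespace `Cfsg.Agent.TransPPrime`).

* `pole_count`: the class number of a primitive linear group of degree two
* `two_cases`: a Singer cycle is normal, or the class number bounds hold, or `|H| = 120` with `p = 11`
-/
import Cfsg.Agent.Lib.TransPPrime.Big
import Cfsg.Agent.S4473
import Cfsg.Agent.S0689
import Cfsg.Agent.Lib.Huppert.Main

set_option autoImplicit false
set_option linter.unusedSectionVars false
set_option linter.unusedSimpArgs false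
set_option linter.style.haveILetI false

namespace Cfsg.Agent.TransPPrime

open Module Cfsg
open scoped ComplexConjugate

theorem apply_of_eigen {v : Fin 2 → ℂ} (hv : v ≠ 0) (f : (Fin 2 → ℂ) →ₗ[ℂ] (Fin 2 → ℂ)) {c : ℂ}
    (h : f v = c • v) : c * c - LinearMap.trace ℂ _ f * c + LinearMap.det f = 0 := by
  have e1 : LinearMap.trace ℂ _ f = (LinearMap.toMatrix' f).trace := by
    rw [LinearMap.trace_eq_matrix_trace ℂ (Pi.basisFun ℂ (Fin 2)), LinearMap.toMatrix_eq_toMatrix']
  rw [e1, ← LinearMap.det_toMatrix' f]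
  have hM : (LinearMap.toMatrix' f - c • (1 : Matrix (Fin 2) (Fin 2) ℂ)).mulVec v = 0 := by
    rw [Matrix.sub_mulVec, Matrix.smul_mulVec, Matrix.one_mulVec, LinearMap.toMatrix'_mulVec, h, sub_self]
  have hd := Matrix.exists_mulVec_eq_zero_iff.1 ⟨v, hv, hM⟩
  simp only [Matrix.det_fin_two, Matrix.sub_apply, Matrix.smul_apply, Matrix.one_apply_eq, ne_eq,
    one_ne_zero, not_false_eq_true, Matrix.one_apply_ne, Fin.zero_eq_one_iff, zero_ne_one, smul_eq_mul,
    mul_one, mul_zero, sub_zero] at hd
  rw [Matrix.trace_fin_two, Matrix.det_fin_two]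
  linear_combination hd

set_option synthInstance.maxHeartbeats 400000 in
set_option synthInstance.maxSize 4000 in
theorem triple_orders : ∀ N ∈ [12, 24, 60], ∀ a < 31, ∀ b < 31,
    N % a ≠ 0 ∨ N % b ≠ 0 ∨ a < 3 ∨ b < 3 ∨ N + 2 < a + b + 3 ∨ N % (N + 2 - a - b) ≠ 0 ∨
    N < 2 * (N + 2 - a - b) ∨
      N / a + N / b + N / (N + 2 - a - b) = (if N = 12 then 8 else if N = 24 then 9 else 10) := by
  decide +kernel

/-- The class number of a primitive group of degree two. -/
theorem pole_count {G : Type*} [Group G] [Fintype G] (χ : IrrCharacter G)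
    (hfaith : ∀ g : G, (χ : G → ℂ) g = (χ : G → ℂ) 1 → g = 1) (h2 : charDegree (χ : G → ℂ) = 2)
    (hprim : ∀ H : Subgroup G, H ≠ ⊤ → ∀ θ : H → ℂ, IsCharacter H θ → (χ : G → ℂ) ≠ indFun H θ) :
    ((Subgroup.center G).index = 12 ∧ 2 * Nat.card (ConjClasses G) = 7 * Nat.card (Subgroup.center G)) ∨
    ((Subgroup.center G).index = 24 ∧ 2 * Nat.card (ConjClasses G) = 8 * Nat.card (Subgroup.center G)) ∨
    ((Subgroup.center G).index = 60 ∧ 2 * Nat.card (ConjClasses G) = 9 * Nat.card (Subgroup.center G)) := by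
  classical
  obtain ⟨d, ρ, hi, he⟩ := χ.2
  haveI := hi
  have hd : d = 2 := by
    have h := Blocks.charDegree_cast χ
    rw [h2, ← he, Representation.char_one, Module.finrank_fin_fun] at h
    exact_mod_cast h.symm
  subst hd
  have hscal : ∀ g : G, ∀ c : ℂ, ρ g = c • LinearMap.id → g ∈ Subgroup.center G := by
    intro g c hg
    refine Subgroup.mem_center_iff.2 fun x => ?_
    have h1 : ρ (x * g * (g * x)⁻¹) = 1 := by
      rw [map_mul, map_mul, show ρ x * ρ g = ρ g * ρ x by
          rw [hg]; ext v i; simp, ← map_mul, ← map_mul, mul_inv_cancel, map_one]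
    exact mul_inv_eq_one.1 (hfaith _ (by rw [← he, Representation.character, Representation.character, h1, map_one ρ]))
  -- no common line
  have hnoline : ∀ v : Fin 2 → ℂ, v ≠ 0 → ¬ ∀ g : G, ρ g v ∈ Submodule.span ℂ {v} := by
    intro v hv hall
    let S : Subrepresentation ρ := ⟨Submodule.span ℂ {v}, fun g u hu => by
      obtain ⟨a, rfl⟩ := Submodule.mem_span_singleton.1 hu
      rw [map_smul]; exact Submodule.smul_mem _ a (hall g)⟩
    rcases eq_bot_or_eq_top S with hS | hS
    · exact hv ((Submodule.span_singleton_eq_bot).1 (congrArg Subrepresentation.toSubmodule hS))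
    · have h := congrArg (fun W : Submodule ℂ (Fin 2 → ℂ) => Module.finrank ℂ W)
        (congrArg Subrepresentation.toSubmodule hS)
      change Module.finrank ℂ (Submodule.span ℂ {v}) = Module.finrank ℂ (⊤ : Submodule ℂ (Fin 2 → ℂ)) at h
      rw [finrank_span_singleton hv, finrank_top, Module.finrank_fin_fun] at h
      omega
  let L : (Fin 2 → ℂ) → Submodule ℂ (Fin 2 → ℂ) := fun v => Submodule.span ℂ {v}
  have hmap : ∀ (g : G) (v : Fin 2 → ℂ), (L v).map (ρ g) = L (ρ g v) := fun g v => by
    simp only [L, Submodule.map_span, Set.image_singleton]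
  -- the two lines of a noncentral element
  have hfix : ∀ g ∉ Subgroup.center G, ∃ v w : Fin 2 → ℂ, v ≠ 0 ∧ w ≠ 0 ∧ L v ≠ L w ∧
      (∀ u, u ≠ 0 → (L (ρ g u) = L u ↔ L u = L v ∨ L u = L w)) ∧
      ∃ a b : ℂ, ρ g v = a • v ∧ ρ g w = b • w ∧ a ≠ b := by
    intro g hg
    obtain ⟨b, μ, hμ, hμ1⟩ := Char.exists_eigenbasis ρ g
    have h0 : (0 : ℕ) < Module.finrank ℂ (Fin 2 → ℂ) := by rw [Module.finrank_fin_fun]; norm_num
    have h1 : (1 : ℕ) < Module.finrank ℂ (Fin 2 → ℂ) := by rw [Module.finrank_fin_fun]; norm_num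
    let i : Fin (Module.finrank ℂ (Fin 2 → ℂ)) := ⟨0, h0⟩
    let j : Fin (Module.finrank ℂ (Fin 2 → ℂ)) := ⟨1, h1⟩
    have hij : i ≠ j := fun h => absurd (congrArg Fin.val h) (by simp [i, j])
    have hall : ∀ k, k = i ∨ k = j := fun k => by
      have hk : (k : ℕ) < 2 := lt_of_lt_of_eq k.2 (Module.finrank_fin_fun ℂ)
      rcases (show (k : ℕ) = 0 ∨ (k : ℕ) = 1 by omega) with h | h
      · exact Or.inl (Fin.ext h)
      · exact Or.inr (Fin.ext h)
    have hne : μ i ≠ μ j := fun h => hg (hscal g (μ i) (b.ext fun k => by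
      rw [hμ, LinearMap.smul_apply, LinearMap.id_apply]
      rcases hall k with rfl | rfl
      · rfl
      · rw [h]))
    have hμ0 : ∀ k, μ k ≠ 0 := fun k h => by
      have := hμ1 k
      rw [h, zero_pow (orderOf_pos g).ne'] at this
      exact zero_ne_one this
    refine ⟨b i, b j, b.ne_zero i, b.ne_zero j, ?_, fun u hu => ⟨fun hu' => ?_, ?_⟩, μ i, μ j, hμ i, hμ j, hne⟩
    · intro h
      obtain ⟨a, ha⟩ := Submodule.mem_span_singleton.1 (h ▸ Submodule.mem_span_singleton_self (b i) : b i ∈ L (b j))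
      have := congrArg (fun x => b.repr x i) ha
      simp [hij, hij.symm] at this
    · obtain ⟨a, ha⟩ := Submodule.mem_span_singleton.1 (hu' ▸ Submodule.mem_span_singleton_self (ρ g u) : ρ g u ∈ L u)
      have huv : u = b.repr u i • b i + b.repr u j • b j := by
        conv_lhs => rw [← b.sum_repr u]
        rw [← Finset.sum_subset (Finset.subset_univ {i, j}) fun k _ hk => by
          exact absurd (by rcases hall k with rfl | rfl <;> simp) hk, Finset.sum_pair hij]
      have key : ∀ k, b.repr u k * (μ k - a) = 0 := fun k => by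
        have h : b.repr (ρ g u) k = b.repr (a • u) k := by rw [ha]
        rw [huv] at h
        simp only [map_add, map_smul, hμ, Finsupp.add_apply, Finsupp.smul_apply, Module.Basis.repr_self,
          Finsupp.single_apply, smul_eq_mul] at h
        rcases hall k with rfl | rfl
        · simp [hij, hij.symm] at h; linear_combination h
        · simp [hij, hij.symm] at h; linear_combination h
      by_cases hi0 : b.repr u i = 0
      · refine Or.inr ?_
        have hj0 : b.repr u j ≠ 0 := fun hj0 => hu (by rw [huv, hi0, hj0, zero_smul, zero_smul, add_zero])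
        rw [hi0, zero_smul, zero_add] at huv
        rw [huv]
        exact Submodule.span_singleton_smul_eq (isUnit_iff_ne_zero.2 hj0) _
      · refine Or.inl ?_
        have hj0 : b.repr u j = 0 := by
          by_contra hj0
          have e1 := (mul_eq_zero.1 (key i)).resolve_left hi0
          have e2 := (mul_eq_zero.1 (key j)).resolve_left hj0
          exact hne ((sub_eq_zero.1 e1).trans (sub_eq_zero.1 e2).symm)
        rw [hj0, zero_smul, add_zero] at huv
        rw [huv]
        exact Submodule.span_singleton_smul_eq (isUnit_iff_ne_zero.2 hi0) _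
    · rintro (h | h) <;> rw [← hmap, h, hmap, hμ] <;>
        exact Submodule.span_singleton_smul_eq (isUnit_iff_ne_zero.2 (hμ0 _)) _
  -- the poles
  let X := {U : Submodule ℂ (Fin 2 → ℂ) // ∃ v, v ≠ 0 ∧ U = L v ∧ ∃ g ∉ Subgroup.center G, L (ρ g v) = L v}
  haveI : Finite X := by
    choose v w hv hw hvw hiff hab using hfix
    let f : {g : G // g ∉ Subgroup.center G} × Bool → Submodule ℂ (Fin 2 → ℂ) :=
      fun p => if p.2 then L (v p.1 p.1.2) else L (w p.1 p.1.2)
    refine Finite.of_injective (β := Set.range f) (fun U => ⟨U.1, ?_⟩) fun U U' h => Subtype.ext (congrArg Subtype.val h :)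
    obtain ⟨u, hu, hU, g, hg, hgu⟩ := U.2
    rcases (hiff g hg u hu).1 hgu with h | h
    · exact ⟨(⟨g, hg⟩, true), by rw [hU, h]; rfl⟩
    · exact ⟨(⟨g, hg⟩, false), by rw [hU, h]; rfl⟩
  have hρ0 : ∀ (g : G) (v : Fin 2 → ℂ), v ≠ 0 → ρ g v ≠ 0 := fun g v hv h => hv (by
    have := congrArg (ρ g⁻¹) h
    rwa [map_zero, ← Module.End.mul_apply, ← map_mul, inv_mul_cancel, map_one, Module.End.one_apply] at this)
  letI : MulAction G X :=
    { smul := fun g U => ⟨U.1.map (ρ g), by
        obtain ⟨v, hv, hU, k, hk, hkv⟩ := U.2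
        refine ⟨ρ g v, hρ0 g v hv, by rw [hU, hmap], g * k * g⁻¹, fun hc => hk ?_, ?_⟩
        · have := (Subgroup.center G).normal_of_characteristic
          simpa [mul_assoc] using (inferInstance : (Subgroup.center G).Normal).conj_mem _ hc g⁻¹
        · rw [← Module.End.mul_apply, ← map_mul, inv_mul_cancel_right, map_mul, Module.End.mul_apply,
            ← hmap, hkv, hmap]⟩
      one_smul := fun U => Subtype.ext (by
        show U.1.map (ρ 1) = U.1
        rw [map_one, Module.End.one_eq_id, Submodule.map_id])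
      mul_smul := fun g k U => Subtype.ext (by
        show U.1.map (ρ (g * k)) = (U.1.map (ρ k)).map (ρ g)
        rw [map_mul, Module.End.mul_eq_comp, Submodule.map_comp]) }
  have hsmul : ∀ (g : G) (U : X), (g • U : X).1 = U.1.map (ρ g) := fun _ _ => rfl
  haveI := Fintype.ofFinite X
  -- central elements fix every pole
  have hZ : ∀ g ∈ Subgroup.center G, ∀ U : X, g • U = U := by
    intro g hg U
    obtain ⟨c, hc⟩ : ∃ c : ℂ, ρ g = c • LinearMap.id := by
      let T : Representation.IntertwiningMap ρ ρ := ⟨ρ g, fun x => by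
        rw [← Module.End.mul_eq_comp, ← Module.End.mul_eq_comp, ← map_mul, ← map_mul,
          Subgroup.mem_center_iff.1 hg x]⟩
      obtain ⟨c, hc⟩ := (Representation.IsIrreducible.algebraMap_intertwiningMap_bijective_of_isAlgClosed (ρ := ρ)).2 T
      exact ⟨c, ((congrArg Representation.IntertwiningMap.toLinearMap hc).symm.trans rfl :)⟩
    have hc0 : c ≠ 0 := fun h => by
      have h2 := hρ0 g (Pi.single 0 1) (fun e => by simpa using congrFun e 0)
      rw [hc, h, zero_smul] at h2
      exact h2 rfl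
    refine Subtype.ext ?_
    obtain ⟨v, hv, hU, -⟩ := U.2
    rw [hsmul, hU, hmap, hc, LinearMap.smul_apply, LinearMap.id_apply]
    exact Submodule.span_singleton_smul_eq (isUnit_iff_ne_zero.2 hc0) _
  have hcard2 : ∀ g ∉ Subgroup.center G, Fintype.card (MulAction.fixedBy X g) = 2 := by
    intro g hg
    obtain ⟨v, w, hv, hw, hvw, hiff, -⟩ := hfix g hg
    let a : X := ⟨L v, v, hv, rfl, g, hg, (hiff v hv).2 (Or.inl rfl)⟩
    let b : X := ⟨L w, w, hw, rfl, g, hg, (hiff w hw).2 (Or.inr rfl)⟩
    have hab : a ≠ b := fun h => hvw (congrArg Subtype.val h)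
    rw [← Set.toFinset_card, show (MulAction.fixedBy X g).toFinset = {a, b} from ?_, Finset.card_pair hab]
    ext U
    obtain ⟨u, hu, hU, -⟩ := U.2
    rw [Set.mem_toFinset, MulAction.mem_fixedBy, Subtype.ext_iff, hsmul, hU, hmap, hiff u hu,
      Finset.mem_insert, Finset.mem_singleton, Subtype.ext_iff, Subtype.ext_iff, hU]
  have hdetone : ∀ a b : G, LinearMap.det (ρ (a * b * a⁻¹ * b⁻¹)) = 1 := fun a b => by
    rw [map_mul, map_mul, map_mul, map_mul, map_mul, map_mul]
    have ha : LinearMap.det (ρ a) * LinearMap.det (ρ a⁻¹) = 1 := by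
      rw [← map_mul, ← map_mul, mul_inv_cancel, map_one, map_one]
    have hb : LinearMap.det (ρ b) * LinearMap.det (ρ b⁻¹) = 1 := by
      rw [← map_mul, ← map_mul, mul_inv_cancel, map_one, map_one]
    linear_combination (LinearMap.det (ρ b) * LinearMap.det (ρ b⁻¹)) * ha + hb
  -- stabilizers are commutative
  have hstab : ∀ U : X, ∀ g ∈ MulAction.stabilizer G U, ∀ h ∈ MulAction.stabilizer G U, g * h = h * g := by
    intro U g hg h hh
    obtain ⟨v, hv, hU, -⟩ := U.2
    have hline : ∀ x ∈ MulAction.stabilizer G U, ∃ c : ℂ, ρ x v = c • v := fun x hx => by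
      have e := congrArg Subtype.val hx
      rw [hsmul, hU, hmap] at e
      obtain ⟨c, hc⟩ := Submodule.mem_span_singleton.1 (e ▸ Submodule.mem_span_singleton_self (ρ x v) : ρ x v ∈ L v)
      exact ⟨c, hc.symm⟩
    have hinj := smul_left_injective ℂ hv
    obtain ⟨a, ha⟩ := hline g hg
    obtain ⟨b, hb⟩ := hline h hh
    have hk : ρ (g * h * g⁻¹ * h⁻¹) v = v := by
      have hab : a * b ≠ 0 := fun h0 => hρ0 (g * h) v hv (by
        rw [map_mul, Module.End.mul_apply, hb, map_smul, ha, smul_smul, mul_comm, h0, zero_smul])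
      refine smul_right_injective _ hab ?_
      show (a * b) • ρ (g * h * g⁻¹ * h⁻¹) v = (a * b) • v
      calc (a * b) • ρ (g * h * g⁻¹ * h⁻¹) v = ρ (g * h * g⁻¹ * h⁻¹) (ρ (h * g) v) := by
            rw [map_mul ρ h g, Module.End.mul_apply, ha, map_smul, hb, smul_smul, map_smul]
        _ = ρ (g * h) v := by rw [← Module.End.mul_apply, ← map_mul]; congr 2; group
        _ = _ := by rw [map_mul, Module.End.mul_apply, hb, map_smul, ha, smul_smul, mul_comm]
    have hq := apply_of_eigen hv (ρ (g * h * g⁻¹ * h⁻¹)) (c := 1) (by rw [one_smul]; exact hk)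
    rw [hdetone] at hq
    have h1 := hfaith (g * h * g⁻¹ * h⁻¹) (by
      rw [← he, Representation.char_one, Module.finrank_fin_fun]
      show LinearMap.trace ℂ _ (ρ _) = _
      push_cast
      linear_combination -hq)
    exact mul_inv_eq_iff_eq_mul.1 (mul_inv_eq_one.1 h1)
  -- centralizers of noncentral elements
  have hcent : ∀ U : X, ∀ g ∈ MulAction.stabilizer G U, g ∉ Subgroup.center G →
      Subgroup.centralizer ({g} : Set G) = MulAction.stabilizer G U := by
    intro U g hg hgZ
    refine le_antisymm (fun h hh => ?_) (fun h hh => Subgroup.mem_centralizer_singleton_iff.2 (hstab U h hh g hg))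
    rw [Subgroup.mem_centralizer_singleton_iff] at hh
    obtain ⟨v, w, hv, hw, hvw, hiff, a, b, ha, hb, hne⟩ := hfix g hgZ
    obtain ⟨u, hu, hU, -⟩ := U.2
    have hgu : L (ρ g u) = L u := by
      have e := congrArg Subtype.val hg
      rwa [hsmul, hU, hmap] at e
    rw [MulAction.mem_stabilizer_iff]
    refine Subtype.ext ?_
    rw [hsmul, hU]
    -- `h` fixes each eigenline of `g`
    have hkey : ∀ (x : Fin 2 → ℂ) (c : ℂ), x ≠ 0 → ρ g x = c • x →
        L (ρ h x) = L v ∨ L (ρ h x) = L w := by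
      intro x c hx hgx
      refine (hiff (ρ h x) (hρ0 h x hx)).1 ?_
      rw [← Module.End.mul_apply, ← map_mul, ← hh, map_mul, Module.End.mul_apply, hgx, map_smul]
      refine Submodule.span_singleton_smul_eq (isUnit_iff_ne_zero.2 fun h0 => hρ0 g x hx ?_) _
      rw [hgx, h0, zero_smul]
    have hval : ∀ (x y : Fin 2 → ℂ) (c d : ℂ), x ≠ 0 → ρ g x = c • x → ρ g y = d • y →
        L (ρ h x) = L y → c = d := by
      intro x y c d hx hgx hgy hL
      obtain ⟨t, ht⟩ := Submodule.mem_span_singleton.1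
        (hL ▸ Submodule.mem_span_singleton_self (ρ h x) : ρ h x ∈ L y)
      refine smul_left_injective ℂ (hρ0 h x hx) ?_
      show c • ρ h x = d • ρ h x
      rw [← map_smul, ← hgx, ← Module.End.mul_apply, ← map_mul, hh, map_mul, Module.End.mul_apply, ← ht,
        map_smul, hgy, smul_comm]
    rcases (hiff u hu).1 hgu with e | e
    · rw [e, hmap]
      exact (hkey v a hv ha).resolve_right fun h' => hne (hval v w a b hv ha hb h')
    · rw [e, hmap]
      exact (hkey w b hw hb).resolve_left fun h' => hne (hval w v b a hw hb ha h').symm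
  haveI := Fintype.ofFinite (MulAction.orbitRel.Quotient G X)
  set z := Nat.card (Subgroup.center G) with hz
  set N := (Subgroup.center G).index with hN
  set f : X → ℕ := fun U => (Nat.card (MulAction.stabilizer G U) - z) * Nat.card (MulAction.stabilizer G U)
  let C : G → ℕ := fun g => Nat.card (Subgroup.centralizer ({g} : Set G))
  have hzN : z * N = Nat.card G := (Subgroup.center G).card_mul_index
  have hCk : ∑ g : G, C g = Nat.card (ConjClasses G) * Nat.card G := by
    rw [← card_comm_eq_card_conjClasses_mul_card, Nat.card_congr (Equiv.subtypeProdEquivSigmaSubtype Commute),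
      Nat.card_sigma]
    refine Finset.sum_congr rfl fun g _ => Nat.card_congr (Equiv.subtypeEquivRight fun y => ?_)
    rw [Subgroup.mem_centralizer_singleton_iff]
    exact ⟨fun h => h.symm, fun h => h.eq.symm⟩
  have hzcard : (Finset.univ.filter (· ∈ Subgroup.center G)).card = z := by
    rw [hz, Nat.card_eq_fintype_card, Fintype.card_subtype]
  have hcentral : ∑ g ∈ Finset.univ.filter (· ∈ Subgroup.center G), C g = z * Nat.card G := by
    rw [Finset.sum_congr rfl (g := fun _ => Nat.card G) fun g hg => ?_, Finset.sum_const, hzcard, smul_eq_mul]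
    rw [← Subgroup.card_top (G := G)]
    congr 1
    rw [Subgroup.card_top, ← Subgroup.card_top (G := G)]
    show Nat.card (Subgroup.centralizer ({g} : Set G)) = _
    rw [show Subgroup.centralizer ({g} : Set G) = ⊤ from (Subgroup.eq_top_iff' _).2 fun h =>
      Subgroup.mem_centralizer_singleton_iff.2 (Subgroup.mem_center_iff.1 (Finset.mem_filter.1 hg).2 h)]
  have hdouble : ∑ U : X, f U = 2 * ∑ g ∈ Finset.univ.filter (· ∉ Subgroup.center G), C g := by
    have h1 : ∀ U : X, f U =
        ∑ g ∈ Finset.univ.filter (· ∉ Subgroup.center G), (if g • U = U then C g else 0) := by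
      intro U
      rw [← Finset.sum_filter, Finset.filter_filter]
      have hc : (Finset.univ.filter fun g => g ∉ Subgroup.center G ∧ g • U = U).card =
          Nat.card (MulAction.stabilizer G U) - z := by
        have h3 : (Finset.univ.filter fun g : G => g ∈ MulAction.stabilizer G U).card =
            Nat.card (MulAction.stabilizer G U) := by
          rw [Nat.card_eq_fintype_card, Fintype.card_subtype]
        rw [← h3, ← hzcard, ← Finset.card_sdiff_of_subset]
        · congr 1
          ext g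
          simp only [Finset.mem_sdiff, Finset.mem_filter, Finset.mem_univ, true_and, MulAction.mem_stabilizer_iff]
          tauto
        · intro g hg
          simp only [Finset.mem_filter, Finset.mem_univ, true_and, MulAction.mem_stabilizer_iff] at hg ⊢
          exact hZ g hg U
      rw [Finset.sum_congr rfl (g := fun _ => Nat.card (MulAction.stabilizer G U)) fun g hg => ?_,
        Finset.sum_const, hc, smul_eq_mul]
      simp only [Finset.mem_filter, Finset.mem_univ, true_and] at hg
      show Nat.card (Subgroup.centralizer ({g} : Set G)) = _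
      rw [hcent U g hg.2 hg.1]
    rw [Finset.sum_congr rfl fun U _ => h1 U, Finset.sum_comm, Finset.mul_sum]
    refine Finset.sum_congr rfl fun g hg => ?_
    rw [← Finset.sum_filter, Finset.sum_const, smul_eq_mul]
    congr 1
    refine Eq.trans ?_ (hcard2 g (Finset.mem_filter.1 hg).2)
    rw [← Set.toFinset_card]
    congr 1
    ext U
    simp
  -- orbits
  let o : MulAction.orbitRel.Quotient G X → ℕ := fun ω => (MulAction.stabilizer G ω.out).index
  have hfib : ∀ ω : MulAction.orbitRel.Quotient G X,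
      ∑ U ∈ Finset.univ.filter (fun U : X => (Quotient.mk'' U : MulAction.orbitRel.Quotient G X) = ω), f U =
        o ω * f ω.out := by
    intro ω
    have hmem : ∀ U : X, (Quotient.mk'' U : MulAction.orbitRel.Quotient G X) = ω ↔
        U ∈ MulAction.orbit G ω.out := fun U => by
      conv_lhs => rw [← Quotient.out_eq' ω]
      rw [Quotient.eq'', MulAction.orbitRel_apply]
    rw [Finset.sum_congr rfl (g := fun _ => f ω.out) fun U hU => ?_, Finset.sum_const, smul_eq_mul]
    · congr 1
      show _ = (MulAction.stabilizer G ω.out).index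
      rw [MulAction.index_stabilizer, Set.ncard_eq_toFinset_card']
      congr 1
      ext U
      simp [hmem]
    · have h1 := (hmem U).1 (Finset.mem_filter.1 hU).2
      have h2 : (MulAction.stabilizer G U).index = (MulAction.stabilizer G ω.out).index := by
        rw [MulAction.index_stabilizer, MulAction.index_stabilizer, MulAction.orbit_eq_iff.2 h1]
      have h3 := (MulAction.stabilizer G U).card_mul_index
      rw [h2, ← (MulAction.stabilizer G ω.out).card_mul_index] at h3
      show (_ - z) * _ = (_ - z) * _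
      rw [Nat.eq_of_mul_eq_mul_right (Nat.pos_of_ne_zero Subgroup.index_ne_zero_of_finite) h3]
  have hsum : ∑ U : X, f U = ∑ ω, o ω * f ω.out := by
    rw [← Finset.sum_fiberwise Finset.univ (fun U : X => (Quotient.mk'' U : MulAction.orbitRel.Quotient G X)) f]
    exact Finset.sum_congr rfl fun ω _ => hfib ω
  have hk2 : 2 * (Nat.card (ConjClasses G) * Nat.card G) = 2 * (z * Nat.card G) + ∑ ω, o ω * f ω.out := by
    rw [← hCk, ← hsum, hdouble, ← Finset.sum_filter_add_sum_filter_not Finset.univ (· ∈ Subgroup.center G),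
      hcentral, mul_add]
  have hburn := MulAction.sum_card_fixedBy_eq_card_orbits_mul_card_group G X
  rw [← Finset.sum_filter_add_sum_filter_not _ (· ∈ Subgroup.center G),
    Finset.sum_congr rfl (g := fun _ => Fintype.card X) (fun g hg => by
      rw [← Nat.card_eq_fintype_card, ← Nat.card_eq_fintype_card]
      exact Nat.card_congr (Equiv.subtypeUnivEquiv (hZ g (Finset.mem_filter.1 hg).2))),
    Finset.sum_congr rfl (fun g hg => hcard2 g (Finset.mem_filter.1 hg).2),
    Finset.sum_const, Finset.sum_const, smul_eq_mul, smul_eq_mul,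
    Finset.filter_not, Finset.card_univ_sdiff,
    show (Finset.univ.filter (· ∈ Subgroup.center G)).card = Nat.card (Subgroup.center G) by
      rw [Nat.card_eq_fintype_card, Fintype.card_subtype]] at hburn
  rw [← Nat.card_eq_fintype_card (α := G)] at hburn
  -- orbit sizes
  have hXsum : Fintype.card X = ∑ ω, o ω := by
    rw [← Nat.card_eq_fintype_card, Nat.card_congr (MulAction.selfEquivSigmaOrbitsQuotientStabilizer G X),
      Nat.card_sigma]
    rfl
  have ho : ∀ U : X, (MulAction.stabilizer G U).index ∣ (Subgroup.center G).index ∧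
      2 * (MulAction.stabilizer G U).index ≤ (Subgroup.center G).index ∧
      3 ≤ (MulAction.stabilizer G U).index := by
    intro U
    have hle : Subgroup.center G ≤ MulAction.stabilizer G U := fun g hg => hZ g hg U
    obtain ⟨v, hv, hU, g, hg, hgv⟩ := U.2
    have hgs : g ∈ MulAction.stabilizer G U := Subtype.ext (by rw [hsmul, hU, hmap, hgv])
    have hd := Subgroup.index_dvd_of_le hle
    have hinv : ∀ h ∈ MulAction.stabilizer G U, ρ h v ∈ Submodule.span ℂ {v} := fun h hh => by
      have e := congrArg Subtype.val hh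
      rw [hsmul, hU, hmap] at e
      show ρ h v ∈ L v
      rw [← e]
      exact Submodule.mem_span_singleton_self _
    refine ⟨hd, ?_, ?_⟩
    · obtain ⟨m, hm⟩ := hd
      have hm2 : 2 ≤ m := by
        rcases m with _ | _ | m
        · exact absurd (hm.trans (mul_zero _)) Subgroup.index_ne_zero_of_finite
        · exfalso
          have h1 := Subgroup.relIndex_mul_index hle
          rw [hm, Nat.zero_add, mul_one] at h1
          have h2' := Nat.eq_of_mul_eq_mul_right (Nat.pos_of_ne_zero Subgroup.index_ne_zero_of_finite)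
            (h1.trans (one_mul _).symm)
          exact hg (Subgroup.relIndex_eq_one.1 h2' hgs)
        · omega
      rw [hm, mul_comm]
      exact Nat.mul_le_mul_left _ hm2
    · have h0 : (MulAction.stabilizer G U).index ≠ 0 := Subgroup.index_ne_zero_of_finite
      by_contra hlt
      rcases (show (MulAction.stabilizer G U).index = 1 ∨ (MulAction.stabilizer G U).index = 2 by omega)
        with h | h
      · exact hnoline v hv fun x => hinv x (by rw [Subgroup.index_eq_one.1 h]; trivial)
      · obtain ⟨θ, hθ, hθe⟩ := S4473.induced_of_line ρ _ h hv hinv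
        exact hprim _ (fun e => by rw [e, Subgroup.index_top] at h; omega) θ hθ (he.symm.trans hθe)
  -- noncentral elements exist
  have hne : (Subgroup.center G) ≠ ⊤ := by
    intro htop
    have : IsMulCommutative G := ⟨⟨fun a b =>
      (Subgroup.mem_center_iff.1 (htop ▸ Subgroup.mem_top a : a ∈ Subgroup.center G) b).symm⟩⟩
    have h := Representation.IsIrreducible.finrank_eq_one_of_isMulCommutative ρ
    rw [Module.finrank_fin_fun] at h
    omega
  have hN2 : 2 ≤ (Subgroup.center G).index := Subgroup.one_lt_index_of_ne_top hne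
  have hz0 : 0 < z := Nat.card_pos
  rw [← hzN, hXsum, ← hz] at hburn
  have hS : (∑ ω, o ω) + 2 * N = Fintype.card (MulAction.orbitRel.Quotient G X) * N + 2 := by
    refine Nat.eq_of_mul_eq_mul_left hz0 ?_
    have hle : z ≤ z * N := Nat.le_mul_of_pos_right z (by omega)
    rw [Nat.mul_add, Nat.mul_add, mul_left_comm z (Fintype.card _), ← hburn, mul_left_comm z 2 N]
    omega
  have hbound : 2 * ∑ ω, o ω ≤ Fintype.card (MulAction.orbitRel.Quotient G X) * N := by
    rw [Finset.mul_sum]
    refine (Finset.sum_le_card_nsmul _ _ N fun ω _ => (ho _).2.1).trans ?_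
    rw [Finset.card_univ, smul_eq_mul]
  have hlow : 3 * Fintype.card (MulAction.orbitRel.Quotient G X) ≤ ∑ ω, o ω := by
    refine le_trans ?_ (Finset.card_nsmul_le_sum _ _ 3 fun ω _ => (ho _).2.2)
    rw [Finset.card_univ, smul_eq_mul, mul_comm]
  have hk3 : Fintype.card (MulAction.orbitRel.Quotient G X) = 3 := by
    generalize Fintype.card (MulAction.orbitRel.Quotient G X) = k at hS hbound hlow
    rcases k with _ | _ | _ | _ | k
    · omega
    · omega
    · omega
    · rfl
    · exfalso; nlinarith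
  rw [hk3] at hS
  let e := (Fintype.equivFinOfCardEq hk3).symm
  rw [← e.sum_comp, Fin.sum_univ_three] at hS
  rw [← e.sum_comp, Fin.sum_univ_three] at hk2
  have hT : ∀ ω, o ω * f ω.out + z * Nat.card G = z * (N / o ω) * Nat.card G ∧
      o ω ∣ N ∧ 2 * o ω ≤ N ∧ 3 ≤ o ω := by
    intro ω
    obtain ⟨hd, h2o, h3o⟩ := ho ω.out
    refine ⟨?_, hd, h2o, h3o⟩
    obtain ⟨T, hT⟩ := hd
    have ho' : 0 < o ω := by show 0 < (MulAction.stabilizer G ω.out).index; omega
    rw [show N / o ω = T from Nat.div_eq_of_eq_mul_right ho' hT]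
    have hs : Nat.card (MulAction.stabilizer G ω.out) = z * T := by
      refine Nat.eq_of_mul_eq_mul_right ho' ?_
      show Nat.card (MulAction.stabilizer G ω.out) * (MulAction.stabilizer G ω.out).index = _
      rw [Subgroup.card_mul_index, ← hzN, hN, hT]
      ring
    have hT1 : 1 ≤ T := Nat.pos_of_ne_zero fun h => by rw [h, mul_zero] at hT; omega
    show o ω * ((_ - z) * _) + _ = _
    rw [hs, ← hzN, show N = o ω * T from hT]
    have : z ≤ z * T := Nat.le_mul_of_pos_right z hT1
    obtain ⟨d, hd'⟩ := Nat.exists_eq_add_of_le this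
    rw [hd', Nat.add_sub_cancel_left]
    have hd2 : z + d = z * T := hd'.symm
    have e3 : z * (o ω * T) = o ω * (z + d) := by rw [hd2]; ring
    rw [e3]
    ring
  obtain ⟨hT0, hd0, h20, h30⟩ := hT (e 0)
  obtain ⟨hT1, hd1, h21, h31⟩ := hT (e 1)
  obtain ⟨hT2, hd2, h22, h32⟩ := hT (e 2)
  have hNcases := S4473.orbit_arith' (a := o (e 0)) (b := o (e 1)) (c := o (e 2)) (N := N) (by omega) hd0 hd1 hd2
    h20 h21 h22 h30 h31 h32
  have hmem : N ∈ [12, 24, 60] := by
    rcases hNcases with h | h | h <;> simp [h]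
  have hN60 : N ≤ 60 := by omega
  have hc : o (e 2) = N + 2 - o (e 0) - o (e 1) := by omega
  have htr := triple_orders N hmem (o (e 0)) (by omega) (o (e 1)) (by omega)
  rw [← hc] at htr
  have hG0 : 0 < Nat.card G := Nat.card_pos
  have hfinal : 2 * Nat.card (ConjClasses G) + z =
      z * (N / o (e 0) + N / o (e 1) + N / o (e 2)) := by
    refine Nat.eq_of_mul_eq_mul_right hG0 ?_
    linarith
  rcases htr with h | h | h | h | h | h | h | hT
  · exact absurd (Nat.mod_eq_zero_of_dvd hd0) h
  · exact absurd (Nat.mod_eq_zero_of_dvd hd1) h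
  · omega
  · omega
  · omega
  · exact absurd (Nat.mod_eq_zero_of_dvd hd2) (hc ▸ h)
  · omega
  rcases hNcases with h | h | h
  · refine Or.inl ⟨h, ?_⟩
    have h8 : N / o (e 0) + N / o (e 1) + N / o (e 2) = 8 := hT.trans (by rw [if_pos h])
    rw [h8] at hfinal
    omega
  · refine Or.inr (Or.inl ⟨h, ?_⟩)
    have h9 : N / o (e 0) + N / o (e 1) + N / o (e 2) = 9 := hT.trans (by rw [if_neg (by omega), if_pos h])
    rw [h9] at hfinal
    omega
  · refine Or.inr (Or.inr ⟨h, ?_⟩)
    have h10 : N / o (e 0) + N / o (e 1) + N / o (e 2) = 10 := hT.trans (by rw [if_neg (by omega), if_neg (by omega)])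
    rw [h10] at hfinal
    omega

variable {p : ℕ} [hp : Fact p.Prime] {V : Type*} [AddCommGroup V] [Module (ZMod p) V] [Finite V]
  [Nontrivial V] {H : Type*} [Group H] [Finite H] {ρ : H →* (V ≃ₗ[ZMod p] V)}

/-- Normal abelian subgroups of exponent dividing `p - 1` are scalar, hence central. -/
theorem le_center_of_card_dvd (hρ : TransLin ρ) (B : Subgroup H) [B.Normal]
    (hB : ∀ a ∈ B, ∀ b ∈ B, a * b = b * a) (hdvd : Nat.card B ∣ p - 1) : B ≤ Subgroup.center H := by
  classical
  set Φ := Nearfield.toEnd ρ with hΦ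
  set E : Subalgebra (ZMod p) (Module.End (ZMod p) V) := Algebra.adjoin (ZMod p) (Φ '' B) with hE
  have hgen : ∀ a ∈ B, Φ a ∈ E := fun a ha => Algebra.subset_adjoin ⟨a, ha, rfl⟩
  have hcomm : ∀ x ∈ E, ∀ y ∈ E, x * y = y * x := by
    intro x hx y hy
    refine (Algebra.commute_of_mem_adjoin_of_forall_mem_commute hy ?_).eq
    rintro _ ⟨b, hb, rfl⟩
    refine (Algebra.commute_of_mem_adjoin_of_forall_mem_commute hx ?_).symm
    rintro _ ⟨a, ha, rfl⟩
    show Φ b * Φ a = Φ a * Φ b
    rw [← map_mul, ← map_mul, hB b hb a ha]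
  have hconj : ∀ g : H, ∀ x ∈ E, Φ g * x * Φ g⁻¹ ∈ E := by
    intro g x hx
    induction hx using Algebra.adjoin_induction with
    | mem y hy =>
      obtain ⟨a, ha, rfl⟩ := hy
      rw [← map_mul, ← map_mul]
      exact hgen _ (‹B.Normal›.conj_mem a ha g)
    | algebraMap r =>
      rw [← Algebra.commutes, mul_assoc, ← map_mul, mul_inv_cancel, map_one, mul_one]
      exact E.algebraMap_mem r
    | add x y _ _ hx hy => rw [mul_add, add_mul]; exact add_mem hx hy
    | mul x y _ _ hx hy =>
      rw [show Φ g * (x * y) * Φ g⁻¹ = Φ g * x * Φ g⁻¹ * (Φ g * y * Φ g⁻¹) by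
        rw [show Φ g * x * Φ g⁻¹ * (Φ g * y * Φ g⁻¹) = Φ g * x * (Φ g⁻¹ * Φ g) * y * Φ g⁻¹ by
          simp only [mul_assoc], ← map_mul, inv_mul_cancel, map_one, mul_one]
        simp only [mul_assoc]]
      exact mul_mem hx hy
  intro b hb
  have hbp : b ^ (p - 1) = 1 := by
    obtain ⟨k, hk⟩ := hdvd
    have h1 := congrArg Subtype.val (pow_card_eq_one' (x := (⟨b, hb⟩ : B)))
    rw [SubgroupClass.coe_pow, OneMemClass.coe_one] at h1
    rw [hk, pow_mul, h1, one_pow]
  -- `∏ (Φ b - c) = Φ b ^ (p - 1) - 1 = 0`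
  have hpoly : (Polynomial.X ^ (p - 1) - 1 : Polynomial (ZMod p)) =
      ∏ c : (ZMod p)ˣ, (Polynomial.X - Polynomial.C (c : ZMod p)) := by
    rw [← Polynomial.C_1]
    refine Polynomial.eq_of_monic_of_dvd_of_natDegree_le (Polynomial.monic_prod_of_monic _ _ fun c _ =>
      Polynomial.monic_X_sub_C _) (Polynomial.monic_X_pow_sub_C (1 : ZMod p) (by have := hp.out.two_le; omega)) ?_ ?_
    · rw [Polynomial.C_1]
      refine Finset.prod_dvd_of_coprime ?_ fun c _ => ?_
      · intro a _ b _ hab
        exact Polynomial.isCoprime_X_sub_C_of_isUnit_sub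
          (sub_ne_zero.2 fun h => hab (Units.ext h)).isUnit
      · rw [Polynomial.dvd_iff_isRoot, Polynomial.IsRoot, Polynomial.eval_sub, Polynomial.eval_pow,
          Polynomial.eval_X, Polynomial.eval_one, sub_eq_zero, ZMod.pow_card_sub_one_eq_one c.ne_zero]
    · rw [Polynomial.natDegree_X_pow_sub_C, Polynomial.natDegree_prod_of_monic _ _ (fun c _ =>
        Polynomial.monic_X_sub_C _)]
      simp only [Polynomial.natDegree_X_sub_C, Finset.sum_const, Finset.card_univ, smul_eq_mul, mul_one]
      rw [ZMod.card_units]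
  obtain ⟨v, hv⟩ := exists_ne (0 : V)
  have hzero : (Polynomial.aeval (Φ b)) (∏ c : (ZMod p)ˣ, (Polynomial.X - Polynomial.C (c : ZMod p))) = 0 := by
    rw [← hpoly, map_sub, map_pow, Polynomial.aeval_X, map_one, ← map_pow, hbp, map_one, sub_self]
  have hEl : ∀ c : ZMod p, Φ b - algebraMap (ZMod p) (Module.End (ZMod p) V) c ∈ E := fun c =>
    sub_mem (hgen b hb) (E.algebraMap_mem c)
  have hex : ∀ s : Finset (ZMod p)ˣ,
      (Polynomial.aeval (Φ b)) (∏ c ∈ s, (Polynomial.X - Polynomial.C (c : ZMod p))) = 0 →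
      ∃ c : ZMod p, Φ b = algebraMap (ZMod p) (Module.End (ZMod p) V) c := by
    intro s
    induction s using Finset.induction with
    | empty =>
      intro h
      rw [Finset.prod_empty, map_one] at h
      exact absurd (LinearMap.congr_fun h v) (by simpa using hv)
    | @insert a s ha ih =>
      intro h
      rw [Finset.prod_insert ha, map_mul, map_sub, Polynomial.aeval_X, Polynomial.aeval_C] at h
      by_cases hP : (Polynomial.aeval (Φ b)) (∏ c ∈ s, (Polynomial.X - Polynomial.C (c : ZMod p))) = 0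
      · exact ih hP
      obtain ⟨u, hu⟩ : ∃ u, (Polynomial.aeval (Φ b)) (∏ c ∈ s, (Polynomial.X - Polynomial.C (c : ZMod p))) u ≠ 0 := by
        by_contra hc
        push Not at hc
        exact hP (LinearMap.ext hc)
      have h2 := Nearfield.eq_zero_of_apply_eq_zero ρ hρ.trans E hcomm hconj (hEl (a : ZMod p)) hu
        (LinearMap.congr_fun h u)
      exact ⟨(a : ZMod p), sub_eq_zero.1 h2⟩
  obtain ⟨c, hc⟩ := hex Finset.univ hzero
  refine Subgroup.mem_center_iff.2 fun g => ?_
  have h1 : Φ g * Φ b = Φ b * Φ g := by rw [hc, Algebra.commutes]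
  rw [← map_mul, ← map_mul] at h1
  exact hρ.inj (LinearEquiv.ext fun w => LinearMap.congr_fun h1 w)

set_option synthInstance.maxHeartbeats 400000 in
set_option synthInstance.maxSize 4000 in
theorem two_arith_table : ∀ I ∈ [12, 24, 60], ∀ p < 60,
    I % (p + 1) ≠ 0 ∨ I % p = 0 ∨ p ∈ [0, 1, 4, 9, 14] ∨ ∀ e < 21, ∀ m < 21,
      (p + 1) * (e * m) ≠ I ∨ (p - 1) % e ≠ 0 ∨
        (I = 24 ∧ p = 5 ∧ e = 4) ∨
        (((p - 1) / e * (if I = 12 then 7 else if I = 24 then 8 else 9) + 2 * m < 2 * (p * p)) ∧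
          (2 * p ≤ (p - 1) / e * (if I = 12 then 7 else if I = 24 then 8 else 9) ∨
            (I = 60 ∧ p = 11 ∧ e = 5 ∧ m = 1))) := by
  decide +kernel

theorem two_arith {p I z m k : ℕ} (hp : p.Prime) (hI : I = 12 ∧ 2 * k = 7 * z ∨ I = 24 ∧ 2 * k = 8 * z ∨
    I = 60 ∧ 2 * k = 9 * z) (hz : z ∣ p - 1) (hm : (p ^ 2 - 1) * m = z * I) (hpI : ¬ p ∣ I)
    (hexc : I = 24 → p = 5 → z ≠ 1) :
    k + m < p ^ 2 ∧ (p ≤ k ∨ (p = 11 ∧ k = 9 ∧ z = 2 ∧ m = 1 ∧ I = 60)) := by
  obtain ⟨e, he⟩ := hz
  have hp2 := hp.two_le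
  have hz0 : 0 < z := Nat.pos_of_ne_zero fun h => by rw [h, zero_mul] at he; omega
  have he0 : 0 < e := Nat.pos_of_ne_zero fun h => by rw [h, mul_zero] at he; omega
  have hsq : p ^ 2 - 1 = (p + 1) * (p - 1) := by simpa using Nat.sq_sub_sq p 1
  have hI' : (p + 1) * (e * m) = I := by
    refine Nat.eq_of_mul_eq_mul_left hz0 ?_
    rw [← hm, hsq, he]; ring
  have hI0 : 0 < I := by omega
  have hm0 : 0 < m := Nat.pos_of_ne_zero fun h => by rw [h, mul_zero, mul_zero] at hI'; omega
  have hpI' : p + 1 ≤ I := Nat.le_of_dvd hI0 ⟨e * m, hI'.symm⟩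
  have hem : (p + 1) * (e * m) ≥ 3 * (e * m) := Nat.mul_le_mul_right _ (by omega)
  have he21 : e < 21 := by
    have : e * 1 ≤ e * m := Nat.mul_le_mul_left e hm0
    omega
  have hm21 : m < 21 := by
    have : 1 * m ≤ e * m := Nat.mul_le_mul_right m he0
    omega
  have hmem : I ∈ [12, 24, 60] := by rcases hI with h | h | h <;> simp [h.1]
  have hz' : (p - 1) / e = z := by rw [he]; exact Nat.mul_div_cancel _ he0
  have hS : 2 * k = z * (if I = 12 then 7 else if I = 24 then 8 else 9) := by
    rcases hI with ⟨rfl, h⟩ | ⟨rfl, h⟩ | ⟨rfl, h⟩ <;> simp <;> omega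
  rcases two_arith_table I hmem p (by omega) with h | h | h | h
  · exact absurd (Nat.mod_eq_zero_of_dvd ⟨e * m, hI'.symm⟩) h
  · exact absurd (Nat.dvd_of_mod_eq_zero h) hpI
  · simp only [List.mem_cons, List.not_mem_nil, or_false] at h
    rcases h with rfl | rfl | rfl | rfl | rfl <;> norm_num at hp
  rcases h e he21 m hm21 with h | h | ⟨h1, h2, h3⟩ | ⟨h1, h2⟩
  · exact absurd hI' h
  · exact absurd (by rw [he, Nat.mul_mod_left]) h
  · exfalso
    rw [h2, h3] at hz'
    exact hexc h1 h2 (by omega)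
  · rw [hz', ← hS] at h1 h2
    refine ⟨by rw [pow_two]; omega, ?_⟩
    rcases h2 with h2 | ⟨hI60, h11, he5, hm1⟩
    · left; omega
    · right
      rw [h11, he5] at hz'
      rw [← hz'] at hS ⊢
      rw [hI60] at hS
      norm_num at hS
      exact ⟨h11, by omega, by norm_num, hm1, hI60⟩

/-- Transitive groups on a plane. -/
theorem two_cases (hρ : TransLin ρ) (hn : finrank (ZMod p) V = 2) :
    (∃ C, IsGamma ρ C) ∨ ∃ m, Nat.card H = (p ^ 2 - 1) * m ∧ Nat.card (ConjClasses H) + m < p ^ 2 ∧
      (p ≤ Nat.card (ConjClasses H) ∨ (p = 11 ∧ Nat.card (ConjClasses H) = 9 ∧ Nat.card H = 120 ∧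
        Nonempty (H ≃* Matrix.SpecialLinearGroup (Fin 2) (ZMod 5)))) := by
  classical
  letI := Fintype.ofFinite H
  haveI := Fintype.ofFinite (IrrCharacter H)
  by_cases hgam : ∃ C, IsGamma ρ C
  · exact Or.inl hgam
  refine Or.inr ?_
  obtain ⟨m, hm, hH⟩ := stab_pos hρ
  rw [hn] at hH
  have hp2 := hp.out.two_le
  have hsq : p ^ 2 - 1 = (p + 1) * (p - 1) := by simpa using Nat.sq_sub_sq p 1
  -- normal abelian subgroups are small
  have hsmall : ∀ B : Subgroup H, B.Normal → (∀ a ∈ B, ∀ b ∈ B, a * b = b * a) → Nat.card B ∣ p - 1 := by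
    intro B hBn hBc
    haveI := hBn
    by_contra hB
    refine hgam (isGamma_of_abelian ρ hρ B hBc fun d hd hdn hlt => ?_)
    rw [hn] at hlt
    obtain rfl : d = 1 := by omega
    rwa [pow_one]
  have hcentral : ∀ B : Subgroup H, B.Normal → (∀ a ∈ B, ∀ b ∈ B, a * b = b * a) → B ≤ Subgroup.center H :=
    fun B hBn hBc => by haveI := hBn; exact le_center_of_card_dvd hρ B hBc (hsmall B hBn hBc)
  have hbig : p - 1 < p ^ 2 - 1 ∧ 2 * (p - 1) < p ^ 2 - 1 := by
    rw [hsq]
    have : 3 * (p - 1) ≤ (p + 1) * (p - 1) := Nat.mul_le_mul_right _ (by omega)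
    omega
  have hHbig : p ^ 2 - 1 ≤ Nat.card H := hH ▸ Nat.le_mul_of_pos_right _ hm
  obtain ⟨χ, hχ, hχn, hfaith⟩ := exists_char_of_linear hρ.coprime ρ hρ.inj
  rw [hn] at hχn
  push_cast at hχn
  -- the character is irreducible
  obtain ⟨φ₀, hφ₀⟩ : ∃ φ : IrrCharacter H, (φ : H → ℂ) = χ := by
    by_contra hno
    obtain ⟨c, hc, -⟩ := Char.IsCharacter.decompose hχ
    have hdeg : ∑ φ : IrrCharacter H, c φ * charDegree (φ : H → ℂ) = 2 := by
      have h := congrFun hc 1
      simp only [Finset.sum_apply, Pi.smul_apply, smul_eq_mul, ← Blocks.charDegree_cast, hχn] at h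
      exact_mod_cast h.symm
    have hlin : ∀ φ : IrrCharacter H, c φ ≠ 0 → charDegree (φ : H → ℂ) = 1 := by
      intro φ hφ
      by_contra hne
      have hpos : 0 < charDegree (φ : H → ℂ) := Blocks.charDegree_pos φ
      rw [← Finset.add_sum_erase _ _ (Finset.mem_univ φ)] at hdeg
      have h1 : 2 ≤ c φ * charDegree (φ : H → ℂ) :=
        le_trans (by omega : 2 ≤ 1 * charDegree (φ : H → ℂ)) (Nat.mul_le_mul_right _ (by omega))
      have hcφ : c φ = 1 := by
        by_contra hc1
        have : 2 * 2 ≤ c φ * charDegree (φ : H → ℂ) := Nat.mul_le_mul (by omega) (by omega)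
        omega
      refine hno ⟨φ, ?_⟩
      rw [hc, Finset.sum_eq_single φ (fun ψ _ hψ => ?_) (fun h => absurd (Finset.mem_univ _) h), hcφ,
        Nat.cast_one, one_smul]
      have h0 : ∑ ψ ∈ Finset.univ.erase φ, c ψ * charDegree (ψ : H → ℂ) = 0 := by omega
      have := (Finset.sum_eq_zero_iff.1 h0) ψ (Finset.mem_erase.2 ⟨hψ, Finset.mem_univ _⟩)
      rw [(Nat.mul_eq_zero.1 this).resolve_right (Blocks.charDegree_pos ψ).ne', Nat.cast_zero, zero_smul]
    have hab : ∀ a b : H, a * b = b * a := by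
      intro a b
      refine mul_inv_eq_iff_eq_mul.1 (mul_inv_eq_one.1 (hfaith (a * b * a⁻¹ * b⁻¹) ?_))
      rw [hc, Finset.sum_apply, Finset.sum_apply]
      refine Finset.sum_congr rfl fun φ _ => ?_
      simp only [Pi.smul_apply, smul_eq_mul]
      rcases eq_or_ne (c φ) 0 with h0 | h0
      · rw [h0, Nat.cast_zero, zero_mul, zero_mul]
      congr 1
      have h1 : (φ : H → ℂ) 1 = 1 := by rw [← Blocks.charDegree_cast, hlin φ h0, Nat.cast_one]
      obtain ⟨l, hl⟩ := Char.exists_hom_of_degree_one (Char.IsIrrCharacter.isCharacter φ.2) h1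
      rw [← hl, map_mul, map_mul, map_mul, map_one, mul_comm (l a) (l b),
        mul_assoc (l b) (l a) (l a⁻¹), ← map_mul l a a⁻¹, mul_inv_cancel, map_one, mul_one, ← map_mul,
        mul_inv_cancel, map_one]
    have hd := hsmall ⊤ inferInstance (fun a _ b _ => hab a b)
    rw [Subgroup.card_top] at hd
    have := Nat.le_of_dvd (by omega) hd
    omega
  have hφdeg : charDegree (φ₀ : H → ℂ) = 2 := by
    rw [hφ₀]; exact charDegree_eq_of_apply_one (by rw [hχn]; norm_num)
  -- the character is primitive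
  have hprim : ∀ K : Subgroup H, K ≠ ⊤ → ∀ θ : K → ℂ, IsCharacter K θ → (φ₀ : H → ℂ) ≠ indFun K θ := by
    intro K hK θ hθ heq
    obtain ⟨d, hd⟩ := Char.IsCharacter.exists_degree hθ
    have h2 : K.index * d = 2 := by
      have h := congrFun heq 1
      rw [hφ₀, hχn, Char.indFun_one_apply, hd] at h
      exact_mod_cast h.symm
    have hK2 : 2 ≤ K.index := Subgroup.one_lt_index_of_ne_top hK
    have hd1 : d = 1 := by
      rcases Nat.eq_zero_or_pos d with rfl | hd0
      · omega
      have := Nat.le_mul_of_pos_right K.index hd0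
      have : 2 * d ≤ K.index * d := Nat.mul_le_mul_right d hK2
      omega
    rw [hd1, mul_one] at h2
    haveI hKn := Subgroup.normal_of_index_eq_two h2
    rw [hd1, Nat.cast_one] at hd
    obtain ⟨l, hl⟩ := Char.exists_hom_of_degree_one hθ hd
    have hKc : ∀ a ∈ K, ∀ b ∈ K, a * b = b * a := by
      intro a ha b hb
      refine mul_inv_eq_iff_eq_mul.1 (mul_inv_eq_one.1 (hfaith (a * b * a⁻¹ * b⁻¹) ?_))
      rw [← hφ₀, heq, Char.indFun_one_apply, hd, mul_one, indFun]
      have hterm : ∀ x : H, extendByZero K θ (x⁻¹ * (a * b * a⁻¹ * b⁻¹) * x) = 1 := by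
        intro x
        have hA : x⁻¹ * a * x ∈ K := by simpa using hKn.conj_mem a ha x⁻¹
        have hB : x⁻¹ * b * x ∈ K := by simpa using hKn.conj_mem b hb x⁻¹
        have he : x⁻¹ * (a * b * a⁻¹ * b⁻¹) * x =
            (((⟨_, hA⟩ : K) * ⟨_, hB⟩ * (⟨_, hA⟩ : K)⁻¹ * (⟨_, hB⟩ : K)⁻¹ : K) : H) := by
          push_cast; group
        rw [he, Char.extendByZero_coe, ← hl, map_mul, map_mul, map_mul, mul_comm (l ⟨_, hA⟩) (l ⟨_, hB⟩),
          mul_assoc (l ⟨_, hB⟩) (l ⟨_, hA⟩) _, ← map_mul l, mul_inv_cancel, map_one, mul_one, ← map_mul,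
          mul_inv_cancel, map_one]
      rw [Finset.sum_congr rfl fun x _ => hterm x, Finset.sum_const, Finset.card_univ, nsmul_eq_mul, mul_one,
        ← Nat.card_eq_fintype_card, ← Subgroup.card_mul_index K, Nat.cast_mul, ← mul_assoc,
        inv_mul_cancel₀ (Nat.cast_ne_zero.2 Nat.card_pos.ne'), one_mul]
    have h3 := Nat.le_of_dvd (by omega) (hsmall K hKn hKc)
    have h4 := K.card_mul_index
    rw [h2] at h4
    omega
  have hpole := pole_count φ₀ (by rw [hφ₀]; exact hfaith) hφdeg hprim
  set z := Nat.card (Subgroup.center H) with hz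
  set I := (Subgroup.center H).index with hI
  have hzI : z * I = Nat.card H := (Subgroup.center H).card_mul_index
  have hzdvd : z ∣ p - 1 := hsmall _ inferInstance fun a ha b _ => (Subgroup.mem_center_iff.1 ha b).symm
  have hpI : ¬ p ∣ I := fun h => hρ.coprime (h.trans ⟨z, by rw [← hzI, mul_comm]⟩)
  -- free actions contain `-1`
  have hexc : I = 24 → p = 5 → z ≠ 1 := by
    intro hI24 hp5 hz1
    have hcard : Nat.card H = 24 := by rw [← hzI, hz1, hI24]
    have hm1 : m = 1 := by rw [hp5, hcard] at hH; omega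
    haveI : Fact (Nat.Prime 2) := ⟨Nat.prime_two⟩
    obtain ⟨t, ht⟩ := exists_prime_orderOf_dvd_card' (G := H) 2 (by rw [hcard]; norm_num)
    have hneg : ∀ v : V, ρ t v = -v := by
      intro v
      have htt : ρ t (ρ t v) = v := by
        rw [← LinearEquiv.mul_apply, ← map_mul, ← pow_two, ← ht, pow_orderOf_eq_one, map_one]; rfl
      have hfixed : ρ t (ρ t v + v) = ρ t v + v := by rw [map_add, htt, add_comm]
      by_contra hne
      have hw : ρ t v + v ≠ 0 := fun h => hne (eq_neg_of_add_eq_zero_left h)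
      obtain ⟨S, hS, hScard⟩ := sub_one_dvd_card hρ _ hw
      rw [hn, hp5, hcard] at hScard
      have hS1 : Nat.card S = 1 := by omega
      rw [Subgroup.card_eq_one] at hS1
      have : t ∈ S := (hS t).2 hfixed
      rw [hS1, Subgroup.mem_bot] at this
      rw [this, orderOf_one] at ht
      norm_num at ht
    have htZ : t ∈ Subgroup.center H := Subgroup.mem_center_iff.2 fun g => hρ.inj (LinearEquiv.ext fun v => by
      rw [map_mul, map_mul, LinearEquiv.mul_apply, LinearEquiv.mul_apply, hneg, hneg, map_neg])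
    rw [Subgroup.card_eq_one.1 hz1, Subgroup.mem_bot] at htZ
    rw [htZ, orderOf_one] at ht
    norm_num at ht
  obtain ⟨hupper, hlower⟩ := two_arith hp.out hpole hzdvd (hH.symm.trans hzI.symm) hpI hexc
  refine ⟨m, hH, hupper, hlower.imp_right ?_⟩
  rintro ⟨h11, hk, hz2, hm1, hI60⟩
  have hcard : Nat.card H = 120 := by rw [← hzI, hz2, hI60]
  refine ⟨h11, hk, hcard, ?_⟩
  -- not solvable
  have hns : ¬ Group.IsSolvable H := by
    intro hsol
    have hZc : ∀ a ∈ Subgroup.center H, ∀ b ∈ Subgroup.center H, a * b = b * a := fun a ha b _ =>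
      (Subgroup.mem_center_iff.1 ha b).symm
    haveI : Fact (Nat.Prime 2) := ⟨Nat.prime_two⟩
    haveI hZcyc : IsCyclic (Subgroup.center H) := isCyclic_of_prime_card hz2
    obtain ⟨M, hMn, hP, hMC, hnd, -, hK, hlt⟩ := Huppert.exists_class_two (Subgroup.center H) hZc
      fun B hB hBc hle => le_antisymm (hcentral B hB hBc) hle
    haveI := hMn
    have htop : Subgroup.centralizer ((Subgroup.center H : Subgroup H) : Set H) = ⊤ :=
      (Subgroup.eq_top_iff' _).2 fun g => Subgroup.mem_centralizer_iff.2 fun u hu =>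
        (Subgroup.mem_center_iff.1 hu g).symm
    have hltM : Subgroup.center H < M := hlt fun h => by
      have h1 : Nat.card H = 2 := by rw [← Subgroup.card_top (G := H), ← htop, h]; exact hz2
      omega
    obtain ⟨d, l, -, -, hV, -, -, -, hbound, -⟩ :=
      Nearfield.exists_degree ρ hρ.inj hρ.trans (Subgroup.center H) hZc
    have hdl := mul_eq_finrank hV
    rw [hn] at hdl
    have hl2 : l ≤ 2 := Nat.le_of_dvd (by norm_num) ⟨d, by rw [mul_comm]; exact hdl.symm⟩
    have hN4 : (Subgroup.center H).relIndex M ≤ 4 :=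
      (hbound M hMC hP.comm hnd).trans (Nat.mul_le_mul hl2 hl2)
    set N := (Subgroup.center H).relIndex M with hN
    have hN1 : N ≠ 1 := fun h => hltM.not_ge (Subgroup.relIndex_eq_one.1 h)
    have hN0 : N ≠ 0 := Subgroup.index_ne_zero_of_finite (H := (Subgroup.center H).subgroupOf M)
    have hN' : N = 4 := by
      by_contra h4
      have hpr : N.Prime := by
        rcases (show N = 2 ∨ N = 3 by omega) with h | h <;> rw [h] <;> norm_num
      haveI : Fact N.Prime := ⟨hpr⟩
      haveI : IsCyclic (M ⧸ (Subgroup.center H).subgroupOf M) := isCyclic_of_prime_card (p := N) rfl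
      have hMc : ∀ a ∈ M, ∀ b ∈ M, a * b = b * a := fun a ha b hb => congrArg Subtype.val
        (commutative_of_cyclic_center_quotient (QuotientGroup.mk' ((Subgroup.center H).subgroupOf M))
          (by
            rw [QuotientGroup.ker_mk']
            exact fun u hu => Subgroup.mem_center_iff.2 fun w => Subtype.ext
              (Subgroup.mem_center_iff.1 (Subgroup.mem_subgroupOf.1 hu) w)) ⟨a, ha⟩ ⟨b, hb⟩)
      exact hltM.not_ge (hcentral M hMn hMc)
    have h6 := Huppert.relIndex_dvd_six hN' hMC hP.comm hK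
    rw [htop, Subgroup.relIndex_top_right] at h6
    have h24 : I ∣ 24 := by
      rw [hI, ← Subgroup.relIndex_mul_index hltM.le, ← hN, hN']
      exact Nat.mul_dvd_mul_left 4 h6
    rw [hI60] at h24
    norm_num at h24
  have hreg : ∀ v w : V, v ≠ 0 → w ≠ 0 → ∃! h : ρ.range, (h : V ≃ₗ[ZMod p] V) v = w := by
    intro v w hv hw
    obtain ⟨g, hg⟩ := hρ.trans v w hv hw
    refine ⟨⟨ρ g, g, rfl⟩, hg, ?_⟩
    rintro ⟨_, g', rfl⟩ hg'
    refine Subtype.ext (congrArg ρ ?_)
    obtain ⟨S, hS, hScard⟩ := sub_one_dvd_card hρ v hv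
    rw [hn, hcard, h11] at hScard
    have hS1 : Nat.card S = 1 := by omega
    rw [Subgroup.card_eq_one] at hS1
    have hmem : g⁻¹ * g' ∈ S := (hS _).2 (by
      rw [map_mul, LinearEquiv.mul_apply, show ρ g' v = w from hg', ← hg, ← LinearEquiv.mul_apply, ← map_mul,
        inv_mul_cancel, map_one]
      rfl)
    rw [hS1, Subgroup.mem_bot, inv_mul_eq_one] at hmem
    exact hmem.symm
  let e : H ≃* ρ.range := MonoidHom.ofInjective hρ.inj
  have hns' : ¬ Group.IsSolvable ρ.range := fun h =>
    hns (Group.isSolvable_of_isSolvable_injective (f := e.toMonoidHom) e.injective)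
  have hVc : Nat.card V = 121 := by rw [natCard_eq (p := p), hn, h11]; norm_num
  rcases S0689.result ρ.range hreg hns' with ⟨-, ⟨e'⟩⟩ | ⟨h, -⟩ | ⟨h, -⟩
  · exact ⟨e.trans e'⟩
  · omega
  · omega

end Cfsg.Agent.TransPPrime
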