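/-
Class numbers of transitive linear groups of order prime to the characteristic
(namespace `Cfsg.Agent.TransPPrime`).

* `upper_bound`: `k + m ≤ q` with the equality cases
* `lower_bound`: `p ≤ k` in dimension at least `2`, apart from `SL(2,5)` on `121` elements
* `card_eq_of_finrank_one`: dimension one
-/
import Cfsg.Agent.Lib.TransPPrime.Four
import Cfsg.Agent.Lib.TransPPrime.Two

set_option autoImplicit false
set_option linter.unusedSectionVars false
set_option linter.style.haveILetI false

namespace Cfsg.Agent.TransPPrime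

open Module

variable {p : ℕ} [hp : Fact p.Prime] {V : Type*} [AddCommGroup V] [Module (ZMod p) V] [Finite V]
  [Nontrivial V] {H : Type*} [Group H] [Finite H] {ρ : H →* (V ≃ₗ[ZMod p] V)}

theorem card_eq_of_finrank_one (hρ : TransLin ρ) (hn : finrank (ZMod p) V = 1) :
    Nat.card (ConjClasses H) = p - 1 ∧ IsCyclic H ∧ Nat.card H = p - 1 := by
  obtain ⟨C, hC⟩ := isGamma_of_abelian ρ hρ ⊥
    (fun a ha b hb => by rw [Subgroup.mem_bot.1 ha, Subgroup.mem_bot.1 hb])
    (fun d hd _ hlt => absurd hlt (by omega))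
  obtain ⟨m, -, hH⟩ := stab_pos hρ
  obtain ⟨v, hv⟩ := exists_ne (0 : V)
  obtain ⟨S, hS, hScard⟩ := sub_one_dvd_card hρ v hv
  have hCtop : C = ⊤ := Subgroup.index_eq_one.1 (Nat.dvd_one.1 (hn ▸ hC.index_dvd))
  have hS1 : Nat.card S = 1 := Nat.dvd_one.1 (by
    have := hC.stab_dvd hρ hv hS
    rwa [hCtop, Subgroup.index_top] at this)
  rw [hn, pow_one, hS1, mul_one] at hScard
  haveI hcyc : IsCyclic H := by
    have h2 : IsCyclic C := hC.cyclic
    rw [hCtop] at h2
    exact (Subgroup.topEquiv (G := H)).isCyclic.1 h2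
  refine ⟨?_, hcyc, hScard⟩
  letI := IsCyclic.commGroup (α := H)
  rw [← hScard]
  exact (Nat.card_congr (Equiv.ofBijective ConjClasses.mk
    ⟨fun a b h => isConj_iff_eq.1 (ConjClasses.mk_eq_mk_iff_isConj.1 h), ConjClasses.mk_surjective⟩)).symm

theorem upper_bound (hρ : TransLin ρ) {m : ℕ} (hm : Nat.card H = (p ^ finrank (ZMod p) V - 1) * m) :
    Nat.card (ConjClasses H) + m ≤ p ^ finrank (ZMod p) V ∧
      (Nat.card (ConjClasses H) + m = p ^ finrank (ZMod p) V → IsCyclic H ∨
        (p ^ finrank (ZMod p) V = 8 ∧ Nat.card H = 21) ∨ (p ^ finrank (ZMod p) V = 9 ∧ Nat.card H = 16)) := by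
  by_cases hgam : ∃ C, IsGamma ρ C
  · obtain ⟨C, hC⟩ := hgam
    exact hC.upper hρ hm
  have hq := two_le_card (p := p) (V := V)
  have hn0 : 0 < finrank (ZMod p) V := Module.finrank_pos
  have hcancel : ∀ m' : ℕ, Nat.card H = (p ^ finrank (ZMod p) V - 1) * m' → m' = m := fun m' h =>
    Nat.eq_of_mul_eq_mul_left (by omega) (h.symm.trans hm)
  suffices h : Nat.card (ConjClasses H) + m < p ^ finrank (ZMod p) V from ⟨h.le, fun he => absurd he h.ne⟩
  rcases Nat.lt_or_ge (finrank (ZMod p) V) 3 with h3 | h3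
  · rcases (show finrank (ZMod p) V = 1 ∨ finrank (ZMod p) V = 2 by omega) with hn | hn
    · exact absurd (isGamma_of_abelian ρ hρ ⊥
        (fun a ha b hb => by rw [Subgroup.mem_bot.1 ha, Subgroup.mem_bot.1 hb])
        (fun d hd _ hlt => absurd hlt (by omega))) hgam
    · obtain ⟨m', hH, hlt, -⟩ := (two_cases hρ hn).resolve_left hgam
      rw [← hcancel m' (by rw [hn]; exact hH), hn]
      exact hlt
  · by_cases hex : finrank (ZMod p) V = 4 ∧ p = 3
    · obtain ⟨hn, rfl⟩ := hex
      obtain ⟨m', hH, hlt⟩ := (isGamma_or_small hρ hn).resolve_left hgam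
      rw [← hcancel m' (by rw [hn]; exact hH), hn]
      exact hlt
    · exact absurd (exists_isGamma_of_three_le hρ h3 hex) hgam

theorem lower_bound (hρ : TransLin ρ) (hn : 2 ≤ finrank (ZMod p) V) :
    p ≤ Nat.card (ConjClasses H) ∨ (finrank (ZMod p) V = 2 ∧ p = 11 ∧ Nat.card (ConjClasses H) = 9 ∧
      Nat.card H = 120 ∧ Nonempty (H ≃* Matrix.SpecialLinearGroup (Fin 2) (ZMod 5))) := by
  by_cases hgam : ∃ C, IsGamma ρ C
  · obtain ⟨C, hC⟩ := hgam
    exact Or.inl (hC.lower hρ hn)
  rcases Nat.lt_or_ge (finrank (ZMod p) V) 3 with h3 | h3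
  · have h2 : finrank (ZMod p) V = 2 := by omega
    obtain ⟨m', -, -, h⟩ := (two_cases hρ h2).resolve_left hgam
    exact h.imp_right fun h' => ⟨h2, h'⟩
  · by_cases hex : finrank (ZMod p) V = 4 ∧ p = 3
    · obtain ⟨hn4, rfl⟩ := hex
      left
      obtain ⟨m, -, hH⟩ := stab_pos hρ
      rw [hn4] at hH
      haveI : Fact (Nat.Prime 2) := ⟨Nat.prime_two⟩
      haveI : Fact (Nat.Prime 5) := ⟨by norm_num⟩
      obtain ⟨a, ha⟩ := exists_prime_orderOf_dvd_card' (G := H) 2 (hH ▸ Dvd.dvd.mul_right (by norm_num) m)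
      obtain ⟨b, hb⟩ := exists_prime_orderOf_dvd_card' (G := H) 5 (hH ▸ Dvd.dvd.mul_right (by norm_num) m)
      have hne : ∀ x y : H, orderOf x ≠ orderOf y → ConjClasses.mk x ≠ ConjClasses.mk y := fun x y h he => h (by
        obtain ⟨c, hc⟩ := isConj_iff.1 (ConjClasses.mk_eq_mk_iff_isConj.1 he)
        rw [← hc, ← MulAut.conj_apply, MulEquiv.orderOf_eq])
      have hinj : Function.Injective ![ConjClasses.mk (1 : H), ConjClasses.mk a, ConjClasses.mk b] := by
        have h1 := hne 1 a (by rw [orderOf_one, ha]; norm_num)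
        have h2 := hne 1 b (by rw [orderOf_one, hb]; norm_num)
        have h3 := hne a b (by rw [ha, hb]; norm_num)
        intro i j h
        fin_cases i <;> fin_cases j <;> first
          | rfl
          | exact absurd h (by simpa using h1)
          | exact absurd h (by simpa using h1.symm)
          | exact absurd h (by simpa using h2)
          | exact absurd h (by simpa using h2.symm)
          | exact absurd h (by simpa using h3)
          | exact absurd h (by simpa using h3.symm)
      have := Nat.card_le_card_of_injective _ hinj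
      rwa [Nat.card_fin] at this
    · exact absurd (exists_isGamma_of_three_le hρ h3 hex) hgam

end Cfsg.Agent.TransPPrime
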