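/-
A self-centralizing normal elementary abelian `p`-subgroup with a transitive complement of order prime to `p`
(namespace `Cfsg.Agent.TransPPrime`).

* `setting_bounds`: the class number bounds for the complement
* `card_conjClasses_le_add`: `k(X) ≤ k(G) + k(G_w)`
-/
import Cfsg.Agent.Lib.TransPPrime.Bounds
import Mathlib.Algebra.Module.ZMod
import Mathlib.GroupTheory.Complement

set_option autoImplicit false
set_option linter.unusedSectionVars false
set_option linter.style.haveILetI false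

namespace Cfsg.Agent.TransPPrime

open Module

variable {X : Type*} [Group X] [Finite X] {p : ℕ} [hp : Fact p.Prime]

theorem commute_of_centralizer_eq {V : Subgroup X} (hself : Subgroup.centralizer (V : Set X) = V) :
    ∀ a ∈ V, ∀ b ∈ V, a * b = b * a := fun a ha b hb =>
  Subgroup.mem_centralizer_iff.1 (hself.ge hb) a ha

/-- The bounds, stated inside `X`. -/
theorem setting_bounds (V : Subgroup X) [V.Normal] (hVexp : ∀ v ∈ V, v ^ p = 1) (hV : V ≠ ⊥)
    (hidx : ¬ p ∣ V.index) (hself : Subgroup.centralizer (V : Set X) = V) (G : Subgroup X)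
    (hGV : Subgroup.IsComplement' V G)
    (htrans : ∀ v ∈ V, ∀ w ∈ V, v ≠ 1 → w ≠ 1 → ∃ g ∈ G, g * v * g⁻¹ = w) :
    ∃ n m : ℕ, 0 < n ∧ Nat.card V = p ^ n ∧ Nat.card G = (p ^ n - 1) * m ∧
      (∀ w ∈ V, w ≠ 1 → Nat.card (G ⊓ Subgroup.centralizer ({w} : Set X) : Subgroup X) = m) ∧
      Nat.card (ConjClasses G) + m ≤ p ^ n ∧
      (Nat.card (ConjClasses G) + m = p ^ n →
        IsCyclic G ∨ (p ^ n = 8 ∧ Nat.card G = 21) ∨ (p ^ n = 9 ∧ Nat.card G = 16)) ∧
      (n = 1 → Nat.card (ConjClasses G) = p - 1 ∧ IsCyclic G ∧ Nat.card G = p - 1) ∧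
      (2 ≤ n → p ≤ Nat.card (ConjClasses G) ∨ (n = 2 ∧ p = 11 ∧ Nat.card (ConjClasses G) = 9 ∧
        Nat.card G = 120 ∧ Nonempty (G ≃* Matrix.SpecialLinearGroup (Fin 2) (ZMod 5)))) := by
  classical
  have hcomm := commute_of_centralizer_eq hself
  letI : CommGroup V := { (inferInstance : Group V) with mul_comm := fun a b => Subtype.ext (hcomm a a.2 b b.2) }
  haveI : Module (ZMod p) (Additive V) := AddCommGroup.zmodModule fun x => by
    have h := hVexp _ (Additive.toMul x).2
    apply Additive.toMul.injective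
    apply Subtype.ext
    simpa using h
  haveI : Nontrivial (Additive V) := by
    haveI := (Subgroup.nontrivial_iff_ne_bot V).2 hV
    exact inferInstanceAs (Nontrivial (Additive V))
  let act : G → (Additive V ≃ₗ[ZMod p] Additive V) := fun g =>
    (show Additive V ≃+ Additive V from
      MulEquiv.toAdditive (MulAut.conjNormal (H := V) (g : X))).toLinearEquiv fun c x => by
        rw [show c = ((c.val : ℕ) : ZMod p) from (ZMod.natCast_zmod_val c).symm, Nat.cast_smul_eq_nsmul,
          Nat.cast_smul_eq_nsmul, map_nsmul]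
  have hact : ∀ (g : G) (v : Additive V), ((Additive.toMul (act g v) : V) : X) =
      (g : X) * (Additive.toMul v : V) * (g : X)⁻¹ := fun g v => MulAut.conjNormal_apply (g : X) _
  let ρ : G →* (Additive V ≃ₗ[ZMod p] Additive V) :=
    { toFun := act
      map_one' := LinearEquiv.ext fun v => Additive.toMul.injective (Subtype.ext (by
        rw [hact]; simp))
      map_mul' := fun a b => LinearEquiv.ext fun v => Additive.toMul.injective (Subtype.ext (by
        rw [LinearEquiv.mul_apply, hact, hact, hact]; push_cast; group)) }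
  have hGcard : Nat.card G = V.index := (hGV.symm.index_eq_card).symm
  have hρ : TransLin ρ := by
    refine ⟨?_, ?_, hGcard ▸ hidx⟩
    · intro a b h
      have hmem : ((a⁻¹ * b : G) : X) ∈ V := by
        rw [← hself, Subgroup.mem_centralizer_iff]
        intro v hv
        have h1 := congrArg (fun f => ((Additive.toMul (f (Additive.ofMul (⟨v, hv⟩ : V))) : V) : X)) h
        have h2 : (a : X) * v * (a : X)⁻¹ = b * v * (b : X)⁻¹ := by
          have e1 := hact a (Additive.ofMul (⟨v, hv⟩ : V))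
          have e2 := hact b (Additive.ofMul (⟨v, hv⟩ : V))
          simp only [ρ, MonoidHom.coe_mk, OneHom.coe_mk] at h1
          rw [e1, e2] at h1
          simpa using h1
        push_cast
        calc v * ((a : X)⁻¹ * b) = (a : X)⁻¹ * ((a : X) * v * (a : X)⁻¹) * b := by group
          _ = (a : X)⁻¹ * (b * v * (b : X)⁻¹) * b := by rw [h2]
          _ = _ := by group
      have h1 : ((a⁻¹ * b : G) : X) = 1 := Subgroup.mem_bot.1 (hGV.disjoint.le_bot ⟨hmem, (a⁻¹ * b).2⟩)
      exact inv_mul_eq_one.1 (Subtype.ext h1)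
    · intro v w hv hw
      obtain ⟨g, hg, hgv⟩ := htrans _ (Additive.toMul v).2 _ (Additive.toMul w).2
        (fun h => hv (Additive.toMul.injective (Subtype.ext h)))
        (fun h => hw (Additive.toMul.injective (Subtype.ext h)))
      exact ⟨⟨g, hg⟩, Additive.toMul.injective (Subtype.ext ((hact ⟨g, hg⟩ v).trans hgv))⟩
  obtain ⟨m, hm, hH⟩ := stab_pos hρ
  refine ⟨finrank (ZMod p) (Additive V), m, Module.finrank_pos, ?_, hH, ?_, (upper_bound hρ hH).1,
    (upper_bound hρ hH).2, card_eq_of_finrank_one hρ, lower_bound hρ⟩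
  · rw [← natCard_eq (p := p) (V := Additive V)]
    exact (Nat.card_congr Additive.toMul).symm
  · intro w hw hw1
    obtain ⟨S, hS, hScard⟩ := sub_one_dvd_card hρ (Additive.ofMul (⟨w, hw⟩ : V))
      (fun h => hw1 (by simpa using congrArg (fun x => ((Additive.toMul x : V) : X)) h))
    have hq := two_le_card (p := p) (V := Additive V)
    rw [← Nat.eq_of_mul_eq_mul_left (by omega) (hScard.symm.trans hH)]
    refine Nat.card_congr ⟨fun g => ⟨⟨g.1, g.2.1⟩, (hS _).2 (Additive.toMul.injective (Subtype.ext ?_))⟩,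
      fun g => ⟨(g : G), (g : G).2, ?_⟩, fun g => rfl, fun g => rfl⟩
    · refine (hact ⟨g.1, g.2.1⟩ _).trans ?_
      show (g : X) * w * (g : X)⁻¹ = w
      rw [Subgroup.mem_centralizer_singleton_iff.1 g.2.2, mul_inv_cancel_right]
    · refine Subgroup.mem_centralizer_singleton_iff.2 ?_
      have h := (hact (g : G) (Additive.ofMul (⟨w, hw⟩ : V))).symm.trans
        (congrArg (fun x => ((Additive.toMul x : V) : X)) ((hS _).1 g.2))
      exact mul_inv_eq_iff_eq_mul.1 (by simpa using h)

/-- Every element is conjugate to some `v * g` with `v` fixed by `g`. -/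
theorem exists_conj_commute (V : Subgroup X) [V.Normal] (hVexp : ∀ v ∈ V, v ^ p = 1)
    (hcomm : ∀ a ∈ V, ∀ b ∈ V, a * b = b * a) {g : X} (hg : ¬ p ∣ orderOf g) (v : X) (hv : v ∈ V) :
    ∃ u ∈ V, ∃ v' ∈ V, v' * g = g * v' ∧ u * (v * g) * u⁻¹ = v' * g := by
  classical
  letI : CommGroup V := { (inferInstance : Group V) with mul_comm := fun a b => Subtype.ext (hcomm a a.2 b b.2) }
  haveI : Module (ZMod p) (Additive V) := AddCommGroup.zmodModule fun x => by
    have h := hVexp _ (Additive.toMul x).2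
    apply Additive.toMul.injective
    apply Subtype.ext
    simpa using h
  let φ : Additive V →ₗ[ZMod p] Additive V :=
    AddMonoidHom.toZModLinearMap p
      (MulEquiv.toAdditive (MulAut.conjNormal (H := V) g) : Additive V ≃+ Additive V).toAddMonoidHom
  have hφ : ∀ x : Additive V, ((Additive.toMul (φ x) : V) : X) = g * (Additive.toMul x : V) * g⁻¹ :=
    fun x => MulAut.conjNormal_apply g _
  set D : Additive V →ₗ[ZMod p] Additive V := LinearMap.id - φ with hD
  have hdisj : Disjoint (LinearMap.ker D) (LinearMap.range D) := by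
    rw [Submodule.disjoint_def]
    rintro w hw ⟨u, rfl⟩
    rw [LinearMap.mem_ker, hD, LinearMap.sub_apply, LinearMap.id_apply, sub_eq_zero] at hw
    set w := D u with hw'
    have hφu : φ u = u - w := by rw [hw', hD, LinearMap.sub_apply, LinearMap.id_apply, sub_sub_cancel]
    have hit : ∀ i : ℕ, (φ ^ i) u = u - (i : ZMod p) • w := by
      intro i
      induction i with
      | zero => simp
      | succ i ih =>
        rw [pow_succ', Module.End.mul_apply, ih, map_sub, map_smul, hφu]
        rw [show φ w = w from hw.symm, Nat.cast_succ, add_smul, one_smul]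
        abel
    have hpow : ∀ i : ℕ, ((Additive.toMul ((φ ^ i) u) : V) : X) = g ^ i * (Additive.toMul u : V) * (g ^ i)⁻¹ := by
      intro i
      induction i with
      | zero => simp
      | succ i ih => rw [pow_succ' φ, Module.End.mul_apply, hφ, ih, pow_succ' g]; group
    have hone : (φ ^ orderOf g) u = u := Additive.toMul.injective (Subtype.ext (by
      rw [hpow, pow_orderOf_eq_one, one_mul, inv_one, mul_one]))
    have h0 := (hit (orderOf g)).symm.trans hone
    rw [sub_eq_self, smul_eq_zero] at h0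
    exact h0.resolve_left fun h => hg ((ZMod.natCast_eq_zero_iff _ _).1 h)
  have htop := Submodule.eq_top_of_disjoint _ _
    (le_of_eq ((add_comm _ _).trans D.finrank_range_add_finrank_ker).symm) hdisj
  obtain ⟨v', hv', w, ⟨u, rfl⟩, hsum⟩ := Submodule.mem_sup.1 (htop.ge
    (Submodule.mem_top (x := Additive.ofMul (⟨v, hv⟩ : V))))
  rw [LinearMap.mem_ker, hD, LinearMap.sub_apply, LinearMap.id_apply, sub_eq_zero] at hv'
  refine ⟨((Additive.toMul (-u) : V) : X), (Additive.toMul (-u)).2, ((Additive.toMul v' : V) : X),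
    (Additive.toMul v').2, ?_, ?_⟩
  · have h := (congrArg (fun x => ((Additive.toMul x : V) : X)) hv').trans (hφ v')
    conv_lhs => rw [h]
    group
  · have h := congrArg (fun x => ((Additive.toMul x : V) : X)) hsum
    simp only [hD, LinearMap.sub_apply, LinearMap.id_apply, toMul_add, toMul_sub, Subgroup.coe_mul,
      Subgroup.coe_div, toMul_ofMul, hφ] at h
    simp only [toMul_neg, Subgroup.coe_inv, inv_inv]
    set a := ((Additive.toMul u : V) : X)
    set b := ((Additive.toMul v' : V) : X)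
    have hca : ∀ y ∈ V, a * y = y * a := hcomm a (Additive.toMul u).2
    have hb : b ∈ V := (Additive.toMul v').2
    rw [← h]
    calc a⁻¹ * (b * (a / (g * a * g⁻¹)) * g) * a
        = a⁻¹ * (b * a) * (g * a⁻¹ * g⁻¹) * g * a := by rw [div_eq_mul_inv]; group
      _ = a⁻¹ * (a * b) * (g * a⁻¹ * g⁻¹) * g * a := by rw [hca b hb]
      _ = _ := by group

theorem card_conjClasses_le_add (V : Subgroup X) [V.Normal] (hVexp : ∀ v ∈ V, v ^ p = 1)
    (hidx : ¬ p ∣ V.index) (hcomm : ∀ a ∈ V, ∀ b ∈ V, a * b = b * a) (G : Subgroup X)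
    (hGV : Subgroup.IsComplement' V G)
    (htrans : ∀ v ∈ V, ∀ w ∈ V, v ≠ 1 → w ≠ 1 → ∃ g ∈ G, g * v * g⁻¹ = w) {w₀ : X} (hw₀ : w₀ ∈ V)
    (hw1 : w₀ ≠ 1) :
    Nat.card (ConjClasses X) ≤ Nat.card (ConjClasses G) +
      Nat.card (G ⊓ Subgroup.centralizer ({w₀} : Set X) : Subgroup X) := by
  classical
  set S := G ⊓ Subgroup.centralizer ({w₀} : Set X)
  refine le_trans ?_ (Nat.add_le_add_left
    (Nat.card_le_card_of_surjective ConjClasses.mk ConjClasses.mk_surjective : Nat.card (ConjClasses S) ≤ Nat.card S)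
    _)
  rw [← Nat.card_sum]
  refine Nat.card_le_card_of_surjective (Sum.elim (fun c => ConjClasses.mk ((Quotient.out c : G) : X))
    (fun c => ConjClasses.mk (w₀ * ((Quotient.out c : S) : X)))) fun c => ?_
  obtain ⟨x, rfl⟩ := ConjClasses.mk_surjective c
  obtain ⟨⟨v, g⟩, rfl⟩ := hGV.2 x
  have hgp : ¬ p ∣ orderOf (g : X) := by
    rw [Subgroup.orderOf_coe]
    exact fun h => hidx ((h.trans (orderOf_dvd_natCard g)).trans (dvd_of_eq hGV.symm.index_eq_card.symm))
  obtain ⟨u, -, v', hv', hcg, hu⟩ := exists_conj_commute V hVexp hcomm hgp (v : X) v.2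
  have hconj : ConjClasses.mk ((v : X) * g) = ConjClasses.mk (v' * g) :=
    ConjClasses.mk_eq_mk_iff_isConj.2 (isConj_iff.2 ⟨u, hu⟩)
  rw [hconj]
  by_cases hv1 : v' = 1
  · refine ⟨Sum.inl (ConjClasses.mk g), ?_⟩
    rw [hv1, one_mul]
    obtain ⟨t, ht⟩ := isConj_iff.1 (ConjClasses.mk_eq_mk_iff_isConj.1
      (Quotient.out_eq (ConjClasses.mk g)) : IsConj (Quotient.out (ConjClasses.mk g)) g)
    exact ConjClasses.mk_eq_mk_iff_isConj.2 (isConj_iff.2 ⟨t, congrArg Subtype.val ht⟩)
  · obtain ⟨h, hh, hhv⟩ := htrans v' hv' w₀ hw₀ hv1 hw1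
    have hs : h * g * h⁻¹ ∈ S := by
      refine ⟨G.mul_mem (G.mul_mem hh g.2) (G.inv_mem hh), Subgroup.mem_centralizer_singleton_iff.2 ?_⟩
      rw [← hhv]
      calc h * g * h⁻¹ * (h * v' * h⁻¹) = h * ((g : X) * v') * h⁻¹ := by group
        _ = h * (v' * g) * h⁻¹ := by rw [hcg]
        _ = _ := by group
    refine ⟨Sum.inr (ConjClasses.mk ⟨_, hs⟩), ?_⟩
    obtain ⟨t, ht⟩ := isConj_iff.1 (ConjClasses.mk_eq_mk_iff_isConj.1
      (Quotient.out_eq (ConjClasses.mk (⟨_, hs⟩ : S))) : IsConj (Quotient.out (ConjClasses.mk ⟨_, hs⟩)) (⟨_, hs⟩ : S))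
    have ht' : ((t : S) : X) * (Quotient.out (ConjClasses.mk (⟨_, hs⟩ : S)) : S) * ((t : S) : X)⁻¹ = h * g * h⁻¹ :=
      congrArg Subtype.val ht
    refine ConjClasses.mk_eq_mk_iff_isConj.2 (isConj_iff.2 ⟨h⁻¹ * (t : X), ?_⟩)
    set c := ((Quotient.out (ConjClasses.mk (⟨_, hs⟩ : S)) : S) : X)
    have htw : ((t : S) : X) * w₀ = w₀ * t := Subgroup.mem_centralizer_singleton_iff.1 t.2.2
    calc h⁻¹ * (t : X) * (w₀ * c) * (h⁻¹ * (t : X))⁻¹ = h⁻¹ * ((t : X) * w₀) * c * (t : X)⁻¹ * h := by group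
      _ = h⁻¹ * w₀ * ((t : X) * c * (t : X)⁻¹) * h := by rw [htw]; group
      _ = h⁻¹ * (h * v' * h⁻¹) * (h * g * h⁻¹) * h := by rw [ht', hhv]
      _ = _ := by group

end Cfsg.Agent.TransPPrime
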