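/-
`p`-regular classes, quotients and semidirect products (namespace `Cfsg.Agent.TransPPrime`).

* `exists_regular_preimage`, `card_regular_add_le`: lifting `p`-regular classes along a surjection
* `card_regular_of_complement`: with a normal `p`-subgroup and a `p'`-complement `H` there are `k(H)` of them
* `mulEquiv_affine`: the group of order `p (p - 1)` with a self-centralizing subgroup of order `p`
-/
import Cfsg.Agent.Lib.TransPPrime.Setting
import Cfsg.Prelude.Def_Perm
import Mathlib.GroupTheory.GroupAction.Quotient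

set_option autoImplicit false
set_option linter.unusedSectionVars false
set_option linter.style.haveILetI false

namespace Cfsg.Agent.TransPPrime

variable {G Q : Type*} [Group G] [Finite G] [Group Q] [Finite Q] {p : ℕ} [hp : Fact p.Prime]

/-- The `p`-regular classes. -/
abbrev RegClass (p : ℕ) (G : Type*) [Group G] : Type _ :=
  {c : ConjClasses G // ∃ g : G, ConjClasses.mk g = c ∧ ¬ p ∣ orderOf g}

theorem orderOf_eq_of_mk_eq {a b : G} (h : ConjClasses.mk a = ConjClasses.mk b) : orderOf a = orderOf b := by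
  obtain ⟨c, hc⟩ := isConj_iff.1 (ConjClasses.mk_eq_mk_iff_isConj.1 h)
  rw [← hc, ← MulAut.conj_apply, MulEquiv.orderOf_eq]

theorem exists_regular_preimage (f : G →* Q) (hf : Function.Surjective f) {y : Q} (hy : ¬ p ∣ orderOf y) :
    ∃ x : G, f x = y ∧ ¬ p ∣ orderOf x := by
  obtain ⟨x, rfl⟩ := hf y
  obtain ⟨a, b, hb, hab⟩ := Nat.exists_eq_pow_mul_and_not_dvd (orderOf_pos x).ne' p hp.out.ne_one
  have hcop : Nat.Coprime (p ^ a) b := ((hp.out.coprime_iff_not_dvd).2 hb).pow_left a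
  obtain ⟨t, ht0, ht1⟩ := Nat.chineseRemainder hcop 0 1
  refine ⟨x ^ t, ?_, fun h => hb (h.trans ?_)⟩
  · rw [map_pow]
    have hob : orderOf (f x) ∣ b :=
      Nat.Coprime.dvd_of_dvd_mul_left
        ((Nat.coprime_comm.1 ((hp.out.coprime_iff_not_dvd).2 hy)).pow_right a)
        (hab ▸ orderOf_map_dvd f x)
    conv_rhs => rw [← pow_one (f x)]
    exact pow_eq_pow_iff_modEq.2 (ht1.of_dvd hob)
  · refine orderOf_dvd_of_pow_eq_one ?_
    rw [← pow_mul]
    refine orderOf_dvd_iff_pow_eq_one.1 ?_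
    rw [hab]
    exact Nat.mul_dvd_mul_right (Nat.modEq_zero_iff_dvd.1 ht0) b

theorem card_regular_add_le {ι : Type*} [Finite ι] (f : G →* Q) (hf : Function.Surjective f) (t : ι → G)
    (ht : ∀ i, f (t i) = 1) (ht1 : ∀ i, t i ≠ 1) (htr : ∀ i, ¬ p ∣ orderOf (t i))
    (hne : ∀ i j, ConjClasses.mk (t i) = ConjClasses.mk (t j) → i = j) :
    Nat.card (RegClass p Q) + Nat.card ι ≤ Nat.card (RegClass p G) := by
  classical
  have hsel : ∀ c : RegClass p Q, ∃ x : G, ConjClasses.mk (f x) = c.1 ∧ ¬ p ∣ orderOf x ∧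
      (c.1 = ConjClasses.mk 1 → x = 1) := by
    rintro ⟨c, y, hy, hyr⟩
    by_cases h1 : c = ConjClasses.mk 1
    · refine ⟨1, ?_, by rw [orderOf_one]; exact hp.out.not_dvd_one, fun _ => rfl⟩
      show ConjClasses.mk (f 1) = c
      rw [map_one, h1]
    · obtain ⟨x, hx, hxr⟩ := exists_regular_preimage f hf hyr
      exact ⟨x, by rw [hx]; exact hy, hxr, fun h => absurd h h1⟩
  choose x hx hxr hx1 using hsel
  rw [← Nat.card_sum]
  refine Nat.card_le_card_of_injective (Sum.elim (fun c => (⟨ConjClasses.mk (x c), x c, rfl, hxr c⟩ : RegClass p G))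
    (fun i => ⟨ConjClasses.mk (t i), t i, rfl, htr i⟩)) ?_
  have hmap : ∀ {a b : G}, ConjClasses.mk a = ConjClasses.mk b →
      ConjClasses.mk (f a) = ConjClasses.mk (f b) := fun h =>
    ConjClasses.mk_eq_mk_iff_isConj.2 (f.map_isConj (ConjClasses.mk_eq_mk_iff_isConj.1 h))
  have hsep : ∀ c i, ConjClasses.mk (x c) ≠ ConjClasses.mk (t i) := by
    intro c i h
    have h2 := hmap h
    rw [hx, ht] at h2
    rw [hx1 c h2] at h
    exact ht1 i (isConj_one_left.1 (ConjClasses.mk_eq_mk_iff_isConj.1 h.symm))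
  rintro (c | i) (d | j) h
  · exact congrArg Sum.inl (Subtype.ext (by rw [← hx c, ← hx d]; exact hmap (congrArg Subtype.val h)))
  · exact absurd (congrArg Subtype.val h) (hsep c j)
  · exact absurd (congrArg Subtype.val h).symm (hsep d i)
  · exact congrArg Sum.inr (hne i j (congrArg Subtype.val h))

theorem card_regular_le (f : G →* Q) (hf : Function.Surjective f) :
    Nat.card (RegClass p Q) ≤ Nat.card (RegClass p G) := by
  have := card_regular_add_le (p := p) (ι := Empty) f hf Empty.elim (fun i => i.elim) (fun i => i.elim)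
    (fun i => i.elim) (fun i => i.elim)
  simpa using this

theorem card_regular_eq_card_of_coprime (h : ¬ p ∣ Nat.card G) :
    Nat.card (RegClass p G) = Nat.card (ConjClasses G) :=
  Nat.card_congr (Equiv.subtypeUnivEquiv fun c => by
    obtain ⟨g, rfl⟩ := ConjClasses.mk_surjective c
    exact ⟨g, rfl, fun hd => h (hd.trans (orderOf_dvd_natCard g))⟩)

/-- With a normal `p`-subgroup and a `p'`-complement `H` there are exactly `k(H)` classes of `p`-regular elements. -/
theorem card_regular_of_complement (V : Subgroup G) [V.Normal] (hVexp : ∀ v ∈ V, v ^ p = 1)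
    (hcomm : ∀ a ∈ V, ∀ b ∈ V, a * b = b * a) (hidx : ¬ p ∣ V.index) (H : Subgroup G)
    (hGV : Subgroup.IsComplement' V H) :
    Nat.card (RegClass p G) = Nat.card (ConjClasses H) := by
  classical
  have hreg : ∀ h : H, ¬ p ∣ orderOf (h : G) := fun h => by
    rw [Subgroup.orderOf_coe]
    exact fun hd => hidx ((hd.trans (orderOf_dvd_natCard h)).trans (dvd_of_eq hGV.symm.index_eq_card.symm))
  let F : ConjClasses H → RegClass p G := fun c =>
    ⟨ConjClasses.map H.subtype c, by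
      obtain ⟨h, rfl⟩ := ConjClasses.mk_surjective c
      exact ⟨(h : G), rfl, hreg h⟩⟩
  refine (Nat.card_congr (Equiv.ofBijective F ⟨?_, ?_⟩)).symm
  · intro c d h
    obtain ⟨a, rfl⟩ := ConjClasses.mk_surjective c
    obtain ⟨b, rfl⟩ := ConjClasses.mk_surjective d
    have h' : IsConj (a : G) (b : G) := ConjClasses.mk_eq_mk_iff_isConj.1 (congrArg Subtype.val h)
    obtain ⟨x, hx⟩ := isConj_iff.1 h'
    obtain ⟨⟨u, t⟩, rfl⟩ := hGV.2 x
    refine ConjClasses.mk_eq_mk_iff_isConj.2 (isConj_iff.2 ⟨t, ?_⟩)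
    have hmem : ((t * a * t⁻¹ * b⁻¹ : H) : G) ∈ V := by
      have e : ((t * a * t⁻¹ * b⁻¹ : H) : G) = (u : G)⁻¹ * ((b : G) * u * (b : G)⁻¹) := by
        simp only at hx
        push_cast
        rw [← hx]
        group
      rw [e]
      exact mul_mem (inv_mem u.2) (‹V.Normal›.conj_mem u u.2 b)
    have h1 : ((t * a * t⁻¹ * b⁻¹ : H) : G) = 1 :=
      Subgroup.mem_bot.1 (hGV.disjoint.le_bot ⟨hmem, (t * a * t⁻¹ * b⁻¹).2⟩)
    exact mul_inv_eq_one.1 (Subtype.ext h1)
  · rintro ⟨c, g, rfl, hg⟩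
    obtain ⟨⟨v, h⟩, rfl⟩ := hGV.2 g
    obtain ⟨u, -, v', hv', hcg, hu⟩ := exists_conj_commute V hVexp hcomm (hreg h) (v : G) v.2
    have hconj : ConjClasses.mk ((v : G) * h) = ConjClasses.mk (v' * (h : G)) :=
      ConjClasses.mk_eq_mk_iff_isConj.2 (isConj_iff.2 ⟨u, hu⟩)
    refine ⟨ConjClasses.mk h, Subtype.ext ?_⟩
    show ConjClasses.mk (h : G) = ConjClasses.mk ((v : G) * h)
    rw [hconj]
    congr 1
    set o := orderOf (v' * (h : G)) with ho
    have hop : ¬ p ∣ o := by rw [ho, ← orderOf_eq_of_mk_eq hconj]; exact hg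
    have h1 : v' ^ o * (h : G) ^ o = 1 := by
      rw [← (show Commute v' (h : G) from hcg).mul_pow, ho, pow_orderOf_eq_one]
    have h2 : v' ^ o = 1 := Subgroup.mem_bot.1 (hGV.disjoint.le_bot
      ⟨V.pow_mem hv' o, (eq_inv_of_mul_eq_one_left h1) ▸ H.inv_mem (H.pow_mem h.2 o)⟩)
    have h3 : orderOf v' ∣ Nat.gcd p o :=
      Nat.dvd_gcd (orderOf_dvd_of_pow_eq_one (hVexp v' hv')) (orderOf_dvd_of_pow_eq_one h2)
    rw [(hp.out.coprime_iff_not_dvd.2 hop : Nat.gcd p o = 1), Nat.dvd_one, orderOf_eq_one_iff] at h3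
    rw [h3, one_mul]

theorem mulEquiv_affine (V : Subgroup G) [V.Normal] (hV : Nat.card V = p)
    (hself : Subgroup.centralizer (V : Set G) = V) (H : Subgroup G) (hGV : Subgroup.IsComplement' V H)
    (hH : Nat.card H = p - 1) : Nonempty (G ≃* Cfsg.affineGroup (ZMod p)) := by
  classical
  haveI : IsCyclic V := isCyclic_of_prime_card hV
  obtain ⟨v₀, hv₀⟩ := IsCyclic.exists_ofOrder_eq_natCard (α := V)
  rw [hV] at hv₀
  have hv0o : orderOf (v₀ : G) = p := by rw [Subgroup.orderOf_coe, hv₀]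
  have hcomm := commute_of_centralizer_eq hself
  -- the points
  let β : ZMod p → G ⧸ H := fun t => QuotientGroup.mk ((v₀ : G) ^ t.val)
  have hcoset : ∀ a ∈ V, ∀ b ∈ V, (QuotientGroup.mk a : G ⧸ H) = QuotientGroup.mk b → a = b := by
    intro a ha b hb h
    exact inv_mul_eq_one.1 (Subgroup.mem_bot.1 (hGV.disjoint.le_bot
      ⟨V.mul_mem (V.inv_mem ha) hb, QuotientGroup.eq.1 h⟩))
  have hvV : ∀ i : ℕ, (v₀ : G) ^ i ∈ V := fun i => V.pow_mem v₀.2 i
  have hβinj : Function.Injective β := fun s t h => by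
    have h1 := pow_eq_pow_iff_modEq.1 (hcoset _ (hvV _) _ (hvV _) h)
    rw [hv0o] at h1
    exact ZMod.val_injective p (Nat.ModEq.eq_of_lt_of_lt h1 (ZMod.val_lt s) (ZMod.val_lt t))
  have hidx : H.index = p := hV ▸ hGV.index_eq_card
  have hβ : Function.Bijective β := hβinj.bijective_of_nat_card_le (by
    rw [Nat.card_zmod]; exact le_of_eq hidx)
  let E : ZMod p ≃ G ⧸ H := Equiv.ofBijective β hβ
  let φ : G →* Equiv.Perm (ZMod p) := (E.symm.permCongrHom.toMonoidHom).comp (MulAction.toPermHom G (G ⧸ H))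
  have hφ : ∀ (x : G) (t : ZMod p), β (φ x t) = x • β t := fun x t => E.apply_symm_apply _
  have hgen : ∀ y : V, ∃ i : ℕ, (v₀ : G) ^ i = y := fun y => by
    have htop : Subgroup.zpowers v₀ = ⊤ := Subgroup.eq_top_of_card_eq _ (by rw [Nat.card_zpowers, hv₀, hV])
    obtain ⟨i, hi⟩ := (mem_powers_iff_mem_zpowers).2 (htop.ge (Subgroup.mem_top y))
    exact ⟨i, congrArg Subtype.val hi⟩
  have hinj : Function.Injective φ := by
    rw [injective_iff_map_eq_one]
    intro x hx
    have hfix : ∀ t, x • β t = β t := fun t => by rw [← hφ, hx]; rfl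
    have hxH : x ∈ H := by
      have h := hfix 0
      simp only [β, ZMod.val_zero, pow_zero, MulAction.Quotient.smul_mk, smul_eq_mul, mul_one] at h
      simpa using QuotientGroup.eq.1 h.symm
    have hxV : x ∈ V := by
      refine hself.le (Subgroup.mem_centralizer_iff.2 fun u hu => ?_)
      obtain ⟨i, hi⟩ := hgen ⟨u, hu⟩
      replace hi : (v₀ : G) ^ i = u := hi
      have h := hfix (i : ZMod p)
      have h2 : (v₀ : G) ^ (i : ZMod p).val = u := by
        rw [← hi]; refine pow_eq_pow_iff_modEq.2 ?_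
        rw [hv0o, ZMod.val_natCast]; exact Nat.mod_modEq i p
      simp only [β, h2, MulAction.Quotient.smul_mk, smul_eq_mul] at h
      have h3 : x * u * x⁻¹ = u := by
        refine hcoset _ (‹V.Normal›.conj_mem u hu x) u hu (Eq.trans (QuotientGroup.eq.2 ?_) h)
        rw [show (x * u * x⁻¹)⁻¹ * (x * u) = x by group]
        exact hxH
      exact (mul_inv_eq_iff_eq_mul.1 h3).symm
    exact Subgroup.mem_bot.1 (hGV.disjoint.le_bot ⟨hxV, hxH⟩)
  have hrange : φ.range ≤ Cfsg.affineGroup (ZMod p) := by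
    rintro _ ⟨x, rfl⟩
    obtain ⟨⟨u, h⟩, rfl⟩ := hGV.2 x
    obtain ⟨i, hi⟩ := hgen ⟨(h : G) * v₀ * (h : G)⁻¹, ‹V.Normal›.conj_mem _ v₀.2 _⟩
    obtain ⟨j, hj⟩ := hgen u
    have hi0 : (i : ZMod p) ≠ 0 := by
      intro h0
      rw [ZMod.natCast_eq_zero_iff] at h0
      have h1 : (v₀ : G) ^ i = 1 := orderOf_dvd_iff_pow_eq_one.1 (hv0o.symm ▸ h0)
      rw [hi] at h1
      rw [conj_eq_one_iff] at h1
      rw [h1, orderOf_one] at hv0o
      exact hp.out.one_lt.ne hv0o
    refine ⟨Units.mk0 _ hi0, (j : ZMod p), fun t => hβinj ?_⟩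
    rw [hφ]
    show (QuotientGroup.mk ((u : G) * h * (v₀ : G) ^ t.val) : G ⧸ H) = _
    have e2 : (v₀ : G) ^ ((Units.mk0 _ hi0 : (ZMod p)ˣ) * t + (j : ZMod p) : ZMod p).val =
        (u : G) * ((h : G) * (v₀ : G) ^ t.val * (h : G)⁻¹) := by
      have hji : (v₀ : G) ^ (j + i * t.val) = (u : G) * ((h : G) * (v₀ : G) ^ t.val * (h : G)⁻¹) := by
        rw [pow_add, hj, pow_mul, hi, conj_pow]
      rw [← hji]
      refine pow_eq_pow_iff_modEq.2 ?_
      rw [hv0o, ← ZMod.natCast_eq_natCast_iff]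
      push_cast
      rw [ZMod.natCast_zmod_val, Units.val_mk0, ZMod.natCast_zmod_val]
      ring
    show _ = (QuotientGroup.mk _ : G ⧸ H)
    rw [e2, QuotientGroup.eq]
    rw [show ((u : G) * h * (v₀ : G) ^ t.val)⁻¹ * ((u : G) * ((h : G) * (v₀ : G) ^ t.val * (h : G)⁻¹)) =
      (h : G)⁻¹ by group]
    exact inv_mem h.2
  refine ⟨(MonoidHom.ofInjective hinj).trans (MulEquiv.subgroupCongr (Subgroup.eq_of_le_of_card_ge hrange ?_))⟩
  have hG : Nat.card G = p * (p - 1) := by rw [← hGV.card_mul, hV, hH]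
  rw [Nat.card_congr (MonoidHom.ofInjective hinj).symm.toEquiv, hG]
  let D : Cfsg.affineGroup (ZMod p) → ZMod p × (ZMod p)ˣ := fun σ =>
    (σ.2.choose_spec.choose, σ.2.choose)
  have hD : Function.Injective D := by
    intro σ τ h
    refine Subtype.ext (Equiv.ext fun t => ?_)
    rw [σ.2.choose_spec.choose_spec t, τ.2.choose_spec.choose_spec t]
    simp only [D, Prod.mk.injEq] at h
    rw [h.1, h.2]
  refine (Nat.card_le_card_of_injective D hD).trans (le_of_eq ?_)
  rw [Nat.card_prod, Nat.card_zmod, Nat.card_units, Nat.card_zmod]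

end Cfsg.Agent.TransPPrime
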