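/-
The exceptional case `SL(2,5)` on `11^2` with a nontrivial `11'`-core (namespace `Cfsg.Agent.TransPPrime`).

* `regular_ge_of_exception`: then there are at least `11` classes of `11`-regular elements
-/
import Cfsg.Agent.Lib.TransPPrime.Regular
import Cfsg.Agent.Lib.Codegree.Basic

set_option autoImplicit false
set_option linter.unusedSectionVars false
set_option linter.style.haveILetI false

namespace Cfsg.Agent.TransPPrime

/-- A noncyclic group of order `p ^ 2` acting on a `p'`-group fixes a nontrivial element by some nontrivial element. -/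
theorem exists_fixed_of_sq {M : Type*} [CommGroup M] {A : Type*} [Group A] [Finite A] [MulDistribMulAction A M]
    {p : ℕ} [hp : Fact p.Prime] (V : Subgroup A) (hV : Nat.card V = p ^ 2) (hexp : ∀ v ∈ V, v ^ p = 1)
    (hcomm : ∀ a ∈ V, ∀ b ∈ V, a * b = b * a) {n : M} (hn : n ^ p ≠ 1) :
    ∃ z ∈ V, z ≠ 1 ∧ ∃ m : M, m ≠ 1 ∧ z • m = m := by
  classical
  by_contra hcon
  push Not at hcon
  have hfix : ∀ z ∈ V, z ≠ 1 → ∀ w : M, ∏ j ∈ Finset.range p, z ^ j • w = 1 := by
    intro z hz hz1 w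
    by_contra hne
    refine hcon z hz hz1 _ hne ?_
    rw [Finset.smul_prod']
    have h1 : ∀ j, z • z ^ j • w = z ^ (j + 1) • w := fun j => by rw [smul_smul, ← pow_succ']
    rw [Finset.prod_congr rfl fun j _ => h1 j]
    have h2 := Finset.prod_range_succ (fun j => z ^ j • w) p
    rw [Finset.prod_range_succ' (fun j => z ^ j • w), hexp z hz, one_smul, pow_zero, one_smul] at h2
    exact mul_right_cancel h2
  have hne : V ≠ ⊥ := fun h => by
    rw [h, Subgroup.card_bot] at hV
    exact (Nat.one_lt_pow two_ne_zero hp.out.one_lt).ne hV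
  obtain ⟨y, hy, hy1⟩ := (Subgroup.bot_or_exists_ne_one V).resolve_left hne
  obtain ⟨x, hx, hxy⟩ : ∃ x ∈ V, x ∉ Subgroup.zpowers y := by
    by_contra h
    push Not at h
    have h1 := Subgroup.card_dvd_of_le (show V ≤ Subgroup.zpowers y from h)
    rw [hV, Nat.card_zpowers, orderOf_eq_prime (hexp y hy) hy1] at h1
    have h2 := Nat.le_of_dvd hp.out.pos h1
    have h3 := hp.out.two_le
    nlinarith
  have hxi : ∀ i, x * y ^ i ≠ 1 := fun i h => hxy (by
    rw [eq_inv_of_mul_eq_one_left h]; exact inv_mem (pow_mem (Subgroup.mem_zpowers y) i))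
  have hL : ∏ i ∈ Finset.range p, ∏ j ∈ Finset.range p, (x * y ^ i) ^ j • n = 1 :=
    Finset.prod_eq_one fun i _ => hfix _ (mul_mem hx (pow_mem hy i)) (hxi i) n
  have hpow : ∀ i j : ℕ, (x * y ^ i) ^ j • n = x ^ j • (y ^ j) ^ i • n := fun i j => by
    rw [(show Commute x (y ^ i) from hcomm x hx _ (pow_mem hy i)).mul_pow, ← smul_smul, ← pow_mul, ← pow_mul,
      mul_comm j i]
  refine hn ?_
  rw [Finset.prod_comm, Finset.prod_congr rfl fun j _ => Finset.prod_congr rfl fun i _ => hpow i j] at hL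
  rw [Finset.prod_eq_single 0] at hL
  · simpa using hL
  · intro j hj hj0
    rw [← Finset.smul_prod', hfix (y ^ j) (pow_mem hy j) ?_ n, smul_one]
    intro h
    have h1 := orderOf_dvd_of_pow_eq_one h
    rw [orderOf_eq_prime (hexp y hy) hy1] at h1
    have := Nat.le_of_dvd (Nat.pos_of_ne_zero hj0) h1
    have := Finset.mem_range.1 hj
    omega
  · exact fun h => absurd (Finset.mem_range.2 hp.out.pos) h

theorem square_cases : ∀ x < 121, ∀ d < 121, 120 % x ≠ 0 ∨ d * d ≠ 120 * x ∨ x = 30 ∨ x = 120 := by decide +kernel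

theorem regular_ge_of_exception {G : Type*} [Group G] [Finite G] (h11 : Nat.Prime 11) (N : Subgroup G) [N.Normal]
    (hNp : ¬ 11 ∣ Nat.card N) (hN : N ≠ ⊥) (V : Subgroup (G ⧸ N)) [V.Normal] (hVexp : ∀ v ∈ V, v ^ 11 = 1)
    (hself : Subgroup.centralizer (V : Set (G ⧸ N)) = V) (hV : Nat.card V = 121) (H : Subgroup (G ⧸ N))
    (hGV : Subgroup.IsComplement' V H)
    (htrans : ∀ v ∈ V, ∀ w ∈ V, v ≠ 1 → w ≠ 1 → ∃ g ∈ H, g * v * g⁻¹ = w) (hH : Nat.card H = 120)
    (hk : Nat.card (ConjClasses H) = 9) : 11 ≤ Nat.card (RegClass 11 G) := by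
  classical
  haveI : Fact (Nat.Prime 11) := ⟨h11⟩
  have hcomm := commute_of_centralizer_eq hself
  have hidx : V.index = 120 := hGV.symm.index_eq_card.trans hH
  have hidx' : ¬ 11 ∣ V.index := by rw [hidx]; norm_num
  have hreg : Nat.card (RegClass 11 (G ⧸ N)) = 9 := by
    rw [card_regular_of_complement V hVexp hcomm hidx' H hGV, hk]
  have hregN : ∀ a ∈ N, ¬ 11 ∣ orderOf a := fun a ha h =>
    hNp (h.trans (Subgroup.orderOf_mk a ha ▸ orderOf_dvd_natCard (⟨a, ha⟩ : N)))
  set π := QuotientGroup.mk' N with hπ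
  -- one class of nontrivial elements
  by_contra hlt
  push Not at hlt
  have hone : ∀ a ∈ N, ∀ b ∈ N, a ≠ 1 → b ≠ 1 → IsConj a b := by
    intro a ha b hb ha1 hb1
    by_contra hab
    have hne : ∀ i j : Fin 2, ConjClasses.mk (![a, b] i) = ConjClasses.mk (![a, b] j) → i = j := by
      intro i j h
      rw [ConjClasses.mk_eq_mk_iff_isConj] at h
      fin_cases i <;> fin_cases j
      · rfl
      · exact absurd (by simpa using h) hab
      · exact absurd (by simpa using h.symm) hab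
      · rfl
    have h2 := card_regular_add_le (p := 11) π (QuotientGroup.mk'_surjective N) ![a, b]
      (fun i => (QuotientGroup.eq_one_iff _).2 (by fin_cases i <;> simpa))
      (fun i => by fin_cases i <;> simpa)
      (fun i => by fin_cases i <;> simp [hregN a ha, hregN b hb]) hne
    rw [hreg, Nat.card_fin] at h2
    omega
  -- `N` is elementary abelian
  obtain ⟨r, hr, hrN⟩ := Nat.exists_prime_and_dvd (show Nat.card N ≠ 1 from fun h => hN (Subgroup.card_eq_one.1 h))
  haveI : Fact r.Prime := ⟨hr⟩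
  obtain ⟨n₀, hn₀⟩ := exists_prime_orderOf_dvd_card' (G := N) r hrN
  have hn₀1 : (n₀ : G) ≠ 1 := fun h => hr.one_lt.ne (by rw [← hn₀, ← Subgroup.orderOf_coe, h, orderOf_one])
  have hordN : ∀ a : N, a ≠ 1 → orderOf a = r := fun a ha => by
    rw [← hn₀, ← Subgroup.orderOf_coe, ← Subgroup.orderOf_coe n₀]
    exact orderOf_eq_of_mk_eq (ConjClasses.mk_eq_mk_iff_isConj.2
      (hone _ a.2 _ n₀.2 (fun h => ha (Subtype.ext h)) hn₀1))
  have hNr : IsPGroup r N := fun a => by
    rcases eq_or_ne a 1 with rfl | ha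
    · exact ⟨0, by simp⟩
    · exact ⟨1, by rw [pow_one, ← hordN a ha, pow_orderOf_eq_one]⟩
  haveI : Nontrivial N := (Subgroup.nontrivial_iff_ne_bot N).2 hN
  have hNc : ∀ a b : N, a * b = b * a := by
    haveI := hNr.center_nontrivial
    obtain ⟨c, hc⟩ := exists_ne (1 : Subgroup.center N)
    have hc1 : ((c : N) : G) ≠ 1 := fun h => hc (Subtype.ext (Subtype.ext h))
    intro a b
    rcases eq_or_ne a 1 with rfl | ha
    · rw [one_mul, mul_one]
    obtain ⟨g, hg⟩ := isConj_iff.1 (hone _ (c : N).2 _ a.2 hc1 (fun h => ha (Subtype.ext h)))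
    have hb : g⁻¹ * (b : G) * g ∈ N := by simpa using ‹N.Normal›.conj_mem _ b.2 g⁻¹
    have h1 : g⁻¹ * (b : G) * g * c = (c : G) * (g⁻¹ * b * g) :=
      congrArg Subtype.val (Subgroup.mem_center_iff.1 c.2 ⟨_, hb⟩)
    refine Subtype.ext ?_
    push_cast
    rw [← hg]
    calc g * ((c : N) : G) * g⁻¹ * b = g * (((c : N) : G) * (g⁻¹ * b * g)) * g⁻¹ := by group
      _ = g * (g⁻¹ * b * g * ((c : N) : G)) * g⁻¹ := by rw [h1]
      _ = _ := by group
  letI : CommGroup N := { (inferInstance : Group N) with mul_comm := hNc }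
  let φ : G ⧸ N →* MulAut N := QuotientGroup.lift N (MulAut.conjNormal (H := N)) fun a ha => by
    refine MulEquiv.ext fun b => Subtype.ext ?_
    rw [MulAut.conjNormal_apply, show a * (b : G) = b * a from congrArg Subtype.val (hNc ⟨a, ha⟩ b),
      mul_inv_cancel_right]
    rfl
  letI act : MulDistribMulAction (G ⧸ N) N := MulDistribMulAction.compHom N φ
  have hact : ∀ (g : G) (a : N), ((π g • a : N) : G) = g * a * g⁻¹ := fun g a => MulAut.conjNormal_apply g a
  have htr : ∀ a b : N, a ≠ 1 → b ≠ 1 → ∃ y : G ⧸ N, y • a = b := fun a b ha hb => by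
    obtain ⟨g, hg⟩ := isConj_iff.1 (hone _ a.2 _ b.2 (fun h => ha (Subtype.ext h)) (fun h => hb (Subtype.ext h)))
    exact ⟨π g, Subtype.ext ((hact g a).trans hg)⟩
  by_cases htriv : ∀ v ∈ V, ∀ a : N, v • a = a
  swap
  · -- `V` moves `N`
    let L : N → Subgroup (G ⧸ N) := fun a => V ⊓ MulAction.stabilizer (G ⧸ N) a
    have hmemL : ∀ {a : N} {v : G ⧸ N}, v ∈ L a ↔ v ∈ V ∧ v • a = a := Iff.rfl
    have hconjL : ∀ (y : G ⧸ N) (a : N) (v : G ⧸ N), v ∈ L a → y * v * y⁻¹ ∈ L (y • a) := fun y a v hv =>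
      hmemL.2 ⟨‹V.Normal›.conj_mem v (hmemL.1 hv).1 y, by
        rw [← smul_smul, ← smul_smul, inv_smul_smul, (hmemL.1 hv).2]⟩
    have hLV : ∀ a : N, a ≠ 1 → L a ≠ V := by
      intro a ha h
      refine htriv fun v hv b => ?_
      rcases eq_or_ne b 1 with rfl | hb
      · exact smul_one v
      obtain ⟨y, rfl⟩ := htr a b ha hb
      have h1 := hconjL y a (y⁻¹ * v * y) (by rw [h]; simpa using ‹V.Normal›.conj_mem v hv y⁻¹)
      rw [show y * (y⁻¹ * v * y) * y⁻¹ = v by group] at h1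
      exact (hmemL.1 h1).2
    obtain ⟨z₁, hz₁, hz₁1, m₁, hm₁, hzm⟩ := exists_fixed_of_sq (p := 11) V (by rw [hV]; norm_num) hVexp hcomm
      (n := n₀) (fun h => hNp (by
        have h1 := orderOf_dvd_of_pow_eq_one h
        rw [hn₀] at h1
        rw [← (Nat.prime_dvd_prime_iff_eq hr h11).1 h1]
        exact hrN))
    have hline : ∀ a : N, a ≠ 1 → ∀ v ∈ L a, ∀ w ∈ L a, v ≠ 1 → w ∈ Subgroup.zpowers v := by
      intro a ha v hv w hw hv1
      have hlt' : Nat.card (L a) ∣ 11 ^ 2 := by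
        rw [show (11 : ℕ) ^ 2 = Nat.card V by rw [hV]; norm_num]
        exact Subgroup.card_dvd_of_le inf_le_left
      obtain ⟨i, hi, hi'⟩ := (Nat.dvd_prime_pow h11).1 hlt'
      have hi1 : i ≤ 1 := by
        by_contra h2
        refine hLV a ha (Subgroup.eq_of_le_of_card_ge inf_le_left ?_)
        rw [hi', hV, show i = 2 by omega]; norm_num
      have hle : Subgroup.zpowers v ≤ L a := Subgroup.zpowers_le.2 hv
      rw [Subgroup.eq_of_le_of_card_ge hle ?_]
      · exact hw
      rw [hi', Nat.card_zpowers, orderOf_eq_prime (hVexp v (hmemL.1 hv).1) hv1]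
      exact (Nat.pow_le_pow_right (by norm_num) hi1).trans (le_of_eq (pow_one _))
    obtain ⟨z₂, hz₂, hz₂L⟩ : ∃ z ∈ V, z ∉ L m₁ := by
      by_contra h
      push Not at h
      exact hLV m₁ hm₁ (le_antisymm inf_le_left h)
    have hz₂1 : z₂ ≠ 1 := fun h => hz₂L (h ▸ one_mem _)
    obtain ⟨y, -, hy⟩ := htrans z₁ hz₁ z₂ hz₂ hz₁1 hz₂1
    set m₂ := y • m₁ with hm₂def
    have hm₂ : m₂ ≠ 1 := fun h => hm₁ (by rw [← inv_smul_smul y m₁, ← hm₂def, h, smul_one])
    have hz₂m : z₂ ∈ L m₂ := hy ▸ hconjL y m₁ z₁ (hmemL.2 ⟨hz₁, hzm⟩)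
    have hL1 : z₁ ∈ L m₁ := hmemL.2 ⟨hz₁, hzm⟩
    have hboth : ∀ a : N, z₁ ∈ L a → z₂ ∈ L a → a = 1 := by
      intro a h1 h2
      by_contra ha
      exact hz₂L (Subgroup.zpowers_le.2 hL1 (hline a ha z₁ h1 z₂ h2 hz₁1))
    set m := m₁ * m₂ with hmdef
    have hm : m ≠ 1 := by
      intro h
      refine hm₁ (hboth m₁ hL1 (hmemL.2 ⟨hz₂, ?_⟩))
      rw [eq_inv_of_mul_eq_one_left h, smul_inv', (hmemL.1 hz₂m).2]
    obtain ⟨u, hu⟩ := htr m₁ m hm₁ hm
    set z := u * z₁ * u⁻¹ with hzdef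
    have hz : z ∈ L m := hu ▸ hconjL u m₁ z₁ hL1
    have hz1 : z ≠ 1 := fun h => hz₁1 (conj_eq_one_iff.1 h)
    obtain ⟨hzV, hzfix⟩ := hmemL.1 hz
    set d := m₁⁻¹ * z • m₁ with hd
    have hd' : d = m₂ * (z • m₂)⁻¹ := by
      have h1 : z • m₁ * z • m₂ = m₁ * m₂ := by rw [← smul_mul']; exact hzfix
      rw [hd, eq_mul_inv_iff_mul_eq, mul_assoc, h1, inv_mul_cancel_left]
    have hfix : ∀ (t : G ⧸ N) (a : N), t ∈ V → t • a = a → t • (z • a) = z • a := fun t a ht hta => by
      rw [smul_smul, hcomm t ht z hzV, ← smul_smul, hta]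
    have hd1 : d = 1 := by
      refine hboth d (hmemL.2 ⟨hz₁, ?_⟩) (hmemL.2 ⟨hz₂, ?_⟩)
      · rw [hd, smul_mul', smul_inv', hfix z₁ m₁ hz₁ hzm, hzm]
      · rw [hd', smul_mul', smul_inv', hfix z₂ m₂ hz₂ (hmemL.1 hz₂m).2, (hmemL.1 hz₂m).2]
    have hz_m₁ : z • m₁ = m₁ := by
      rw [hd, inv_mul_eq_one] at hd1
      exact hd1.symm
    have hz_m₂ : z • m₂ = m₂ := by
      have h1 : z • m₁ * z • m₂ = m₁ * m₂ := by rw [← smul_mul']; exact hzfix
      rw [hz_m₁] at h1
      exact mul_left_cancel h1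
    have hz1L : z₂ ∈ L m₁ := by
      have h1 := hline m₁ hm₁ z (hmemL.2 ⟨hzV, hz_m₁⟩) z₁ hL1 hz1
      have h2 := hline m₂ hm₂ z (hmemL.2 ⟨hzV, hz_m₂⟩) z₂ hz₂m hz1
      exact Subgroup.zpowers_le.2 (hmemL.2 ⟨hzV, hz_m₁⟩) h2
    exact hz₂L hz1L
  -- `V` centralizes `N`
  set W := V.comap π with hW
  have hNW : N ≤ W := fun a ha => by
    show π a ∈ V
    rw [show π a = 1 from (QuotientGroup.eq_one_iff a).2 ha]; exact one_mem V
  have hWN : ∀ w ∈ W, ∀ a ∈ N, w * a = a * w := by
    intro w hw a ha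
    have h := (hact w ⟨a, ha⟩).symm.trans (congrArg Subtype.val (htriv _ hw ⟨a, ha⟩))
    exact mul_inv_eq_iff_eq_mul.1 h
  have hWcard : Nat.card W = Nat.card N * 121 := by
    rw [← hV, show Nat.card W = Nat.card ((QuotientGroup.mk : G → G ⧸ N) ⁻¹' (V : Set (G ⧸ N))) from rfl,
      Nat.card_congr (QuotientGroup.preimageMkEquivSubgroupProdSet N (V : Set (G ⧸ N))), Nat.card_prod]
    rfl
  haveI hWn : W.Normal := ‹V.Normal›.comap π
  let R : Sylow 11 W := default
  have hRn : (R : Subgroup W).Normal := by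
    rw [← Subgroup.normalizer_eq_top_iff]
    have hle : N.subgroupOf W ≤ Subgroup.normalizer ((R : Subgroup W) : Set W) := by
      refine le_trans ?_ (Subgroup.centralizer_le_normalizer _)
      intro a ha
      rw [Subgroup.mem_centralizer_iff]
      intro w _
      exact Subtype.ext (hWN w w.2 a (Subgroup.mem_subgroupOf.1 ha))
    refine Subgroup.index_eq_one.1 (Nat.eq_one_of_dvd_coprimes (a := 121) (b := Nat.card N) ?_ ?_ ?_)
    · exact Nat.Coprime.pow_left 2 ((h11.coprime_iff_not_dvd).2 hNp)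
    · refine (Subgroup.index_dvd_of_le hle).trans (dvd_of_eq ?_)
      refine Nat.eq_of_mul_eq_mul_left (Nat.card_pos (α := N.subgroupOf W)) ?_
      rw [Subgroup.card_mul_index, Nat.card_congr (Subgroup.subgroupOfEquivOfLe hNW).toEquiv, hWcard]
    · refine (Subgroup.index_dvd_of_le (Subgroup.le_normalizer (H := (R : Subgroup W)))).trans ?_
      have hi : (R : Subgroup W).index ∣ Nat.card N * 121 := hWcard ▸ Subgroup.index_dvd_card _
      exact (Nat.Coprime.pow_right 2 (Nat.coprime_comm.1 ((h11.coprime_iff_not_dvd).2 R.not_dvd_index))).dvd_of_dvd_mul_right hi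
  haveI := hRn
  haveI := Sylow.unique_of_normal R hRn
  haveI : (R : Subgroup W).Characteristic := Sylow.characteristic_of_subsingleton R
  set P := (R : Subgroup W).map W.subtype with hP
  haveI hPn : P.Normal := ConjAct.normal_of_characteristic_of_normal
  have hPcard : Nat.card P = 121 := by
    rw [hP, Subgroup.card_subtype]
    obtain ⟨i, hi⟩ := IsPGroup.iff_card.1 R.isPGroup'
    have h1 := (R : Subgroup W).card_mul_index
    rw [hWcard, hi] at h1
    have hd : 11 ^ i ∣ 11 ^ 2 :=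
      ((Nat.Coprime.pow_left i ((h11.coprime_iff_not_dvd).2 hNp))).dvd_of_dvd_mul_left
        ⟨(R : Subgroup W).index, by rw [h1, show (11 : ℕ) ^ 2 = 121 by norm_num]⟩
    have hd' : 11 ^ 2 ∣ 11 ^ i :=
      (Nat.Coprime.pow_left 2 ((h11.coprime_iff_not_dvd).2 R.not_dvd_index)).dvd_of_dvd_mul_right
        ⟨Nat.card N, by rw [h1]; ring⟩
    rw [hi]
    have := Nat.dvd_antisymm hd hd'
    omega
  have hPW : P ≤ W := Subgroup.map_subtype_le _
  set π' := QuotientGroup.mk' P with hπ'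
  set g : G →* H := (hGV.symm.QuotientMulEquiv.toMonoidHom.comp (QuotientGroup.mk' V)).comp π with hg
  have hgs : Function.Surjective g := by
    intro h
    obtain ⟨q, rfl⟩ := hGV.symm.QuotientMulEquiv.surjective h
    obtain ⟨y, rfl⟩ := QuotientGroup.mk'_surjective V q
    obtain ⟨x, rfl⟩ := QuotientGroup.mk'_surjective N y
    exact ⟨x, rfl⟩
  have hgker : ∀ x, g x = 1 ↔ x ∈ W := fun x => by
    show hGV.symm.QuotientMulEquiv (QuotientGroup.mk' V (π x)) = 1 ↔ π x ∈ V
    rw [map_eq_one_iff _ hGV.symm.QuotientMulEquiv.injective]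
    exact QuotientGroup.eq_one_iff (π x)
  let g' : G ⧸ P →* H := QuotientGroup.lift P g fun x hx => (hgker x).2 (hPW hx)
  have hgs' : Function.Surjective g' := fun h => by
    obtain ⟨x, rfl⟩ := hgs h
    exact ⟨π' x, rfl⟩
  set M := g'.ker
  have hMidx : M.index = 120 := by
    rw [Subgroup.index_ker, MonoidHom.range_eq_top.2 hgs', Subgroup.card_top, hH]
  have hYcard : Nat.card (G ⧸ P) = Nat.card N * 120 := by
    have h1 := Subgroup.card_eq_card_quotient_mul_card_subgroup P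
    have h2 := Subgroup.card_eq_card_quotient_mul_card_subgroup N
    have h3 := V.card_mul_index
    rw [hPcard] at h1
    rw [← h3, hV, hidx] at h2
    refine Nat.eq_of_mul_eq_mul_right (show 0 < 121 by norm_num) ?_
    rw [← h1, h2]
    ring
  have hYcop : ¬ 11 ∣ Nat.card (G ⧸ P) := by
    rw [hYcard, h11.dvd_mul]
    exact not_or.2 ⟨hNp, by norm_num⟩
  have hkY : Nat.card (ConjClasses (G ⧸ P)) ≤ 10 := by
    rw [← card_regular_eq_card_of_coprime (p := 11) hYcop]
    exact (card_regular_le π' (QuotientGroup.mk'_surjective P)).trans (by omega)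
  letI := Fintype.ofFinite (G ⧸ P)
  haveI := Fintype.ofFinite (Cfsg.IrrCharacter (G ⧸ P))
  rw [← Char.card_irr_eq_card_conjClasses, Nat.card_eq_fintype_card] at hkY
  set T := Finset.univ.filter (fun χ : Cfsg.IrrCharacter (G ⧸ P) => M ≤ Codegree.kerSub χ) with hT
  have hT9 : 9 ≤ T.card := by
    have h1 : Nat.card (Cfsg.IrrCharacter ((G ⧸ P) ⧸ M)) = 9 := by
      rw [Char.card_irr_eq_card_conjClasses, ← hk]
      let e := QuotientGroup.quotientKerEquivOfSurjective g' hgs'
      exact Nat.card_congr ⟨ConjClasses.map e.toMonoidHom, ConjClasses.map e.symm.toMonoidHom,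
        fun c => by
          obtain ⟨a, rfl⟩ := ConjClasses.mk_surjective c
          exact congrArg ConjClasses.mk (e.symm_apply_apply a),
        fun c => by
          obtain ⟨a, rfl⟩ := ConjClasses.mk_surjective c
          exact congrArg ConjClasses.mk (e.apply_symm_apply a)⟩
    rw [← h1, ← Nat.card_eq_finsetCard T]
    refine Nat.card_le_card_of_injective (fun ψ => (⟨Codegree.inflate M ψ, ?_⟩ : T)) fun ψ ψ' h => ?_
    · rw [hT, Finset.mem_filter]
      refine ⟨Finset.mem_univ _, fun x hx => ?_⟩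
      rw [Codegree.mem_kerSub, Codegree.inflate_apply, Codegree.inflate_apply, (QuotientGroup.eq_one_iff x).2 hx]
      rfl
    · refine Subtype.ext (funext fun q => ?_)
      obtain ⟨x, rfl⟩ := QuotientGroup.mk_surjective q
      exact congrFun (congrArg Subtype.val (congrArg Subtype.val h)) x
  have hsq : ∑ χ : Cfsg.IrrCharacter (G ⧸ P), Cfsg.charDegree (χ : G ⧸ P → ℂ) ^ 2 = Nat.card (G ⧸ P) := by
    have h1 := Char.sum_sq_degrees (G := G ⧸ P)
    rw [Finset.sum_congr rfl fun χ _ => by rw [TwoClassChar.deg_eq χ.2]] at h1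
    exact_mod_cast h1
  have hsqT : ∑ χ ∈ T, Cfsg.charDegree (χ : G ⧸ P → ℂ) ^ 2 = 120 := by
    have h1 := Codegree.index_sum (G := G ⧸ P) M
    rw [Finset.sum_congr rfl fun χ _ => by rw [TwoClassChar.deg_eq χ.2], hMidx] at h1
    rw [hT]
    exact_mod_cast h1
  rw [← Finset.sum_add_sum_compl T, hsqT, hYcard] at hsq
  obtain ⟨d, hd⟩ : ∃ d, d * d = 120 * (Nat.card N - 1) := by
    have hc : Tᶜ.card ≤ 1 := by
      rw [Finset.card_compl]
      omega
    rcases (show Tᶜ.card = 0 ∨ Tᶜ.card = 1 by omega) with h | h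
    · refine ⟨0, ?_⟩
      rw [Finset.card_eq_zero.1 h, Finset.sum_empty] at hsq
      have h1 : Nat.card N = 1 := by omega
      rw [h1]
    · obtain ⟨χ, hχ⟩ := Finset.card_eq_one.1 h
      rw [hχ, Finset.sum_singleton, pow_two] at hsq
      exact ⟨Cfsg.charDegree (χ : G ⧸ P → ℂ), by omega⟩
  -- `|N| - 1` divides `120`
  have hn₀1' : n₀ ≠ 1 := fun h => hn₀1 (by rw [h]; rfl)
  have horb : MulAction.orbit (G ⧸ N) n₀ = {a : N | a ≠ 1} := by
    ext a
    constructor
    · rintro ⟨u, rfl⟩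
      exact fun h => hn₀1' (by rw [← inv_smul_smul u n₀, show u • n₀ = 1 from h, smul_one])
    · exact fun ha => htr n₀ a hn₀1' ha
  have hN120 : Nat.card N - 1 ∣ 120 := by
    have h1 : (MulAction.stabilizer (G ⧸ N) n₀).index ∣ V.index :=
      Subgroup.index_dvd_of_le fun v hv => htriv v hv n₀
    rw [hidx, MulAction.index_stabilizer, horb, show {a : N | a ≠ 1} = ({1} : Set N)ᶜ from rfl,
      Set.ncard_compl, Set.ncard_singleton] at h1
    exact h1
  have hN2 : 2 ≤ Nat.card N := Finite.one_lt_card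
  have hx121 : Nat.card N - 1 < 121 := Nat.lt_succ_of_le (Nat.le_of_dvd (by norm_num) hN120)
  have hd121 : d < 121 := by
    by_contra h
    have := Nat.mul_le_mul (not_lt.1 h) (not_lt.1 h)
    omega
  rcases square_cases _ hx121 d hd121 with h | h | h | h
  · exact h (Nat.mod_eq_zero_of_dvd hN120)
  · exact h hd
  · -- `|N| = 31`
    haveI : Fact (Nat.Prime 31) := ⟨by norm_num⟩
    haveI : IsCyclic N := isCyclic_of_prime_card (p := 31) (by omega)
    have hab : ∀ f g : MulAut N, f * g = g * f := by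
      intro f g
      obtain ⟨a, ha⟩ := MonoidHom.map_cyclic f.toMonoidHom
      obtain ⟨b, hb⟩ := MonoidHom.map_cyclic g.toMonoidHom
      refine MulEquiv.ext fun x => ?_
      show f (g x) = g (f x)
      rw [show g x = x ^ b from hb x, show f x = x ^ a from ha x, map_zpow, map_zpow,
        show g x = x ^ b from hb x, show f x = x ^ a from ha x, ← zpow_mul, ← zpow_mul, mul_comm]
    let ψ : H →* MulAut N := φ.comp H.subtype
    haveI : Finite (MulAut N) := Finite.of_injective (fun f : MulAut N => (f : N → N)) DFunLike.coe_injective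
    have hle : Nat.card ψ.range ≤ Nat.card (ConjClasses H) := by
      refine Nat.card_le_card_of_surjective (Quotient.lift ψ.rangeRestrict fun a b hab' => ?_) fun f => ?_
      · obtain ⟨c, hc⟩ := isConj_iff.1 hab'
        rw [← hc, map_mul, map_mul, map_inv]
        refine Subtype.ext ?_
        push_cast
        rw [hab, ← mul_assoc, inv_mul_cancel, one_mul]
      · obtain ⟨x, hx⟩ := ψ.rangeRestrict_surjective f
        exact ⟨ConjClasses.mk x, hx⟩
    have hbig : Nat.card ({n₀}ᶜ : Set N) ≤ Nat.card ψ.range := by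
      have hsurj : ∀ a : N, a ≠ 1 → ∃ f ∈ ψ.range, f n₀ = a := by
        intro a ha
        obtain ⟨q, hq⟩ := htr n₀ a hn₀1' ha
        obtain ⟨⟨v, t⟩, rfl⟩ := hGV.2 q
        refine ⟨ψ t, ⟨t, rfl⟩, ?_⟩
        rw [← hq, ← smul_smul]
        exact (htriv v v.2 _).symm
      have h1 : Nat.card ({1}ᶜ : Set N) = Nat.card ({n₀}ᶜ : Set N) := by
        rw [Nat.card_coe_set_eq, Nat.card_coe_set_eq, Set.ncard_compl, Set.ncard_compl, Set.ncard_singleton,
          Set.ncard_singleton]
      rw [← h1]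
      choose f hf hfa using fun a : ({1}ᶜ : Set N) => hsurj a.1 a.2
      exact Nat.card_le_card_of_injective (fun a => (⟨f a, hf a⟩ : ψ.range)) fun a b hab' =>
        Subtype.ext (by rw [← hfa a, ← hfa b, show f a = f b from congrArg Subtype.val hab'])
    rw [Nat.card_coe_set_eq, Set.ncard_compl, Set.ncard_singleton] at hbig
    omega
  · exact hNp (by rw [show Nat.card N = 121 by omega]; norm_num)

end Cfsg.Agent.TransPPrime
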